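import Cfsg.Agent.Fischer.Cmp
import Cfsg.Agent.S2091
import Cfsg.Agent.S2053
import Cfsg.Agent.Schur.Lift
import Cfsg.Agent.Schur.Hopf

/-! Recognition of `Fi22`, `Fi23` from the centraliser `2·U₆(2)`, `2·Fi22` of an involution (helper24): `cover`
(a maximal cover maps onto every cover), partial homomorphisms `PH`, fusion, `main22`, `main23`. -/

set_option maxRecDepth 100000

namespace Cfsg.Agent.Fischer

open Subgroup Cfsg.Agent.Schur

variable {G G' : Type*} [Group G] [Group G'] {S D : Set G}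

theorem cover {Q L M A : Type*} [Group Q] [Group L] [Group M] [CommGroup A] [Finite L] [Finite M]
    (hQ : HasSchurMultiplier Q A) (s : Finset A) (hs : ∀ a, ∃ p ∈ s, ∃ b, a = p * (b * b)) {σ : L →* Q} {τ : M →* Q}
    (hσ : IsCentralExt σ) (hτ : IsCentralExt τ) (h1 : ∀ x ∈ σ.ker, x * x = 1) (h2 : ∀ x ∈ τ.ker, x * x = 1)
    (pL : Group.IsPerfect L) (pM : Group.IsPerfect M) (c : Nat.card Q * s.card ≤ Nat.card L) :
    Nat.card L = Nat.card Q * s.card ∧ ∃ ρ : L →* M, Function.Surjective ρ ∧ ∀ x, τ (ρ x) = σ x := by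
  let ρ := τ.comp (pullSnd σ τ)
  have h3 : ∀ x ∈ ρ.ker, x.1.1 ∈ σ.ker ∧ x.1.2 ∈ τ.ker := fun x hx => ⟨(show σ x.1.1 = τ x.1.2 from x.2).trans hx, hx⟩
  have hρ : IsCentralExt ρ := ⟨hτ.surj.comp (isCentralExt_pullSnd hσ τ).surj, fun x hx => mem_center_iff.2 fun y =>
    Subtype.ext (Prod.ext (mem_center_iff.1 (hσ.central (h3 x hx).1) _) (mem_center_iff.1 (hτ.central (h3 x hx).2) _))⟩
  obtain ⟨f, hf⟩ := exists_surj_mul hQ hρ
  have h4 : Nat.card (mul ρ) ≤ s.card := by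
    have : Function.Surjective fun p : s => f p := by
      intro z
      obtain ⟨a, rfl⟩ := hf z
      obtain ⟨p, hp, b, e⟩ := hs a
      have : f b * f b = 1 := Subtype.ext (Subtype.ext (Prod.ext (h1 _ (h3 _ (f b).2.1).1) (h2 _ (h3 _ (f b).2.1).2)))
      exact ⟨⟨p, hp⟩, by rw [e, map_mul, map_mul, this, mul_one]⟩
    simpa using Nat.card_le_card_of_surjective _ this
  have := finite_base_of_hasSchurMultiplier hQ
  have h5 : Nat.card (commutator (pullback σ τ)) ≤ Nat.card Q * s.card := by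
    let r := ρ.comp (commutator (pullback σ τ)).subtype
    rw [← r.ker.index_mul_card, index_ker]
    exact Nat.mul_le_mul (card_le_card_group _) ((Nat.card_le_card_of_injective
      (fun x : r.ker => (⟨x.1.1, x.2, x.1.2⟩ : mul ρ)) fun x y e =>
        Subtype.ext (Subtype.ext (Subtype.ext_iff.1 e :))).trans h4)
  have key : ∀ {N : Type _} [Group N] (p : pullback σ τ →* N), Group.IsPerfect N → Function.Surjective p →
      Function.Surjective (p.comp (commutator _).subtype) := fun p h hp x => by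
    have : x ∈ (commutator _).map p := by rw [map_commutator_of_surjective hp, Group.isPerfect_def.1 h]; trivial
    obtain ⟨y, hy, e⟩ := this
    exact ⟨⟨y, hy⟩, e⟩
  have key' : ∀ {N : Type _} [Group N] (p : pullback σ τ →* N), Group.IsPerfect N → Function.Surjective p →
      Function.Surjective (p.comp (commutator _).subtype) := fun p h hp x => by
    have : x ∈ (commutator _).map p := by rw [map_commutator_of_surjective hp, Group.isPerfect_def.1 h]; trivial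
    obtain ⟨y, hy, e⟩ := this
    exact ⟨⟨y, hy⟩, e⟩
  have s1 := key (pullFst σ τ) pL fun x => let ⟨y, hy⟩ := hτ.surj (σ x); ⟨⟨(x, y), hy.symm⟩, rfl⟩
  let e := MulEquiv.ofBijective _ (s1.bijective_of_nat_card_le (h5.trans c))
  refine ⟨le_antisymm ((Nat.card_le_card_of_surjective _ s1).trans h5) c,
    ((pullSnd σ τ).comp (commutator _).subtype).comp e.symm.toMonoidHom,
    (key' _ pM (isCentralExt_pullSnd hσ τ).surj).comp e.symm.surjective, fun x => ?_⟩
  obtain ⟨y, rfl⟩ := e.surjective x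
  exact (congrArg (fun y => τ (pullSnd σ τ (y : commutator _).1)) (e.symm_apply_apply y)).trans y.1.2.symm

theorem tau [Finite G] {d : G} (hd : orderOf d = 2) [((zpowers d).subgroupOf (centralizer {d})).Normal]
    (e : centralizer {d} ⧸ (zpowers d).subgroupOf (centralizer {d}) ≃* G') :
    ∃ τ : centralizer ({d} : Set G) →* G', IsCentralExt τ ∧ (∀ x, τ x = 1 ↔ x.1 = 1 ∨ x.1 = d) ∧
      Nat.card (centralizer ({d} : Set G)) = Nat.card G' * 2 := by
  have k : ∀ x, (e.toMonoidHom.comp (QuotientGroup.mk' _)) x = 1 ↔ x.1 = 1 ∨ x.1 = d := fun x => by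
    rw [← MonoidHom.mem_ker, MonoidHom.ker_comp_of_injective _ _ e.injective, QuotientGroup.ker_mk', mem_subgroupOf]
    exact ⟨mem_zpowers_invol (sq_of_orderOf hd), by rintro (h | h) <;> simp [h]⟩
  refine ⟨_, ⟨e.surjective.comp (QuotientGroup.mk'_surjective _), fun x hx => mem_center_iff.2 fun y =>
    Subtype.ext ?_⟩, k, ?_⟩
  · obtain h | h := (k x).1 hx
    · simp [h]
    · simpa [h] using mem_centralizer_singleton_iff.1 y.2
  · rw [card_eq_card_quotient_mul_card_subgroup ((zpowers d).subgroupOf _), Nat.card_congr e.toEquiv,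
      Nat.card_congr (subgroupOfEquivOfLe (zpowers_le.2 (mem_centralizer_singleton_iff.2 rfl))).toEquiv,
      Nat.card_zpowers, hd]

/-- An isomorphism between the centralisers of `a` and `d`. -/
structure PH (θ : G' → G) (a : G') (d : G) : Prop where
  mul : ∀ {x y}, Commute x a → Commute y a → θ (x * y) = θ x * θ y
  inj : ∀ {x y}, Commute x a → Commute y a → θ x = θ y → x = y
  com : ∀ {x}, Commute x a → Commute (θ x) d
  surj : ∀ {y}, Commute y d → ∃ x, Commute x a ∧ θ x = y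
  eq : θ a = d

theorem PH.of {K : Type*} [Group K] {a : G'} {d : G} (ρ : K →* G) (π : K →* G') (hk : ∀ k, ρ k = 1 ↔ π k = 1)
    (r1 : ∀ g, Commute g d ↔ ∃ k, ρ k = g) (r2 : ∀ x, Commute x a ↔ ∃ k, π k = x) {k : K} (e1 : ρ k = d)
    (e2 : π k = a) : ∃ θ, PH θ a d := by
  classical
  have q : ∀ k k', ρ k = ρ k' ↔ π k = π k' := fun k k' => by
    rw [← mul_inv_eq_one, ← map_inv, ← map_mul, hk, map_mul, map_inv, mul_inv_eq_one]
  have e : ∀ k, (if h : ∃ k', π k' = π k then ρ h.choose else 1) = ρ k := fun k => by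
    rw [dif_pos ⟨k, rfl⟩, q]; exact Exists.choose_spec (p := fun k' => π k' = π k) _
  refine ⟨fun x => if h : ∃ k, π k = x then ρ h.choose else 1, fun hx hy => ?_, fun hx hy => ?_, fun hx => ?_,
    fun hy => ?_, by rw [← e2, e, e1]⟩
  · obtain ⟨x, rfl⟩ := (r2 _).1 hx
    obtain ⟨y, rfl⟩ := (r2 _).1 hy
    rw [← map_mul, e, e, e, map_mul]
  · obtain ⟨x, rfl⟩ := (r2 _).1 hx
    obtain ⟨y, rfl⟩ := (r2 _).1 hy
    rw [e, e, q]; exact id
  · obtain ⟨x, rfl⟩ := (r2 _).1 hx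
    rw [e]; exact (r1 _).2 ⟨x, rfl⟩
  · obtain ⟨y, rfl⟩ := (r1 _).1 hy
    exact ⟨π y, (r2 _).2 ⟨y, rfl⟩, e y⟩

theorem ph23 [Finite G] {d : G} (hd : orderOf d = 2) (hq : IsQuasisimple (centralizer ({d} : Set G)))
    [((zpowers d).subgroupOf (centralizer {d})).Normal]
    (e : centralizer {d} ⧸ (zpowers d).subgroupOf (centralizer {d}) ≃* Cfsg.Spor.Fi22) :
    ∃ θ, PH θ Spor.Fi23M.z d := by
  obtain ⟨τ, t1, t2, t3⟩ := tau hd e
  obtain ⟨π, p1, p2, -⟩ := F23.kν.exists_quot F22.tg.2.2 F22.fl.z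
  have hz := F23.z_mem
  have sz := F23.wt.sq _ hz
  have p3 : ∀ x ∈ π.ker, x.1 = 1 ∨ x.1 = Spor.Fi23M.z := fun x hx => by
    rw [p2, F23.fl.center_eq hz, mem_subgroupOf] at hx
    exact mem_zpowers_invol sz hx
  have m := (F23.fl.mem_cen hz).2 (Commute.refl _)
  have c : Nat.card π.ker = 2 := by
    rw [p2, F23.fl.center_eq hz, Nat.card_congr (subgroupOfEquivOfLe (zpowers_le.2 m)).toEquiv, Nat.card_zpowers,
      orderOf_of_sq sz (TT.ne_one F23.tg.1 hz)]
  have c' := π.ker.index_mul_card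
  rw [c, index_ker, MonoidHom.range_eq_top.2 p1, card_top] at c'
  obtain ⟨-, ρ, r1, r2⟩ := cover S2053.result {1, Multiplicative.ofAdd 1} (by decide) ⟨p1, p2.le⟩ t1
    (fun x hx => Subtype.ext (by rcases p3 x hx with e | e <;> simp [e, sz]))
    (fun x hx => Subtype.ext (by rcases (t2 x).1 hx with e | e <;> simp [e, sq_of_orderOf hd]))
    (F23.b.qs hz).1 hq.1 c'.le
  have i := (r1.bijective_of_nat_card_le (c'.symm.trans t3.symm).le).1
  refine PH.of ((centralizer {d}).subtype.comp ρ) (Subgroup.subtype _) (fun k => by simp [map_eq_one_iff ρ i])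
    (fun g => ⟨fun c => let ⟨k, e⟩ := r1 ⟨g, mem_centralizer_singleton_iff.2 c⟩; ⟨k, congrArg Subtype.val e⟩, ?_⟩)
    (fun x => ⟨fun c => ⟨⟨x, (F23.fl.mem_cen hz).2 c⟩, rfl⟩, ?_⟩) (k := ⟨_, m⟩) ?_ rfl
  · rintro ⟨k, rfl⟩; exact mem_centralizer_singleton_iff.1 (ρ k).2
  · rintro ⟨k, rfl⟩; exact (F23.fl.mem_cen hz).1 k.2
  · refine ((t2 _).1 ((r2 _).trans ?_)).resolve_left fun e => TT.ne_one F23.tg.1 hz
      (congrArg Subtype.val ((map_eq_one_iff ρ i).1 (Subtype.ext e)))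
    rw [← MonoidHom.mem_ker, p2, F23.fl.center_eq hz]; exact mem_zpowers _

theorem CL.mem_closure (w : WT S) {l : List G} (h : CL S l) {g : G} (hg : g ∈ closure {y | y ∈ l}) :
    ∃ r, CL S r ∧ (∀ a ∈ r, a ∈ l) ∧ r.prod = g := by
  refine closure_invol_induction (P := fun g => ∃ r, CL S r ∧ (∀ a ∈ r, a ∈ l) ∧ r.prod = g)
    (fun s hs => w.sq s (h.2.1 s hs)) ⟨[], cl_nil S, by simp, rfl⟩ ?_ hg
  rintro s hs _ - ⟨r, -, r2, rfl⟩
  have m : ∀ a ∈ s :: r, a ∈ l := List.forall_mem_cons.2 ⟨hs, r2⟩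
  obtain ⟨r', a1, -, a3, a4⟩ := w.exists_cl (l := s :: r) (fun a ha => h.2.1 a (m a ha))
    fun a ha b hb => h.2.2 a (m a ha) b (m b hb)
  exact ⟨r', a1, fun a ha => m a (a3 a ha), a4⟩

theorem eps_prod {ε : G →* ℤˣ} (e : ∀ x ∈ D, ε x = -1) {l : List G} (h : ∀ a ∈ l, a ∈ D) :
    ε l.prod = (-1) ^ l.length := by
  induction l with
  | nil => simp
  | cons a l ih => rw [List.prod_cons, map_mul, e a (h a (.head _)), ih fun b hb => h b (.tail _ hb),
      List.length_cons, pow_succ']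

theorem B24.even [Finite G] (h : B24 D) {l : List G} (k : CL D l) (h3 : l.length ≤ 3) {g : G}
    (hg : g ∈ closure {y | y ∈ l}) (c : g ∈ commutator G) (n : g ≠ 1) :
    ∃ a b, CL D [a, b] ∧ a ∈ l ∧ b ∈ l ∧ a * b = g := by
  obtain ⟨ε, e1, e2⟩ := h.eps
  obtain ⟨r, r1, r2, rfl⟩ := k.mem_closure h.fl.wt hg
  have := r1.length_le r2
  rw [e1, MonoidHom.mem_ker, eps_prod e2 r1.2.1] at c
  rcases r with _ | ⟨a, _ | ⟨b, _ | ⟨e, _ | _⟩⟩⟩
  exacts [absurd rfl n, absurd c (by simp), ⟨a, b, r1, r2 a (by simp), r2 b (by simp), by simp⟩,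
    absurd c (by simp [pow_succ]), by simp at this; omega]

theorem B24.quot22 [Finite G] (h : B24 D) {a b c : G} (k : CL D [a, b, c]) {K : Subgroup G}
    (hK : K = commutator G ⊓ centralizer {y | y ∈ [a, b, c]}) : ∃ π : K →* Cfsg.Spor.Fi22, ∃ d ∈ F22.D22,
      (∀ x, π x = 1 ↔ x.1 = 1 ∨ x.1 = a * b) ∧ (∀ x, Commute x d ↔ ∃ k, π k = x) ∧
        ∃ k : K, k.1 = c * a ∧ π k = d := by
  have w := h.fl.wt
  have k2 : CL D [a, b] := k.sublist (by simp)
  have z := h.cz k2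
  obtain ⟨n1, -, f, hf⟩ := h.cz2 k2
  obtain ⟨π, p1, p2, p3⟩ := hf.exists_quot F22.tg.2.2 F22.fl.z
  obtain ⟨ε, e1, e2⟩ := h.eps
  have ma := k.2.1 a (by simp)
  have mc : c ∈ Dl D [a, b] := (cl_cons'.1 (k.perm (List.perm_append_comm (l₁ := [a, b]) (l₂ := [c])))).2
  obtain ⟨d, hd, rfl⟩ := hf.surj mc
  have mK : ∀ x, x ∈ K ↔ ε x = 1 ∧ Commute x a ∧ Commute x b ∧ Commute x (f d) := fun x => by
    rw [hK, e1, mem_inf, mem_cent_list]; simp
  have le : K ≤ closure (Dl D [a, b]) := fun x hx => (n1 x).1 (by simpa using ⟨((mK x).1 hx).2.1, ((mK x).1 hx).2.2.1⟩)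
  have ker : ∀ x, π x = 1 ↔ x.1 ∈ closure {y | y ∈ [a, b]} := fun x => by
    rw [← MonoidHom.mem_ker, p2, ← z.center_eq]; exact (mem_map_iff_mem (subtype_injective _)).symm
  have pa : π ⟨a, z.mem (by simp)⟩ = 1 := (ker _).2 (Subgroup.subset_closure (by simp))
  have ca := fun x hx => (k.2.2 a (by simp) x hx)
  have cc := fun x hx => (k.2.2 (f d) (by simp) x hx)
  refine ⟨π.comp (inclusion le), d, hd, fun x => (ker _).trans ⟨fun m => or_iff_not_imp_left.2 fun n => ?_, ?_⟩,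
    fun x => ⟨fun c => ?_, ?_⟩, ⟨f d * a, (mK _).2 ⟨by simp [e2 _ mc.1, e2 _ ma], (cc _ (by simp)).mul_left
      (ca _ (by simp)), (cc _ (by simp)).mul_left (ca _ (by simp)), (cc _ (by simp)).mul_left (ca _ (by simp))⟩⟩,
      rfl, (map_mul π ⟨_, _⟩ ⟨_, _⟩).trans (by rw [p3 d hd, pa, mul_one])⟩
  · obtain ⟨u, v, h1, h2, h3, e⟩ := h.even k2 (by simp) m (hK.le x.2).1 n
    have n := h1.1
    rw [← show u * v = x.1 from e]
    simp only [List.mem_cons, List.not_mem_nil, or_false] at h2 h3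
    rcases h2 with rfl | rfl <;> rcases h3 with rfl | rfl <;> simp at n ⊢
    exact (ca _ (by simp)).symm
  · rintro (e | e) <;> change x.1 ∈ _ <;> rw [e]
    exacts [one_mem _, mul_mem (Subgroup.subset_closure (by simp)) (Subgroup.subset_closure (by simp))]
  · obtain ⟨y, rfl⟩ := p1 x
    obtain ⟨d', hd', e⟩ := hf.surj (hf.wt.conj_mem y.2 mc)
    have : d' = d := by
      rw [← p3 d' hd', ← conj_eq_of_commute c, ← p3 d hd, ← map_inv, ← map_mul, ← map_mul]
      exact congrArg π (Subtype.ext e)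
    have c1 := closure_dl_comm y.2
    have c2 : Commute y.1 (f d) := mul_inv_eq_iff_eq_mul.1 (this ▸ e).symm
    obtain e | e := Int.units_eq_one_or (ε y)
    · exact ⟨⟨y, (mK _).2 ⟨e, c1 _ (by simp), c1 _ (by simp), c2⟩⟩, rfl⟩
    · exact ⟨⟨y * a, (mK _).2 ⟨by simp [e, e2 _ ma], (c1 _ (by simp)).mul_left (ca _ (by simp)),
        (c1 _ (by simp)).mul_left (ca _ (by simp)), c2.mul_left (ca _ (by simp))⟩⟩,
        (map_mul π y ⟨_, _⟩).trans (by rw [pa, mul_one])⟩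
  · rintro ⟨x, rfl⟩
    rw [← p3 d hd]
    exact Commute.map (Subtype.ext ((mK _).1 x.2).2.2.2.eq) π

theorem ph22 [Finite G] {d : G} (hd : orderOf d = 2) (hq : IsQuasisimple (centralizer ({d} : Set G)))
    [((zpowers d).subgroupOf (centralizer {d})).Normal] {F : Type} [Field F] [Fintype F] (hF : Fintype.card F = 4)
    (e : centralizer {d} ⧸ (zpowers d).subgroupOf (centralizer {d}) ≃* PSU 6 F 2) :
    ∃ a ∈ F22.D22, ∃ θ, PH θ a d := by
  have : Fact (Fintype.card F = 2 ^ 2) := ⟨hF⟩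
  obtain ⟨τ, t1, t2, t3⟩ := tau hd e
  have h := F24.b
  have w := h.fl.wt
  obtain ⟨a, b, c, k⟩ : ∃ a b c, CL F24.D24 [a, b, c] := by
    obtain ⟨l, h1, h2⟩ := h.k.wEq.2
    rcases l with _ | ⟨a, _ | ⟨b, _ | ⟨c, l⟩⟩⟩
    exacts [by simp at h2, by simp at h2, by simp at h2, ⟨a, b, c, h1.sublist (by simp)⟩]
  have z := h.cz' k
  obtain ⟨lam, u⟩ := (h.cz3 k).2.2
  obtain ⟨h1, h2, h3, -, -, -, h7, -⟩ := h.twist z u.tr1 rfl rfl
  generalize hK : commutator Cfsg.Spor.Fi24 ⊓ centralizer {y | y ∈ [a, b, c]} = K at h2 h3 h7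
  obtain ⟨f0, hf0, -⟩ := (uk_TP (F := F4)).kmap u
  obtain ⟨⟨e0⟩, ⟨e1⟩⟩ := And.intro (Known.U62T.equiv (F := F4) factF4.out) (Known.U62T.equiv hF)
  obtain ⟨σ, s1, s2⟩ : ∃ σ : K →* PSU 6 F 2, Function.Surjective σ ∧ σ.ker = center K := by
    obtain ⟨σ, s1, s2, -⟩ := (h1.comp hf0).exists_quot closure_TP center_psu
    subst h2
    exact ⟨(e0.trans e1.symm).toMonoidHom.comp σ, (e0.trans e1.symm).surjective.comp s1, by
      rw [MonoidHom.ker_comp_of_injective _ _ (e0.trans e1.symm).injective, s2]⟩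
  have ca := fun x hx => (k.2.2 a (by simp) x hx)
  have sa := w.sq a (k.2.1 a (by simp))
  have mZ : ∀ x : K, x ∈ σ.ker ↔ x.1 ∈ closure {y | y ∈ [a, b, c]} := fun x => by
    rw [s2, z.zen, mem_center_iff]
    refine ⟨fun H y hy => ?_, fun H y => Subtype.ext ?_⟩
    · simpa [mul_assoc, sa] using Commute.mul_right (show Commute x.1 (y * a) from (congrArg Subtype.val
        (H ⟨_, h2.ge (Subgroup.subset_closure ⟨y, hy, rfl⟩)⟩)).symm) (mem_cent_list.1 (hK.ge x.2).2 a (by simp))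
    · exact mem_centralizer_singleton_iff.1 ((closure_le _).2 (fun y hy => mem_centralizer_singleton_iff.2
        (H y hy).symm) (z.cen.le (hK.ge y.2).2))
  have c4 : Nat.card (PSU 6 F 2) * 4 ≤ Nat.card K := by
    rw [← σ.ker.index_mul_card, index_ker, MonoidHom.range_eq_top.2 s1, card_top, s2,
      ← card_map_of_injective K.subtype_injective, h7]
    refine Nat.mul_le_mul_left _ (le_trans ?_ (Set.ncard_le_ncard (s := {1, b * a, c * a, b * a * (c * a)}) ?_))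
    · have n := k.1
      have n1 := (k.sublist (l' := [b, c]) (by simp)).prod_ne_one w h.k.noCL.noC (by simp) (by simp)
      have e : b * a * (c * a) = b * c := by rw [← (ca c (by simp)).eq, mul_assoc, ← mul_assoc a, sa, one_mul]
      simp only [List.nodup_cons, List.mem_cons, List.not_mem_nil, or_false, not_or] at n
      have n2 : ∀ x, a ≠ x → 1 ≠ x * a := fun x n e => n (by rw [eq_inv_of_mul_eq_one_left e.symm, inv_eq_of_sq sa])
      rw [Set.ncard_insert_of_notMem, Set.ncard_insert_of_notMem, Set.ncard_pair]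
      · simpa [eq_comm] using n2 b n.1.1
      · simpa [eq_comm] using And.intro n.2.1 (n2 c n.1.2)
      · simpa [eq_comm, e] using And.intro (n2 b n.1.1) (And.intro (n2 c n.1.2) n1)
    · have m : ∀ x ∈ [a, b, c], x * a ∈ closure ((· * a) '' {y | y ∈ [a, b, c]}) := fun x hx =>
        Subgroup.subset_closure ⟨x, hx, rfl⟩
      rintro _ (rfl | rfl | rfl | rfl)
      exacts [one_mem _, m _ (by simp), m _ (by simp), mul_mem (m _ (by simp)) (m _ (by simp))]
  obtain ⟨c5, ρ, r1, r2⟩ := cover (S2091.result hF) (Finset.univ.image fun p : ZMod 2 × ZMod 2 =>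
    Multiplicative.ofAdd (0, p)) (by decide) ⟨s1, s2.le⟩ t1
    (fun x hx => Subtype.ext (by
      obtain ⟨r, r1, -, e⟩ := k.mem_closure w ((mZ x).1 hx)
      simpa [e] using r1.prod_sq w))
    (fun x hx => Subtype.ext (by rcases (t2 x).1 hx with e | e <;> simp [e, sq_of_orderOf hd])) h3 hq.1 c4
  have c2 : Nat.card ρ.ker = 2 := by
    have := ρ.ker.index_mul_card
    rw [index_ker, MonoidHom.range_eq_top.2 r1, card_top, t3, c5, mul_assoc] at this
    have := Nat.eq_of_mul_eq_mul_left Nat.card_pos this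
    change _ = 4 at this
    omega
  obtain ⟨⟨v, hv⟩, v1, v2⟩ := (Nat.card_eq_two_iff' 1).1 c2
  have kk : ∀ x ∈ ρ.ker, x ∈ σ.ker := fun x hx => by rw [MonoidHom.mem_ker, ← r2, hx, map_one]
  obtain ⟨p, q, k2, hp, hq, E⟩ := h.even k le_rfl ((mZ v).1 (kk v hv)) (hK.ge v.2).1
    fun e => v1 (Subtype.ext (Subtype.ext e))
  obtain ⟨r, k3, l3, e3⟩ := k.split k2 (by simpa using And.intro hp hq)
  obtain ⟨r, rfl⟩ := List.length_eq_one_iff.1 (show r.length = 1 by simp at l3; omega)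
  have x3 := k.ext_of_prod w (h.k.noCL.mono (by decide : 3 ≤ 4)) k3 le_rfl le_rfl le_rfl (by simpa [mul_assoc] using e3)
  obtain ⟨π, d0, hd0, p1, p2, y, y1, y2⟩ := h.quot22 (K := K) k3 (by rw [← hK]; congr; ext x; exact x3 x)
  have kp : ∀ x, ρ x = 1 ↔ π x = 1 := fun x => by
    rw [p1, E]
    exact ⟨fun e => or_iff_not_imp_left.2 fun n => congrArg (·.1.1) (v2 ⟨x, e⟩ fun e => n (congrArg (·.1.1) e)),
      by rintro (e | e); exacts [(Subtype.ext e : x = 1) ▸ map_one ρ, (Subtype.ext e : x = v) ▸ hv]⟩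
  refine ⟨d0, hd0, PH.of ((centralizer {d}).subtype.comp ρ) π (fun k => by simp [← kp])
    (fun g => ⟨fun c => let ⟨k, e⟩ := r1 ⟨g, mem_centralizer_singleton_iff.2 c⟩; ⟨k, congrArg Subtype.val e⟩, ?_⟩)
    p2 ?_ y2⟩
  · rintro ⟨k, rfl⟩; exact mem_centralizer_singleton_iff.1 (ρ k).2
  · refine ((t2 _).1 ((r2 _).trans ((mZ y).2 ?_))).resolve_left fun e => TT.ne_one F22.tg.1 hd0
      (y2 ▸ (kp y).1 (Subtype.ext e))
    exact y1 ▸ mul_mem (Subgroup.subset_closure ((x3 r).2 (by simp))) (Subgroup.subset_closure hp)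

namespace PH
variable {θ : G' → G} {a x y : G'} {d : G} {D' : Set G'}

theorem one (h : PH θ a d) : θ 1 = 1 := by simpa using h.mul (.one_left a) (.one_left a)

theorem conj (h : PH θ a d) (hx : Commute x a) (hy : Commute y a) : θ (x * y * x⁻¹) = θ x * θ y * (θ x)⁻¹ := by
  rw [eq_mul_inv_iff_mul_eq, ← h.mul ((hx.mul_left hy).mul_left hx.inv_left) hx, ← h.mul hx hy, inv_mul_cancel_right]

theorem commute_iff (h : PH θ a d) (hx : Commute x a) (hy : Commute y a) : Commute (θ x) (θ y) ↔ Commute x y := by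
  rw [Commute, SemiconjBy, ← h.mul hx hy, ← h.mul hy hx]
  exact ⟨h.inj (hx.mul_left hy) (hy.mul_left hx), fun e => congrArg θ e⟩

theorem kmap (h : PH θ a d) (w : WT D') : KMap θ (Dd D' a) (θ '' Dd D' a) := by
  have t : ∀ x ∈ Dd D' a, ∀ y ∈ Dd D' a, θ (x * y * x) = θ x * θ y * θ x := fun x hx y hy => by
    rw [h.mul (hx.2.2.symm.mul_left hy.2.2.symm) hx.2.2.symm, h.mul hx.2.2.symm hy.2.2.symm]
  refine ⟨w.dd a, ⟨?_, ?_, ?_⟩, Set.InjOn.bijOn_image fun x hx y hy => h.inj hx.2.2.symm hy.2.2.symm, t⟩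
  · rintro _ ⟨x, hx, rfl⟩
    rw [← h.mul hx.2.2.symm hx.2.2.symm, w.sq x hx.1, h.one]
  · rintro _ ⟨x, hx, rfl⟩ _ ⟨y, hy, rfl⟩
    exact (w.br x hx.1 y hy.1).imp (h.commute_iff hx.2.2.symm hy.2.2.symm).2 fun e => by
      rw [Br, ← t x hx y hy, ← t y hy x hx, e]
  · rintro _ ⟨x, hx, rfl⟩ _ ⟨y, hy, rfl⟩
    exact ⟨_, (w.dd a).conj x hx y hy, t x hx y hy⟩

variable [Finite G']

theorem locD (h : PH θ a d) (f : FL D') (ha : a ∈ D') : LocD d (θ '' Dd D' a) := by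
  refine ⟨fun g hg => ?_, fun c h1 h2 => ?_⟩
  · obtain ⟨g, c, rfl⟩ := h.surj hg
    refine closure_invol_induction (P := fun g => θ g ∈ closure (θ '' Dd D' a)) (f.wt.dd a).sq
      (h.one ▸ one_mem _) (fun s hs g hg k => ?_) ((f.mem_cen ha).2 c)
    rw [h.mul hs.2.2.symm ((f.mem_cen ha).1 hg)]
    exact mul_mem (Subgroup.subset_closure ⟨s, hs, rfl⟩) k
  · obtain ⟨c, k, rfl⟩ := h.surj h1
    exact (f.zen ha k fun y hy => (h.commute_iff k hy.2.2.symm).1 (h2 _ ⟨y, hy, rfl⟩)).imp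
      (fun e => by rw [e, h.one]) fun e => by rw [e, h.eq]

theorem sq (h : PH θ a d) (f : FL D') (ha : a ∈ D') : d * d = 1 := by
  rw [← h.eq, ← h.mul (.refl a) (.refl a), f.wt.sq a ha, h.one]

theorem nsq (h : PH θ a d) (f : FL D') (ha : a ∈ D') {k : ℕ} (i : InvP (Dd D' a) k) (hx : Commute x a)
    (m : θ x ∈ conjugatesOf d) : ¬ SqC a x := by
  rintro ⟨y, c, rfl⟩
  obtain ⟨g, e⟩ := isConj_iff.1 (IsConj.symm m)
  rw [h.mul c c, ← conj_mul] at e
  obtain ⟨v, cv, e'⟩ := h.surj (y := g * θ y * g⁻¹) (e ▸ (Commute.refl _).mul_right (.refl _))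
  have := h.inj (cv.mul_left cv) (.refl a) (by rw [h.mul cv cv, e', e, h.eq])
  exact TT.ne_one f.tg.1 ha (this ▸ f.sq_one ha i cv (.inr this))

theorem pre (h : PH θ a d) (f : FL D') (ha : a ∈ D') {y : G} (m : y ∈ Dd (conjugatesOf d) d) :
    ∃ x, Commute x a ∧ θ x = y ∧ x * x = 1 ∧ x ≠ a := by
  obtain ⟨x, c, rfl⟩ := h.surj m.2.2.symm
  refine ⟨x, c, rfl, h.inj (c.mul_left c) (.one_left a) ?_, fun e => m.2.1 (e ▸ h.eq)⟩
  obtain ⟨g, e⟩ := isConj_iff.1 m.1
  rw [h.mul c c, ← e, conj_mul, h.sq f ha, h.one, mul_one, mul_inv_cancel]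

omit [Finite G'] in
theorem sub (h : PH θ a d) (t : Tr1 (Dd D' a)) {e : G} (ce : ∀ g, Commute g d → Commute g e) (hx : x ∈ Dd D' a)
    (m : θ x * e ∈ conjugatesOf d) (hy : y ∈ Dd D' a) : θ y * e ∈ conjugatesOf d := by
  obtain ⟨k, hk, rfl⟩ := t x hx y hy
  have c := closure_Dd_commute hk
  rw [h.conj c hx.2.2.symm, ← conj_eq_of_commute (ce _ (h.com c)), conj_mul]
  exact CM.conj_mem _ m

theorem dd22 (h : PH θ a d) (b : B22 D') (ha : a ∈ D') (n : (Dd (conjugatesOf d) d).Nonempty) :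
    Dd (conjugatesOf d) d = θ '' Dd D' a := by
  obtain ⟨lam, u⟩ := b.k.loc a ha
  have ns := fun {x} => h.nsq (x := x) b.fl ha u.invP
  obtain ⟨⟨t0, T1⟩, t, y, y', n1, n2, n3, n4, c1, c2, c3, e1, e2, s1, s2⟩ := b.ncol_all ha
  have cT : ∀ {t}, NCol D' a t → Commute t a := fun ⟨⟨_, k, _, e⟩, _⟩ => e ▸ closure_Dd_commute k.prod_mem
  have A : ∀ t, NCol D' a t → θ t ∉ conjugatesOf d := fun t1 k m => by
    have T : ∀ {t}, NCol D' a t → θ t ∈ conjugatesOf d := fun {t} k' => by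
      obtain ⟨g, c, rfl⟩ := T1 t1 k
      obtain ⟨g', c', rfl⟩ := T1 t k'
      have c0 : Commute t0 a := by simpa [mul_assoc] using (c.inv_left.mul_left (cT k)).mul_left c
      rw [h.conj c c0] at m
      rw [h.conj c' c0]
      exact CM.conj_mem _ (by simpa [mul_assoc] using CM.conj_mem (θ g)⁻¹ m)
    have P : ∀ y ∈ Dd (conjugatesOf d) d, d * y ∉ conjugatesOf d → y ∈ θ '' Dd D' a := fun y hy n => by
      obtain ⟨x, c, rfl, s, e⟩ := h.pre b.fl ha hy
      rcases (b.loc_inv ha s c).resolve_left e with k | k | k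
      exacts [⟨x, k, rfl⟩, absurd k (ns c hy.1), 
        absurd (by simpa only [h.mul (.refl a) c, h.eq] using T (b.ncol_mul ha k)) n]
    obtain ⟨g, e⟩ := isConj_iff.1 (IsConj.symm (T n1))
    have Q : ∀ y, NCol D' a y → Commute t y → y ≠ t → SqC a (t * y) → g * θ y * g⁻¹ ∈ θ '' Dd D' a :=
      fun y k c n s => P _ ⟨CM.conj_mem g (T k), fun E => n (h.inj (cT k) (cT n1) ((conj_inj g).1 (E.trans e.symm))),
        e ▸ (commute_conj_iff g).2 ((h.commute_iff (cT n1) (cT k)).2 c)⟩ fun m => ns ((cT n1).mul_left (cT k)) (by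
          rw [h.mul (cT n1) (cT k)]
          nth_rw 2 [← e] at m
          simpa [mul_assoc] using CM.conj_mem g⁻¹ m) s
    obtain ⟨v, hv, E⟩ := Q y n2 c1 e1 s1
    obtain ⟨v', hv', E'⟩ := Q y' n3 c2 e2 s2
    refine ns (hv.2.2.symm.mul_left hv'.2.2.symm) ?_ (b.sq_two ha hv hv' ((h.commute_iff hv.2.2.symm hv'.2.2.symm).1
      (by rw [E, E', commute_conj_iff, h.commute_iff (cT n2) (cT n3)]; exact c3)))
    rw [h.mul hv.2.2.symm hv'.2.2.symm, E, E', conj_mul, ← h.mul (cT n2) (cT n3)]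
    exact CM.conj_mem g (T n4)
  have P : Dd (conjugatesOf d) d ⊆ θ '' Dd D' a := fun y hy => by
    obtain ⟨x, c, rfl, s, e⟩ := h.pre b.fl ha hy
    rcases (b.loc_inv ha s c).resolve_left e with k | k | k
    exacts [⟨x, k, rfl⟩, absurd k (ns c hy.1), absurd hy.1 (A x k)]
  refine P.antisymm ?_
  obtain ⟨_, hy⟩ := n
  obtain ⟨y, hy', rfl⟩ := P hy
  rintro _ ⟨x, hx, rfl⟩
  exact ⟨by simpa using h.sub u.tr1 (fun g _ => .one_right g) hy' (by simpa using hy.1) hx,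
    fun e => hx.2.1 (h.inj hx.2.2.symm (.refl a) (e.trans h.eq.symm)), (h.com hx.2.2.symm).symm⟩

theorem dd23 (h : PH θ a d) (b : B23 D') (ha : a ∈ D') (n : (Dd (conjugatesOf d) d).Nonempty) :
    Dd (conjugatesOf d) d = θ '' Dd D' a ∨ Dd (conjugatesOf d) d = (· * d) '' (θ '' Dd D' a) := by
  have u := b.k.loc a ha
  have ns := fun {x} => h.nsq (x := x) b.fl ha u.invP
  have sd := h.sq b.fl ha
  have P : ∀ y ∈ Dd (conjugatesOf d) d, ∃ x ∈ Dd D' a, θ x = y ∨ θ x * d = y := fun y hy => by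
    obtain ⟨x, c, rfl, s, e⟩ := h.pre b.fl ha hy
    rcases (b.loc_inv ha s c).resolve_left e with k | k | k
    exacts [⟨x, k, .inl rfl⟩, ⟨_, k, .inr (by rw [h.mul c (.refl a), h.eq, mul_assoc, sd, mul_one])⟩,
      absurd k (ns c hy.1)]
  have m1 : ∀ x ∈ Dd D' a, θ x ∈ conjugatesOf d → θ x ∈ Dd (conjugatesOf d) d := fun x hx m =>
    ⟨m, fun e => hx.2.1 (h.inj hx.2.2.symm (.refl a) (e.trans h.eq.symm)), (h.com hx.2.2.symm).symm⟩
  have s1 : ∀ {x y}, x ∈ Dd D' a → θ x ∈ conjugatesOf d → y ∈ Dd D' a → θ y ∈ conjugatesOf d := fun hx m hy => by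
    simpa only [mul_one] using h.sub u.trA.tr1 (fun g _ => .one_right g) hx (by rwa [mul_one]) hy
  have s2 := fun {x y} => h.sub (x := x) (y := y) u.trA.tr1 (e := d) fun _ c => c
  have A : ∀ x ∈ Dd D' a, ∀ y ∈ Dd D' a, θ x ∈ conjugatesOf d → θ y * d ∉ conjugatesOf d := fun x hx y hy k k' => by
    obtain ⟨l, l1, l2⟩ := u.wEq.2
    rcases l with _ | ⟨p, _ | ⟨q, l⟩⟩
    · simp at l2
    · simp at l2
    have hp := (cl_cons.1 l1).1
    have hq := (cl_cons.1 l1).2.2.1 q (by simp)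
    obtain ⟨g, e⟩ := isConj_iff.1 (IsConj.symm (s1 hx k hp))
    have cp := hp.2.2.symm
    have cq := hq.1.2.2.symm
    refine ns (cq.mul_left cp) ?_ (b.sq_two ha hq.1 hp hq.2.2.symm)
    have : g * θ q * g⁻¹ * d ∈ conjugatesOf d := by
      obtain ⟨v, hv, E | E⟩ := P (g * θ q * g⁻¹) ⟨CM.conj_mem g (s1 hx k hq.1),
        fun E => hq.2.1 (h.inj cq cp ((conj_inj g).1 (E.trans e.symm))),
        e ▸ (commute_conj_iff g).2 ((h.commute_iff cp cq).2 hq.2.2)⟩ <;> rw [← E]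
      exacts [s2 hy k' hv, by rw [mul_assoc, sd, mul_one]; exact s1 hx k hv]
    rw [h.mul cq cp]
    nth_rw 2 [← e] at this
    simpa [mul_assoc] using CM.conj_mem g⁻¹ this
  obtain ⟨_, hy⟩ := n
  obtain ⟨y, hy', rfl | rfl⟩ := P _ hy
  · refine .inl (Set.ext fun v => ⟨fun hv => ?_, by rintro ⟨x, hx, rfl⟩; exact m1 x hx (s1 hy' hy.1 hx)⟩)
    obtain ⟨x, hx, rfl | rfl⟩ := P v hv
    exacts [⟨x, hx, rfl⟩, absurd hv.1 (A y hy' x hx hy.1)]
  · refine .inr (Set.ext fun v => ⟨fun hv => ?_, ?_⟩)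
    · obtain ⟨x, hx, rfl | rfl⟩ := P v hv
      exacts [absurd hy.1 (A x hx y hy' hv.1), ⟨_, ⟨x, hx, rfl⟩, rfl⟩]
    · rintro ⟨_, ⟨x, hx, rfl⟩, rfl⟩
      exact ⟨s2 hy' hy.1 hx, fun e => TT.ne_one b.fl.tg.1 hx.1 (h.inj hx.2.2.symm (.one_left a)
        ((mul_eq_right.1 e).trans h.one.symm)), (h.com hx.2.2.symm).symm.mul_right (.refl d)⟩

end PH

theorem LocD.twist {d : G} (h : LocD d S) (hd : d * d = 1) (c : ∀ y ∈ S, Commute d y) {l : List G}
    (h1 : ∀ y ∈ l, y ∈ S) (h2 : Even l.length) (h3 : l.prod = d) : LocD d ((· * d) '' S) := by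
  have m : d ∈ closure ((· * d) '' S) := by
    have : l.prod * d ^ l.length ∈ closure ((· * d) '' S) := by
      clear h2 h3
      induction l with
      | nil => simp
      | cons y l ih =>
        have := mul_mem (Subgroup.subset_closure (k := (· * d) '' S) ⟨y, h1 y (.head _), rfl⟩)
          (ih fun v hv => h1 v (.tail _ hv))
        rwa [mul_assoc, (CL.comm_prod fun v hv => c v (h1 v (.tail _ hv))).left_comm, ← pow_succ',
          ← mul_assoc] at this
    obtain ⟨k, e⟩ := h2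
    rwa [e, ← two_mul, pow_mul, pow_two, hd, one_pow, mul_one, h3] at this
  refine ⟨fun g hg => (closure_le _).2 (fun y hy => ?_) (h.cen g hg), fun g h1 h2 => h.zen g h1 fun y hy => ?_⟩
  · simpa [mul_assoc, hd] using mul_mem (Subgroup.subset_closure (k := (· * d) '' S) ⟨y, hy, rfl⟩) m
  · simpa [mul_assoc, hd] using (h2 _ ⟨y, hy, rfl⟩).mul_right h1

variable [Finite G] {d : G}

omit [Finite G] in
theorem dd_nonempty (h : ∃ g : G, g * d * g⁻¹ ∈ centralizer ({d} : Set G) ∧ g * d * g⁻¹ ≠ d) :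
    (Dd (conjugatesOf d) d).Nonempty :=
  let ⟨g, a, b⟩ := h; ⟨_, isConj_iff.2 ⟨g, rfl⟩, b, (mem_centralizer_singleton_iff.1 a).symm⟩

/-- Groups of type `M̃(22)`. -/
theorem main22 (hd : orderOf d = 2) (hq : IsQuasisimple (centralizer ({d} : Set G)))
    [((zpowers d).subgroupOf (centralizer {d})).Normal] {F : Type} [Field F] [Fintype F] (hF : Fintype.card F = 4)
    (e : centralizer {d} ⧸ (zpowers d).subgroupOf (centralizer {d}) ≃* PSU 6 F 2)
    (n : ∃ g : G, g * d * g⁻¹ ∈ centralizer ({d} : Set G) ∧ g * d * g⁻¹ ≠ d) : B22 (conjugatesOf d) := by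
  obtain ⟨a, ha, θ, h⟩ := ph22 hd hq hF e
  have E := h.dd22 F22.b ha (dd_nonempty n)
  exact loc22 (sq_of_orderOf hd) (E ▸ h.locD F22.fl ha) (E ▸ (F22.b.k.loc a ha).map (h.kmap F22.wt))

/-- Groups of type `M̃(23)`. -/
theorem main23 (hd : orderOf d = 2) (hq : IsQuasisimple (centralizer ({d} : Set G)))
    [((zpowers d).subgroupOf (centralizer {d})).Normal]
    (e : centralizer {d} ⧸ (zpowers d).subgroupOf (centralizer {d}) ≃* Cfsg.Spor.Fi22)
    (n : ∃ g : G, g * d * g⁻¹ ∈ centralizer ({d} : Set G) ∧ g * d * g⁻¹ ≠ d) : B23 (conjugatesOf d) := by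
  obtain ⟨θ, h⟩ := ph23 hd hq e
  have hz := F23.z_mem
  have s := sq_of_orderOf hd
  have k := (F23.loc _ hz).map (h.kmap F23.wt)
  have c : ∀ y ∈ θ '' Dd F23.D23 Spor.Fi23M.z, Commute d y := by
    rintro _ ⟨y, hy, rfl⟩; exact (h.com hy.2.2.symm).symm
  obtain E | E := h.dd23 F23.b hz (dd_nonempty n)
  · exact loc23 s (E ▸ h.locD F23.fl hz) (E ▸ k)
  obtain ⟨l, l1, l2, l3⟩ := F23.rl7.get F23.wt (l1 := [_]) (l2 := []) (cl_cons.2 ⟨hz, cl_nil _⟩)
    (F23.trA 1 (by decide)) (by simp) (by simp)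
  rw [List.append_nil, Dl_one] at l1
  refine loc23 s (E ▸ (h.locD F23.fl hz).twist s c ((h.kmap F23.wt).cl l1).2.1
    ⟨3, by simp at l2 ⊢; omega⟩ ?_) (E ▸ k.map (k.wt.twist s c))
  have : ∀ l : List _, (∀ y ∈ l, Commute y Spor.Fi23M.z) → (l.map θ).prod = θ l.prod := fun l hl => by
    induction l with
    | nil => exact h.one.symm
    | cons y l ih =>
      rw [List.map_cons, List.prod_cons, List.prod_cons, ih fun v hv => hl v (.tail _ hv),
        h.mul (hl y (.head _)) (CL.comm_prod fun v hv => (hl v (.tail _ hv)).symm).symm]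
  rw [this l fun y hy => (l1.2.1 y hy).2.2.symm, ← l3]; simpa using h.eq

/-- Involutions lift and `d` is not a square. -/
theorem FL.lift (h : FL D) (hd : d ∈ D) {k : ℕ} (i : InvP (Dd D d) k)
    [((zpowers d).subgroupOf (centralizer {d})).Normal] :
    (∀ x : centralizer {d} ⧸ (zpowers d).subgroupOf (centralizer {d}), orderOf x = 2 →
      ∃ y : centralizer ({d} : Set G), orderOf y = 2 ∧ (QuotientGroup.mk y : _ ⧸ _) = x) ∧ ¬ ∃ g : G, g ^ 2 = d := by
  refine ⟨fun x hx => ?_, fun ⟨g, e⟩ => TT.ne_one h.tg.1 hd ?_⟩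
  · obtain ⟨y, rfl⟩ := QuotientGroup.mk_surjective x
    refine ⟨y, orderOf_of_sq (Subtype.ext (h.sq_one hd i (mem_centralizer_singleton_iff.1 y.2)
      (mem_zpowers_invol (h.wt.sq d hd) ?_))) fun e => ne_one_of_orderOf hx (by simp [e]), rfl⟩
    exact (QuotientGroup.eq_one_iff (y * y)).1 (sq_of_orderOf hx)
  · rw [pow_two] at e
    exact e ▸ h.sq_one hd i (e ▸ (Commute.refl g).mul_right (.refl g)) (.inr e)

end Cfsg.Agent.Fischer
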