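import Cfsg.Agent.Fischer.KH
import Cfsg.Agent.Fischer.J24
import Cfsg.Agent.Fischer.Ids4
import Cfsg.Agent.Spor.J.Fi24a

/-! The coset table of `Fi24` without the relator of the triple cover (helper24): `F24.est`. -/

set_option Elab.async false
set_option maxRecDepth 100000
set_option exponentiation.threshold 100000

namespace Cfsg.Agent.Fischer.F24

open Subgroup Equiv Cfsg.Agent.Spor Cfsg.Agent.Spor.JFi24a

/-- The path from `l` to the extra transposition. -/
def uw : List ℕ := [1, 0, 2, 1, 3, 4, 5, 6, 7, 8, 9, 10, 5, 4, 3, 6, 5, 7, 11, 10, 5, 4, 3, 6, 5, 4, 7, 6, 8, 7, 10, 5, 6, 11, 10, 5, 4, 3, 2]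

theorem dd : chkDed nets 306936 306912 (rels.take 80) [(uw, 1, uw)]
  (nat_lit 0x1000010140000183200001848000018760000109800001096000010760000105a000010580000104a0000103a000010360000103200001024000028640000186a00002850000010960000108a0000105a000010380000103a000010360000103200001018000010140000100a000010760000105e0000104a000028500000102e0000184a0000283c00001034000010580000281e000018180000101a000028200000281c00001802000010000000180800001008000028520000284e00001800000018140000180a0000100e0000286c0000180e00001812000018300000103000001810000018060000289e0000286c0000185e00001016000010020000185400001024000018460000289e0000107a0000189000001072000018700000108c00001066000010900000108a) 76 K14 (ivl 0 3683232) = true := by decide +kernel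

theorem seedOk_of_loop {G X : Type*} [Group G] [MulAction G X] {g : ℕ → G} {x0 : X} {u v w : List ℕ} {y y' : ℕ}
    (h : SeedOk g x0 (w, y', [])) (e : w ++ [y'] = u ++ y :: v.reverse) (hv : ∀ x ∈ v, g x * g x = 1) :
    SeedOk g x0 (u, y, v) := by
  have h1 : Spor.ev g (w ++ [y']) • x0 = x0 := by
    simpa [SeedOk, Spor.ev_append, mul_smul] using h
  rw [e, Spor.ev_append, Spor.ev_cons, Spor.ev_reverse hv, mul_smul, mul_smul, inv_smul_eq_iff] at h1
  exact h1

theorem seeds_ok {G X : Type*} [Group G] [MulAction G X] {g : ℕ → G} {x0 : X} (he : g 255 = 1)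
    (hg : ∀ r ∈ J24.rels, Spor.ev g r = 1) (hs : ∀ x < 12, x ≠ 1 → g x • x0 = x0) :
    ∀ s ∈ seeds, SeedOk g x0 s := by
  have h := J24.seedsOk he hg (x0 := x0) fun w hw => by
    obtain ⟨x, h1, h2, rfl⟩ : ∃ x < 12, x ≠ 1 ∧ w = [x] := by revert w; decide
    simpa using hs x h1 h2
  have sq : ∀ x < 12, g x * g x = 1 := fun x hx => sq_of_rel (hg _ (by revert x; decide +kernel))
  have k : ∀ x < 12, x ≠ 1 → SeedOk g x0 ([], x, []) := fun x h1 h2 => by simpa [SeedOk] using hs x h1 h2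
  simp only [J24.seeds, List.forall_mem_cons] at h
  simp only [seeds, List.forall_mem_cons]
  exact ⟨k 2 (by decide) (by decide), k 3 (by decide) (by decide), k 4 (by decide) (by decide),
    k 5 (by decide) (by decide), k 6 (by decide) (by decide), k 7 (by decide) (by decide),
    k 8 (by decide) (by decide), k 10 (by decide) (by decide), k 11 (by decide) (by decide),
    k 9 (by decide) (by decide), seedOk_of_loop h.1 rfl fun x hx => sq x (by revert x; decide),
    seedOk_of_loop h.2.1 rfl fun x hx => sq x (by revert x; decide), by simp⟩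

theorem est {G X : Type*} [Group G] [MulAction G X] {g : ℕ → G} {x0 : X}
    (hg : ∀ r ∈ rels.take 80, Spor.ev g r = 1) (h : ∀ s ∈ seeds, SeedOk g x0 s)
    (hx : SeedOk g x0 (uw, 1, uw)) : ESt g nets 306936 x0 306912 (ivl 0 3683232) :=
  have hb : 306912 < 306936 := by decide
  have hP' : ∀ r ∈ rels.take 80, Spor.ev (PP nets) r = 1 := fun r hr => hP r (List.mem_of_mem_take hr)
  dedPhase_sound ok hb hg hP' (by simpa using hx) dd
    (dedPhase_sound ok hb hg hP' h (chkDed_take dd13 (by decide +kernel))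
    (dedPhase_sound ok hb hg hP' h (chkDed_take dd12 (by decide +kernel))
    (dedPhase_sound ok hb hg hP' h (chkDed_take dd11 (by decide +kernel))
    (dedPhase_sound ok hb hg hP' h (chkDed_take dd10 (by decide +kernel))
    (dedPhase_sound ok hb hg hP' h (chkDed_take dd9 (by decide +kernel))
    (dedPhase_sound ok hb hg hP' h (chkDed_take dd8 (by decide +kernel))
    (dedPhase_sound ok hb hg hP' h (chkDed_take dd7 (by decide +kernel))
    (dedPhase_sound ok hb hg hP' h (chkDed_take dd6 (by decide +kernel))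
    (dedPhase_sound ok hb hg hP' h (chkDed_take dd5 (by decide +kernel))
    (dedPhase_sound ok hb hg hP' h (chkDed_take dd4 (by decide +kernel))
    (dedPhase_sound ok hb hg hP' h (chkDed_take dd3 (by decide +kernel))
    (dedPhase_sound ok hb hg hP' h (chkDed_take dd2 (by decide +kernel))
    (dedPhase_sound ok hb hg hP' h (chkDed_take dd1 (by decide +kernel))
    (dedPhase_sound ok hb hg hP' h (chkDed_take dd0 (by decide +kernel))
    (defPhase_sound x0 ok hg hP' (chkDef_take df (by decide +kernel)))))))))))))))))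

theorem e8 {G : Type*} [Group G] {l : ℕ → G} (sq : ∀ x < 12, l x * l x = 1) {adj : ℕ → ℕ → Bool}
    (c : ∀ x < 12, ∀ y < 12, adj x y = false → Commute (l x) (l y))
    (b : ∀ x < 12, ∀ y < 12, adj x y = true → Br (l x) (l y))
    (ha : ∀ x < 12, ∀ y < 12, adj x y = [(0, 1), (1, 2), (2, 3), (3, 4), (4, 5), (5, 6), (6, 7), (7, 8), (8, 9),
      (5, 10), (10, 11)].any fun e => (e.1 == x && e.2 == y) || (e.1 == y && e.2 == x))
    (h : Commute (Spor.ev l (powW [10, 7, 6, 5, 4, 3, 2] 9)) (l 1)) : Commute (l 2) (l 1) := by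
  have c' : ∀ x y, (x < 12 && y < 12 && !([(0, 1), (1, 2), (2, 3), (3, 4), (4, 5), (5, 6), (6, 7), (7, 8), (8, 9),
      (5, 10), (10, 11)].any fun e => (e.1 == x && e.2 == y) || (e.1 == y && e.2 == x))) = true →
      Commute (l x) (l y) := fun x y k => by
    simp only [Bool.and_eq_true, decide_eq_true_eq, Bool.not_eq_true'] at k
    exact c x k.1.1 y k.1.2 ((ha x k.1.1 y k.1.2).trans k.2)
  have b' : ∀ x y, (x < 12 && y < 12 && ([(0, 1), (1, 2), (2, 3), (3, 4), (4, 5), (5, 6), (6, 7), (7, 8), (8, 9),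
      (5, 10), (10, 11)].any fun e => (e.1 == x && e.2 == y) || (e.1 == y && e.2 == x))) = true →
      Br (l x) (l y) := fun x y k => by
    simp only [Bool.and_eq_true, decide_eq_true_eq] at k
    exact b x k.1.1 y k.1.2 ((ha x k.1.1 y k.1.2).trans k.2)
  obtain ⟨a1, a2, a3⟩ := id_e8
    (sq 1 (by decide)) (sq 2 (by decide)) (sq 3 (by decide)) (sq 4 (by decide)) (sq 5 (by decide))
    (sq 6 (by decide)) (sq 7 (by decide)) (sq 10 (by decide)) (b' 1 2 rfl) (b' 2 3 rfl) (b' 3 4 rfl)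
    (b' 4 5 rfl) (b' 5 6 rfl) (b' 6 7 rfl) (b' 5 10 rfl) (c' 1 3 rfl) (c' 1 4 rfl) (c' 1 5 rfl)
    (c' 1 6 rfl) (c' 1 7 rfl) (c' 1 10 rfl) (c' 2 4 rfl) (c' 2 5 rfl) (c' 2 6 rfl) (c' 2 7 rfl)
    (c' 2 10 rfl) (c' 3 5 rfl) (c' 3 6 rfl) (c' 3 7 rfl) (c' 3 10 rfl) (c' 4 6 rfl) (c' 4 7 rfl)
    (c' 4 10 rfl) (c' 5 7 rfl) (c' 6 10 rfl) (c' 7 10 rfl)
  change cw l (powW [10, 7, 6, 5, 4, 3, 2] 9) (l 1) = cw l [2, 3, 4, 5, 6, 7, 10, 5, 4, 3, 2, 6, 5, 4, 3, 10, 5, 4, 6, 5, 7, 6, 10, 5, 4, 3, 2, 1] (l 1) * l 1 * cw l [2, 3, 4, 5, 6, 7, 10, 5, 4, 3, 2, 6, 5, 4, 3, 10, 5, 4, 6, 5, 7, 6, 10, 5, 4, 3, 2, 1] (l 1) at a1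
  change Br (cw l [2, 3, 4, 5, 6, 7, 10, 5, 4, 3, 2, 6, 5, 4, 3, 10, 5, 4, 6, 5, 7, 6, 10, 5, 4, 3, 2, 1] (l 1)) (l 1) at a2
  change Commute (l 2) (cw l [2, 3, 4, 5, 6, 7, 10, 5, 4, 3, 2, 6, 5, 4, 3, 10, 5, 4, 6, 5, 7, 6, 10, 5, 4, 3, 2, 1] (l 1)) at a3
  generalize cw l [2, 3, 4, 5, 6, 7, 10, 5, 4, 3, 2, 6, 5, 4, 3, 10, 5, 4, 6, 5, 7, 6, 10, 5, 4, 3, 2, 1] (l 1) = t at *
  rw [cw_eq fun x hx => sq x (by revert x; decide), conj_eq_of_commute h] at a1
  rw [Br, ← a1, mul_assoc, left_eq_mul, mul_eq_one_iff_eq_inv, inv_eq_of_sq (sq 1 (by decide))] at a2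
  exact a2 ▸ a3

end Cfsg.Agent.Fischer.F24
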