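import Cfsg.Agent.Fischer.Loc
import Cfsg.Agent.S0607

/-! Bases of the Fischer groups (helper24): the group generated by a base is the Thompson subgroup of every
2-subgroup containing it (`thompson_eq`, `Bs.main`, `B22.bs`, `B23.bs`). -/

set_option maxRecDepth 100000

namespace Cfsg.Agent.Fischer

open Subgroup Cfsg.Agent.Spor
open scoped commutatorElement

variable {G G' : Type*} [Group G] [Group G'] {S D E : Set G}

theorem thompson_eq [Finite G] (B : Finset G) (sq : ∀ b ∈ B, b * b = 1) (cm : ∀ a ∈ B, ∀ b ∈ B, Commute a b)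
    (nm : ∀ g, ∀ b ∈ B, g * b * g⁻¹ ∈ B) (n : 22 ≤ B.card)
    (fix : ∀ g, ∀ F ⊆ B, F.card = 8 → (∀ b ∈ F, Commute g b) → g ∈ closure (B : Set G))
    (two : ∀ a ∈ B, ∀ b ∈ B, ∀ c ∈ B, ∀ d ∈ B, a ≠ b → a * b = c * d → c = a ∨ c = b) :
    thompsonSubgroup 2 G = closure (B : Set G) := by
  classical
  have fix' : ∀ g, 8 ≤ (B.filter fun b => Commute g b).card → g ∈ closure (B : Set G) := fun g h =>
    let ⟨F, h1, h2⟩ := Finset.exists_subset_card_eq h
    fix g F (h1.trans (Finset.filter_subset _ _)) h2 fun b hb => (Finset.mem_filter.1 (h1 hb)).2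
  generalize hV : closure (B : Set G) = V at fix'
  have mV : ∀ b ∈ B, b ∈ V := fun b hb => hV ▸ Subgroup.subset_closure hb
  have cV : ∀ {g}, (∀ b ∈ B, Commute g b) → ∀ v ∈ V, Commute g v := fun h v hv =>
    (mem_centralizer_singleton_iff.1 ((closure_le _).2 (fun b hb => mem_centralizer_singleton_iff.2 (h b hb).symm)
      (hV.ge hv))).symm
  have c2 : ∀ u ∈ V, ∀ v ∈ V, Commute u v := fun u hu => cV fun b hb => (cV (cm b hb) u hu).symm
  have : V.Normal := hV ▸ ⟨fun v hv g => by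
    have := mem_map_of_mem (MulAut.conj g).toMonoidHom hv
    rw [MonoidHom.map_closure] at this
    exact closure_mono (by rintro _ ⟨y, hy, rfl⟩; exact nm g y hy) this⟩
  have eV : IsElementaryAbelian 2 V := ⟨⟨⟨fun a b => Subtype.ext (c2 _ a.2 _ b.2)⟩⟩, fun a ha => by
    refine closure_invol_induction (P := fun g => g ^ 2 = 1) sq (one_pow 2) (fun s hs g hg k => ?_) (hV.ge ha)
    rw [(c2 s (mV s hs) g (hV.le hg)).mul_pow, k, pow_two, sq s hs, one_mul]⟩
  have mv : ∀ x ∉ V, B.card ≤ (B.filter fun b => ¬ Commute x b).card + 7 := fun x hx => by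
    have := Finset.card_filter_add_card_filter_not (s := B) fun b => Commute x b
    have := mt (fix' x) hx
    omega
  have sw : ∀ {x y b}, b ∈ B → ¬ Commute x b → Commute y (b * (x * b * x⁻¹)) →
      Commute y b ∨ y * b * y⁻¹ = x * b * x⁻¹ := fun {x y b} hb n c =>
    (two b hb _ (nm x b hb) _ (nm y b hb) _ (nm y _ (nm x b hb)) (fun e => n (mul_inv_eq_iff_eq_mul.1 e.symm))
      (by rw [conj_mul, conj_eq_of_commute c])).imp_left mul_inv_eq_iff_eq_mul.1
  have key : ∀ A ∈ maxElementaryAbelianSubgroups 2 G, A = V := fun A hA => by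
    suffices h : ⁅V, A⁆ = ⊥ by
      refine eq_of_le_of_card_ge (fun a ha => fix' a ?_) (hA.2 V eV)
      rw [Finset.filter_true_of_mem (p := fun b => Commute a b) fun b hb =>
        commutator_eq_bot_iff_le_centralizer.1 h (mV b hb) a ha]
      omega
    by_contra h
    obtain ⟨h1, h2, h3⟩ := S0607.result V eV A hA
    replace h3 := h3 h
    generalize ⁅V, A⁆ ⊔ (A ⊓ centralizer ((⁅V, A⁆ : Subgroup G) : Set G)) = A at h1 h2 h3
    have cA : ∀ x ∈ A, ∀ y ∈ A, Commute x y := fun x hx y hy =>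
      congrArg Subtype.val (h1.1.1.1.1 (⟨x, hx⟩ : A) ⟨y, hy⟩)
    have sA : ∀ x ∈ A, x * x = 1 := fun x hx => by rw [← pow_two, h1.1.2 x hx]
    have pr : ∀ x ∈ A, ∀ y ∈ A, x ∉ V → y ∉ V → x * y ∈ V := fun x hx y hy nx ny => by
      have := Finset.card_union_add_card_inter (B.filter fun b => ¬ Commute x b) (B.filter fun b => ¬ Commute y b)
      have := Finset.card_le_card (Finset.union_subset (Finset.filter_subset (fun b => ¬ Commute x b) B)
        (Finset.filter_subset (fun b => ¬ Commute y b) B))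
      have := mv x nx
      have := mv y ny
      refine fix' _ (le_trans (by omega) (Finset.card_le_card (s := (B.filter fun b => ¬ Commute x b) ∩
        B.filter fun b => ¬ Commute y b) fun b hb => ?_))
      simp only [Finset.mem_inter, Finset.mem_filter] at hb ⊢
      have c : Commute y ⁅b, x⁆ := commutator_eq_bot_iff_le_centralizer.1 h2
        (commutator_mem_commutator (mV b hb.1.1) hx) y hy
      rw [commutatorElement_def, inv_eq_of_sq (sq b hb.1.1), mul_assoc, mul_assoc, ← mul_assoc x] at c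
      refine ⟨hb.1.1, mul_inv_eq_iff_eq_mul.1 ?_⟩
      calc _ = x * (y * b * y⁻¹) * x⁻¹ := by group
        _ = x * x * b * (x * x)⁻¹ := by rw [(sw hb.1.1 hb.1.2 c).resolve_left hb.2.2]; group
        _ = b := by simp [sA x hx]
    obtain ⟨x, hx, nx⟩ : ∃ x ∈ A, x ∉ V := by
      by_contra! k
      exact h3 (commutator_eq_bot_iff_le_centralizer.2 fun v hv a ha => c2 a (k a ha) v hv)
    have := mv x nx
    obtain ⟨b, hb⟩ := Finset.card_pos.1 (show 0 < (B.filter fun b => ¬ Commute x b).card by omega)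
    obtain ⟨c, hc, nc⟩ := Finset.exists_mem_notMem_of_card_lt_card (s := {b, x * b * x⁻¹})
      (t := B.filter fun b => ¬ Commute x b) (Finset.card_le_two.trans_lt (by omega))
    simp only [Finset.mem_filter, Finset.mem_insert, Finset.mem_singleton, not_or] at hb hc nc
    let f : A → V := fun a => if h : a.1 ∈ V then ⟨a, h⟩ else ⟨b * (x * a), mul_mem (mV b hb.1) (pr x hx a a.2 nx h)⟩
    have k : ∀ a ∈ A, ∀ a' ∈ A, a ≠ b * (x * a') := fun a ha a' ha' e => hb.2 (by
      simpa only [e, mul_inv_cancel_right] using (cA x hx a ha).mul_right (cA x hx _ (mul_mem hx ha')).inv_right)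
    have i : Function.Injective f := fun a a' e => by
      by_cases h : a.1 ∈ V <;> by_cases h' : a'.1 ∈ V <;> simp only [f, h, h', dif_pos, dif_neg, not_false_iff,
        Subtype.mk.injEq, mul_right_inj] at e
      exacts [Subtype.ext e, absurd e (k _ a.2 _ a'.2), absurd e.symm (k _ a'.2 _ a.2), Subtype.ext e]
    obtain ⟨a, e⟩ := (i.bijective_of_nat_card_le (h1.2 V eV)).2 ⟨c, mV c hc.1⟩
    by_cases h : a.1 ∈ V <;> simp only [f, h, dif_pos, dif_neg, not_false_iff, Subtype.mk.injEq] at e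
    · exact hc.2 (e ▸ cA x hx _ a.2)
    have c : Commute x (b * c) := by
      rw [← e, ← mul_assoc, sq b hb.1, one_mul]; exact cA x hx _ (mul_mem hx a.2)
    obtain e | e := two _ (nm x b hb.1) _ (nm x _ hc.1) _ hc.1 _ hb.1 (fun e => nc.1 ((conj_inj x).1 e).symm)
      (by rw [conj_mul, conj_eq_of_commute c, (cm b hb.1 _ hc.1).eq])
    exacts [nc.2 e, hc.2 (mul_inv_eq_iff_eq_mul.1 e.symm)]
  obtain ⟨A, hA⟩ : (maxElementaryAbelianSubgroups 2 G).Nonempty :=
    let ⟨A, h1, h2⟩ := Set.exists_max_image {A : Subgroup G | IsElementaryAbelian 2 A} (fun A => Nat.card A)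
      (Set.toFinite _) ⟨V, eV⟩
    ⟨A, h1, h2⟩
  rw [thompsonSubgroup, Set.eq_singleton_iff_unique_mem.2 ⟨key A hA ▸ hA, key⟩, sSup_singleton]

/-- The non-central members. -/
def NCen (S : Set G) : Set G := {u | u ∈ S ∧ ∃ e ∈ S, ¬ Commute e u}

/-- Codes of the points perpendicular to the standard line and not on it. -/
def L48 : List ℕ := [48, 51, 60, 63, 240, 243, 252, 255, 816, 819, 828, 831, 1008, 1011, 1020, 1023, 1056, 1059, 1068,
  1071, 1072, 1075, 1084, 1087, 1248, 1251, 1260, 1263, 1264, 1267, 1276, 1279, 1824, 1827, 1836, 1839, 1840, 1843,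
  1852, 1855, 2016, 2019, 2028, 2031, 2032, 2035, 2044, 2047]

theorem L48_chk : allN 4096 (fun u => iteB (isoc u && hc 3 u == 0 && hc 12 u == 0)
    (([15, 204, 207].all fun w => hc u w == 0) && (B21.take 5 ++ L48).any fun w => [1, 2, 3].any fun c =>
      u == smc c w) true) = true := by decide +kernel

theorem KU.ncen (h : KU E) {x y : G} (k : CL E [x, y]) : (NCen (Dl E [x, y])).ncard = 48 ∧
    ∀ u ∈ NCen (Dl E [x, y]), ∀ v ∈ NCen (Dl E [x, y]), ∃ g ∈ closure E, Commute g x ∧ Commute g y ∧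
      g * u * g⁻¹ = v := by
  classical
  obtain ⟨lam, u⟩ := h
  obtain ⟨g, hg, rfl, rfl⟩ := u.pair (cl_cons.1 k).1 ((cl_cons.1 k).2.2.1 y (by simp))
  replace u := u.comp (KMap.conj_self u.wt hg)
  generalize e : (fun v => g * lam v * g⁻¹) = lam' at u
  rw [show g * lam (dec F4 3) * g⁻¹ = lam' (dec F4 3) from e ▸ rfl,
    show g * lam (dec F4 12) * g⁻¹ = lam' (dec F4 12) from e ▸ rfl]
  clear e k hg g lam
  have key : ∀ z ∈ Dl E [lam' (dec F4 3), lam' (dec F4 12)], (∀ w ∈ [15, 204, 207], Commute z (lam' (dec F4 w))) ∧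
      ∃ w ∈ B21.take 5 ++ L48, z = lam' (dec F4 w) := fun z hz => by
    obtain ⟨v, hi, rfl⟩ := u.surj z hz.1
    obtain ⟨v, hv, rfl⟩ := exists_dec v
    have := allN_spec L48_chk v hv
    rw [(iso_dec hv).1 hi, (hf_dec_eq_zero 3 v).1 ((u.commute_iff (iso_ok rfl) hi).1 (hz.2.2 _ (by simp))),
      (hf_dec_eq_zero 12 v).1 ((u.commute_iff (iso_ok rfl) hi).1 (hz.2.2 _ (by simp)))] at this
    simp only [beq_self_eq_true, Bool.and_self, iteB_true, Bool.and_eq_true, List.all_eq_true, List.any_eq_true,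
      beq_iff_eq] at this
    obtain ⟨h1, w, hw, c, hc, e⟩ := this
    exact ⟨fun w hw => (u.commute_iff hi (iso_ok (by revert w; decide +kernel))).2 (hd0 (h1 w hw)), w, hw,
      by rw [e, u.smc (iso_ok (by clear e; revert w; decide +kernel)) hc]⟩
  have nl : ∀ w ∈ B21.take 5, lam' (dec F4 w) ∉ NCen (Dl E [lam' (dec F4 3), lam' (dec F4 12)]) := by
    rintro w hw ⟨m, e, he, n⟩
    obtain rfl | rfl | hw : w = 3 ∨ w = 12 ∨ w ∈ [15, 204, 207] := by clear m n; revert w; decide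
    exacts [m.2.1 (by simp), m.2.1 (by simp), n ((key e he).1 w hw)]
  refine ⟨?_, ?_⟩
  · have e : NCen (Dl E [lam' (dec F4 3), lam' (dec F4 12)]) = (L48.map fun w => lam' (dec F4 w)).toFinset := by
      ext z
      simp only [List.coe_toFinset, List.mem_map, Set.mem_ofPred_eq]
      refine ⟨fun hz => ?_, ?_⟩
      · obtain ⟨w, hw, rfl⟩ := (key z hz.1).2
        exact ⟨w, (List.mem_append.1 hw).resolve_left fun k => nl w k hz, rfl⟩
      · rintro ⟨w, hw, rfl⟩
        obtain ⟨e, -, k1, k2⟩ : ∃ e ∈ L48, _ ∧ _ := by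
          refine (?_ : ∀ w ∈ L48, ∃ e ∈ L48, (okc 3 && okc 12 && okc e && okc w && hc 3 w == 0 && hc 12 w == 0 &&
            hc 3 e == 0 && hc 12 e == 0 && hc w e != 0) = true ∧ (okc 3 && okc 12 && okc w && okc e && hc 3 e == 0 &&
            hc 12 e == 0 && hc 3 w == 0 && hc 12 w == 0 && hc e w != 0) = true) w hw
          decide +kernel
        exact ⟨(u.dl_of 3 12 e w k1).1, _, u.dl_of 3 12 w e k2⟩
    rw [e, Set.ncard_coe_finset, List.toFinset_card_of_nodup, List.length_map]; · rfl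
    refine (show L48.Nodup by decide).map_on fun a ha b hb e => ?_
    have k : okc a = true ∧ okc b = true ∧ a < 4096 ∧ b < 4096 ∧ (a = b ∨ nprop a b = true) := by
      clear e; revert a b; decide +kernel
    obtain ⟨c, hc⟩ := (u.eq_iff _ _ (iso_ok k.1) (iso_ok k.2.1)).1 e
    exact k.2.2.2.2.resolve_right fun n => nprop_spec k.2.2.1 k.2.2.2.1 n c hc
  · have t := fun z (hz : z ∈ NCen (Dl E [lam' (dec F4 3), lam' (dec F4 12)])) =>
      (u.third hz.1.1 (hz.1.2.2 _ (by simp)).symm (hz.1.2.2 _ (by simp)).symm).resolve_left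
        fun ⟨w, hw, e⟩ => nl w hw (e ▸ hz)
    intro a ha b hb
    obtain ⟨g, hg, e1, e2, rfl⟩ := t a ha
    obtain ⟨g', hg', e1', e2', rfl⟩ := t b hb
    exact ⟨g' * g⁻¹, mul_mem hg' (inv_mem hg), Commute.mul_left (mul_inv_eq_iff_eq_mul.1 e1')
      (Commute.inv_left (mul_inv_eq_iff_eq_mul.1 e1)), Commute.mul_left (mul_inv_eq_iff_eq_mul.1 e2')
      (Commute.inv_left (mul_inv_eq_iff_eq_mul.1 e2)), by group⟩

theorem card48 (hD : IsThreeTranspositionGroup D) {l : List G} {x y v : G} (k : CL D (l ++ [x, y]))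
    (u : KU (Dl D l)) (hv : v ∈ NCen (Dl D (l ++ [x, y]))) : Nat.card (centralizer {a | a ∈ l ++ [x, y]}) =
      48 * Nat.card (centralizer {a | a ∈ v :: (l ++ [x, y])}) := by
  obtain ⟨e, t⟩ := u.ncen (cl_append.1 k).2
  rw [← Dl_append] at e t
  rw [card_eq_orb _ v, cent_cons, ← e]
  congr 2
  ext y
  constructor
  · rintro ⟨g, hg, rfl⟩
    have := (TG.wt hD).conj_dl (hD.2.2 ▸ mem_top g) k.2.1
    rw [map_conj_eq.2 (mem_cent_list.1 hg)] at this
    obtain ⟨m, e, he, n⟩ := hv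
    exact ⟨this.mem m, _, this.mem he, mt (commute_conj_iff g).1 n⟩
  · intro hy
    obtain ⟨g, hg, c1, c2, e⟩ := t v hv y hy
    exact ⟨g, mem_cent_list.2 (by simpa [or_imp, forall_and] using ⟨closure_dl_comm hg, c1, c2⟩), e⟩

/-- The data that determine the Thompson subgroup. -/
structure Bs (D : Set G) (n m : ℕ) : Prop where
  tg : IsThreeTranspositionGroup D
  tr : Tr1 D
  nc : NoCL D 2
  wd : WEq D n
  n1 : 22 ≤ n
  fix : ∃ k ≤ 4, ∀ l, CL D l → l.length = k → CenN (Dl D l) 3 ∧ ∀ v ∈ NCen (Dl D l),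
    Nat.card (centralizer {a | a ∈ v :: l}) = 2 ^ (m + 1) * 3
  low : ∃ μ, μ * 2 ^ m < n.choose 3 ∧ ∀ l, CL D l → l.length = 3 → ∃ T : Finset (Set G), T.card ≤ μ ∧
    ∀ r, CL D r → r.length = 3 → r.prod = l.prod → {x | x ∈ r} ∈ T

variable [Finite G]

theorem B22.bs (h : B22 D) : Bs D 22 9 := by
  classical
  refine ⟨h.fl.tg, h.fl.tr1, h.k.noCL, h.k.wEq, le_rfl, ⟨3, by decide, fun l hl e => ⟨h.k.cenN l hl e, fun v hv => ?_⟩⟩,
    2, by decide, fun l hl e => ?_⟩
  · obtain ⟨a, b, c, rfl⟩ := List.length_eq_three.1 e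
    have := card48 h.fl.tg (l := [a]) hl (Dl_one D a ▸ h.k.loc a (hl.2.1 a (by simp))) hv
    rw [show [a] ++ [b, c] = [a, b, c] from rfl, h.card_cl3 hl] at this
    omega
  · obtain ⟨l', -, -, -, k⟩ := h.hexad hl e
    exact ⟨{{x | x ∈ l}, {x | x ∈ l'}}, Finset.card_le_two, fun r a b c => by
      simpa only [Finset.mem_insert, Finset.mem_singleton, Set.ext_iff, Set.mem_ofPred_eq] using k r a b c⟩

theorem B23.card_cl4 (h : B23 D) {a b c d : G} (k : CL D [a, b, c, d]) :
    Nat.card (centralizer {y | y ∈ [a, b, c, d]}) = 294912 := by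
  have k3 := (cl_cons'.1 k).1
  have k2 := (cl_cons'.1 k3).1
  have k1 := (cl_cons'.1 k2).1
  have e1 := card_cl h.fl.tg k1 (h.k.trA _ (by simp))
  rw [card_cl h.fl.tg k2 (h.k.trA _ (by simp)), card_cl h.fl.tg k3 (h.k.trA _ (by simp)),
    card_cl h.fl.tg k (h.k.trA _ (by simp)), Dl_nil, h.k.ncard,
    ncL_succ (fun a ha => (h.k.loc a ha).ncL0) _ k1 rfl, ncL_succ (fun a ha => (h.k.loc a ha).ncL1) _ k2 rfl,
    ncL_succ (fun a ha => (h.k.loc a ha).ncL2) _ k3 rfl] at e1
  have : Nat.card (centralizer {y : G | y ∈ ([] : List G)}) = 4089470473293004800 := by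
    rw [← h.card]; simp
  omega

theorem B23.bs (h : B23 D) : Bs D 23 10 := by
  refine ⟨h.fl.tg, h.fl.tr1, h.k.noCL.mono (by decide), h.k.wEq, by decide, ⟨4, le_rfl, fun l hl e => ?_⟩,
    1, by decide, fun l hl e => ⟨{{x | x ∈ l}}, le_rfl, fun r a b c => Finset.mem_singleton.2
      (Set.ext (a.ext_of_prod h.fl.wt h.k.noCL hl b.le e.le le_rfl c))⟩⟩
  obtain ⟨a, b, c, d, rfl⟩ := List.length_eq_four.1 e
  refine ⟨Dl_cons D a _ ▸ (h.k.loc a (cl_cons.1 hl).1).cenN _ (cl_cons.1 hl).2 rfl, fun v hv => ?_⟩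
  have := card48 h.fl.tg (l := [a, b]) hl (h.cz2 (hl.sublist (by simp))).2.2 hv
  rw [show [a, b] ++ [c, d] = [a, b, c, d] from rfl, h.card_cl4 hl] at this
  omega

namespace Bs
variable {n m : ℕ} {B : List G}

theorem max (h : Bs D n m) (k : CL D B) (e : B.length = n) {R : Subgroup G} (hR : IsPGroup 2 R)
    (hB : ∀ b ∈ B, b ∈ R) {x : G} (hx : x ∈ D) (m : x ∈ R) : x ∈ B := by
  by_contra n
  have := h.wd.1 _ (cl_cons'.2 ⟨k, hx, n, fun b hb =>
    TT.commute_of_mul_mem_two h.tg.1 (k.2.1 b hb) hx hR (mul_mem (hB b hb) m)⟩)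
  simp at this; omega

theorem low' (h : Bs D n m) (k : CL D B) (e : B.length = n) : 2 ^ m < Nat.card (closure {b | b ∈ B}) := by
  classical
  obtain ⟨μ, h1, h2⟩ := h.low
  have cl : ∀ s ∈ B.toFinset.powersetCard 3, CL D s.toList ∧ s.toList.length = 3 ∧ ∀ x ∈ s.toList, x ∈ B :=
    fun s hs => by
      rw [Finset.mem_powersetCard] at hs
      have : ∀ x ∈ s.toList, x ∈ B := fun x hx => by simpa using hs.1 (by simpa using hx)
      exact ⟨k.sub s.nodup_toList this, by simp [hs.2], this⟩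
  have := Finset.card_le_mul_card_image (f := fun s : Finset G => s.toList.prod) (B.toFinset.powersetCard 3) μ
    fun t ht => by
      obtain ⟨s, hs, rfl⟩ := Finset.mem_image.1 ht
      obtain ⟨T, t1, t2⟩ := h2 _ (cl s hs).1 (cl s hs).2.1
      refine le_trans (Finset.card_le_card_of_injOn (fun r : Finset G => (r : Set G)) (fun r hr => ?_)
        fun _ _ _ _ e => Finset.coe_injective e) t1
      simp only [Finset.coe_filter, Set.mem_ofPred_eq] at hr
      simpa using t2 _ (cl r hr.1).1 (cl r hr.1).2.1 hr.2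
  rw [Finset.card_powersetCard, List.toFinset_card_of_nodup k.1, e] at this
  refine (Nat.lt_of_mul_lt_mul_left (h1.trans_le this)).trans_le ?_
  rw [← Set.ncard_coe_finset]
  refine Set.ncard_le_ncard (t := ((closure {b | b ∈ B} : Subgroup G) : Set G)) fun t ht => ?_
  obtain ⟨s, hs, rfl⟩ := Finset.mem_image.1 ht
  exact list_prod_mem fun x hx => Subgroup.subset_closure ((cl s hs).2.2 x hx)

theorem fix' (h : Bs D n m) (k : CL D B) (e : B.length = n) {R : Subgroup G} (hR : IsPGroup 2 R)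
    (hB : ∀ b ∈ B, b ∈ R) {g : G} (hg : g ∈ R) {F : Finset G} (h1 : ∀ b ∈ F, b ∈ B) (h2 : F.card = 8)
    (h3 : ∀ b ∈ F, Commute g b) : g ∈ closure {b | b ∈ B} ∧ Nat.card (closure {b | b ∈ B}) = 2 ^ (m + 1) := by
  classical
  obtain ⟨j, hj, h4⟩ := h.fix
  obtain ⟨T, t1, t2⟩ := Finset.exists_subset_card_eq (s := F) (n := j) (by omega)
  have t3 : ∀ x ∈ T.toList, x ∈ F := fun x hx => t1 (by simpa using hx)
  obtain ⟨⟨c, c1, c2⟩, h5⟩ := h4 _ (k.sub T.nodup_toList fun x hx => h1 x (t3 x hx)) (by simp [t2])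
  obtain ⟨v, hv, nv⟩ := Finset.exists_mem_notMem_of_card_lt_card (s := T ∪ c.toFinset) (t := F)
    ((Finset.card_union_le _ _).trans_lt (by have := c.toFinset_card_le; omega))
  simp only [Finset.mem_union, List.mem_toFinset, not_or] at nv
  have m1 : v ∈ Dl D T.toList := ⟨k.2.1 v (h1 v hv), by simpa using nv.1, fun a ha => k.2.2 a (h1 a (t3 a ha)) v (h1 v hv)⟩
  have c := h5 v ⟨m1, by by_contra! n; exact nv.2 (c2 v m1 n)⟩
  have t4 : ∀ x ∈ v :: T.toList, x ∈ F := List.forall_mem_cons.2 ⟨hv, t3⟩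
  have le : closure {b | b ∈ B} ≤ R ⊓ centralizer {a | a ∈ v :: T.toList} := (closure_le _).2 fun b hb =>
    ⟨hB b hb, mem_cent_list.2 fun a ha => k.2.2 b hb a (h1 a (t4 a ha))⟩
  obtain ⟨i, hi⟩ := (hR.to_inf_left (K := centralizer {a | a ∈ v :: T.toList})).exists_card_eq
  obtain ⟨i', hi'⟩ := ((hR.to_inf_left (K := centralizer {a | a ∈ v :: T.toList})).to_le le).exists_card_eq
  have a1 := card_dvd_of_le (inf_le_right (a := R) (b := centralizer {a | a ∈ v :: T.toList}))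
  rw [hi, c] at a1
  have a2 := (Nat.pow_dvd_pow_iff_le_right (by decide)).1
    (Nat.Coprime.dvd_of_dvd_mul_right (Nat.Coprime.pow_left i (by decide)) a1)
  have a3 := h.low' k e
  rw [hi', Nat.pow_lt_pow_iff_right (by decide)] at a3
  have a4 := card_le_of_le le
  rw [hi, hi', Nat.pow_le_pow_iff_right (by decide)] at a4
  exact ⟨(eq_of_le_of_card_ge le (by rw [hi, hi']; exact Nat.pow_le_pow_right (by decide) (by omega))).ge
    ⟨hg, mem_cent_list.2 fun a ha => h3 a (t4 a ha)⟩, by rw [hi']; congr; omega⟩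

theorem main (h : Bs D n m) (k : CL D B) (e : B.length = n) {P : Type*} [Group P] (hP : IsPGroup 2 P) {ι : P →* G}
    (i : Function.Injective ι) (hB : ∀ b ∈ B, b ∈ ι.range) :
    (thompsonSubgroup 2 P).map ι = closure {b | b ∈ B} := by
  classical
  have := Finite.of_injective _ i
  have w := TG.wt h.tg
  have hR : IsPGroup 2 ι.range := hP.of_surjective _ ι.rangeRestrict_surjective
  have e1 : ι '' (B.toFinset.preimage ι i.injOn) = {b | b ∈ B} := by
    ext b
    exact ⟨by rintro ⟨_, m, rfl⟩; simpa using m, fun m => let ⟨x, e⟩ := hB b m; ⟨x, by simpa [e] using m, e⟩⟩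
  have e2 := MonoidHom.map_closure ι (B.toFinset.preimage ι i.injOn)
  rw [e1] at e2
  rw [thompson_eq (B.toFinset.preimage ι i.injOn) (fun b hb => i (by simpa using w.sq _ (k.2.1 _ (by simpa using hb))))
    (fun a ha b hb => i (by simpa using (k.2.2 _ (by simpa using ha) _ (by simpa using hb)).eq))
    (fun g b hb => by simpa using (h.max k e hR hB (TG.conj h.tg (ι g) (k.2.1 (ι b) (by simpa using hb)))
      ⟨g * b * g⁻¹, by simp⟩)) ?_ (fun g F h1 h2 h3 => ?_) fun a ha b hb c hc d hd n E => ?_, e2]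
  · rw [← Set.ncard_coe_finset, ← Set.ncard_image_of_injective _ i, e1, ← List.coe_toFinset, Set.ncard_coe_finset,
      List.toFinset_card_of_nodup k.1, e]
    exact h.n1
  · rw [← mem_map_iff_mem i, e2]
    exact (h.fix' k e hR hB ⟨g, rfl⟩ (F := F.map ⟨ι, i⟩) (by simpa using fun b hb => by simpa using h1 hb)
      (by simpa using h2) (by simpa using fun b hb => (h3 b hb).map ι)).1
  · simp only [Finset.mem_preimage, List.mem_toFinset] at ha hb hc hd
    have k1 := cl_two (k.2.1 _ ha) (k.2.1 _ hb) (i.ne n) (k.2.2 _ ha _ hb)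
    have E' : ι a * ι b = ι c * ι d := by rw [← map_mul, E, map_mul]
    have n' : ι c ≠ ι d := fun e => k1.prod_ne_one w h.nc.noC (by simp) (by simp)
      (by simpa [E', e] using w.sq _ (k.2.1 _ hd))
    simpa [i.eq_iff] using (k1.ext_of_prod w h.nc (cl_two (k.2.1 _ hc) (k.2.1 _ hd) n' (k.2.2 _ hc _ hd))
      le_rfl le_rfl (by decide) (by simpa using E') (ι c)).2 (by simp)

theorem exists_base (h : Bs D n m) {d : G} (hd : d ∈ D) : ∃ B, CL D B ∧ B.length = n ∧ d ∈ B := by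
  obtain ⟨l, h1, h2⟩ := h.wd.2
  obtain ⟨a, l, rfl⟩ := List.exists_cons_of_length_pos (l := l) (by have := h.n1; omega)
  obtain ⟨g, hg, rfl⟩ := h.tr a (h1.2.1 a (by simp)) d hd
  exact ⟨_, h1.conj (TG.wt h.tg) hg, by simpa using h2, by simp⟩

theorem into (h : Bs D n m) (k : CL D B) {H : Subgroup G} (hB : ∀ b ∈ B, b ∈ H) (S : Sylow 2 H) :
    ∃ c ∈ H, ∀ b ∈ B, c * b * c⁻¹ ∈ (H.subtype.comp (S : Subgroup H).subtype).range := by
  obtain ⟨g, hg⟩ := Invol.exists_conj_into_sylow (isPGroup_closure_of_commute (E := {x : H | x.1 ∈ B})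
    (fun a ha => Subtype.ext (TT.sq h.tg.1 (k.2.1 _ ha))) fun a ha b hb => Subtype.ext (k.2.2 _ ha _ hb)) S
  exact ⟨g, g.2, fun b hb => ⟨⟨_, hg ⟨b, hB b hb⟩ (Subgroup.subset_closure hb)⟩, rfl⟩⟩

/-- The Thompson subgroup of a Sylow 2-subgroup of the centraliser of a transposition. -/
theorem cent (h : Bs D n m) {d : G} (e : D = conjugatesOf d) (S : Sylow 2 (centralizer ({d} : Set G)))
    {A : Subgroup G} (hA : A = (thompsonSubgroupOf 2 (S : Subgroup (centralizer ({d} : Set G)))).map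
      (centralizer ({d} : Set G)).subtype) : IsElementaryAbelian 2 A ∧ Nat.card A = 2 ^ (m + 1) ∧
    {x | x ∈ A ∧ IsConj d x}.ncard = n ∧ ∀ x ∈ A, ∀ y ∈ A, IsConj d x → IsConj d y →
      ∃ g ∈ normalizer (A : Set G), g * x * g⁻¹ = y := by
  classical
  have w := TG.wt h.tg
  have top := fun g => (h.tg.2.2 ▸ mem_top g : g ∈ closure D)
  obtain ⟨B, k, e1, m⟩ := h.exists_base (e.ge mem_conjugatesOf_self)
  obtain ⟨c, -, hc⟩ := h.into k (fun b hb => mem_centralizer_singleton_iff.2 (k.2.2 b hb d m)) S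
  replace k := k.conj w (top c)
  rw [← List.forall_mem_map (P := fun b => b ∈ _), ← B.length_map fun x => c * x * c⁻¹] at *
  generalize B.map (fun x => c * x * c⁻¹) = B at k e1 hc
  rw [thompsonSubgroupOf, map_map, h.main k e1 S.isPGroup' ((subtype_injective _).comp (subtype_injective _)) hc] at hA
  subst hA
  have p := isPGroup_closure_of_commute (E := {b | b ∈ B}) (fun a ha => w.sq a (k.2.1 a ha)) k.2.2
  have mB : ∀ b ∈ B, b ∈ closure {b | b ∈ B} := fun b hb => Subgroup.subset_closure hb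
  have eB : ∀ x, x ∈ closure {b | b ∈ B} → IsConj d x → x ∈ B := fun x h1 h2 => h.max k e1 p mB (e.ge h2) h1
  have sq : ∀ x ∈ closure {b | b ∈ B}, x * x = 1 := fun x hx => by
    obtain ⟨r, r1, -, rfl⟩ := k.mem_closure w hx
    exact r1.prod_sq w
  obtain ⟨F, f1, f2⟩ := Finset.exists_subset_card_eq (s := B.toFinset) (n := 8) (by
    rw [List.toFinset_card_of_nodup k.1, e1]; have := h.n1; omega)
  refine ⟨⟨⟨⟨fun a b => Subtype.ext ((commute_iff_sq (sq _ a.2) (sq _ b.2)).2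
    (by rw [pow_two, sq _ (mul_mem a.2 b.2)]))⟩⟩, fun a ha => by rw [pow_two, sq a ha]⟩,
    (h.fix' k e1 p mB (one_mem _) (fun b hb => by simpa using f1 hb) f2 fun b _ => Commute.one_left b).2, ?_,
    fun x hx y hy cx cy => ?_⟩
  · rw [show {x | x ∈ closure {b | b ∈ B} ∧ IsConj d x} = B.toFinset from Set.ext fun x =>
      ⟨fun m => by simpa using eB x m.1 m.2, fun m => ⟨mB x (by simpa using m), e.le (k.2.1 x (by simpa using m))⟩⟩,
      Set.ncard_coe_finset, List.toFinset_card_of_nodup k.1, e1]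
  obtain ⟨g, rfl⟩ := isConj_iff.1 (cx.symm.trans cy)
  obtain ⟨S⟩ := Sylow.nonempty (p := 2) (G := centralizer {g * x * g⁻¹})
  obtain ⟨c, c1, c2⟩ := h.into k (fun b hb => mem_centralizer_singleton_iff.2 (k.2.2 b hb _ (eB _ hy cy))) S
  obtain ⟨c', c3, c4⟩ := h.into (k.conj w (top g)) (by
    simpa only [List.forall_mem_map, mem_centralizer_singleton_iff] using fun b hb =>
      ((commute_conj_iff g).2 (k.2.2 b hb _ (eB _ hx cx))).eq) S
  have n : ∀ b ∈ B, c⁻¹ * c' * g * b * (c⁻¹ * c' * g)⁻¹ ∈ B := fun b hb => by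
    have := h.max (k.conj w (top c)) (by simpa using e1) (S.isPGroup'.of_surjective _
      (MonoidHom.rangeRestrict_surjective _)) (by simpa only [List.forall_mem_map] using c2)
      (TG.conj h.tg c' (TG.conj h.tg g (k.2.1 b hb))) (c4 _ (List.mem_map_of_mem hb))
    obtain ⟨b', hb', E⟩ := List.mem_map.1 this
    rwa [show c⁻¹ * c' * g * b * (c⁻¹ * c' * g)⁻¹ = c⁻¹ * (c' * (g * b * g⁻¹) * c'⁻¹) * c by group, ← E,
      show c⁻¹ * (c * b' * c⁻¹) * c = b' by group]
  refine ⟨c⁻¹ * c' * g, mem_normalizer_fintype fun v hv => ?_, ?_⟩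
  · have := mem_map_of_mem (MulAut.conj (c⁻¹ * c' * g)).toMonoidHom hv
    rw [MonoidHom.map_closure] at this
    exact closure_mono (by rintro _ ⟨y, hy, rfl⟩; exact n y hy) this
  · rw [← conj_eq_of_commute (g := c⁻¹ * c') (mem_centralizer_singleton_iff.1 (mul_mem (inv_mem c1) c3))]; group

end Bs

end Cfsg.Agent.Fischer
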