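import Cfsg.Agent.Fischer.Sec

/-! Conjugacy classes of involutions that are locally of Fischer type (helper24): dihedral groups (`dih`), the
components `Cp` of the commuting graph, their recognition and uniqueness; `loc22`, `loc23`. -/

namespace Cfsg.Agent.Fischer

open Subgroup

variable {G G' : Type*} [Group G] [Group G'] {S D : Set G}

theorem dih [Finite G] {u v : G} (hu : u * u = 1) (hv : v * v = 1) : ∃ y ∈ zpowers (u * v), y * v * y⁻¹ = u ∨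
    ∃ z, z ≠ 1 ∧ z * z = 1 ∧ Commute u z ∧ Commute v z ∧ (y * v * y⁻¹ = u * z ∨
      z = y⁻¹ * y⁻¹ ∧ u * y * u = y⁻¹ ∧ ∃ g, g * u * g⁻¹ = u * y ∨ g * v * g⁻¹ = u * y) := by
  obtain ⟨c, rfl⟩ : ∃ c, v = u * c := ⟨u * v, by rw [← mul_assoc, hu, one_mul]⟩
  rw [← mul_assoc, hu, one_mul]
  have e0 : SemiconjBy u c⁻¹ c := by
    rw [SemiconjBy, mul_inv_eq_iff_eq_mul, ← mul_right_inj u, hu, ← hv]; simp only [mul_assoc]
  have e1 : ∀ k : ℤ, c ^ k * u = u * c ^ (-k) := fun k => by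
    rw [← (e0.zpow_right k).eq, inv_zpow']
  have e2 : ∀ k : ℤ, c ^ k * u * (c ^ k)⁻¹ = u * c ^ (-2 * k) := fun k => by rw [e1]; group
  have e3 : ∀ k : ℤ, c ^ k * (u * c) * (c ^ k)⁻¹ = u * c ^ (1 - 2 * k) := fun k => by rw [← mul_assoc, e1]; group
  have m : ∀ k : ℤ, c ^ k ∈ zpowers c := fun k => ⟨k, rfl⟩
  have o : ∀ k : ℤ, c ^ k = 1 ↔ (orderOf c : ℤ) ∣ k := fun k => orderOf_dvd_iff_zpow_eq_one.symm
  obtain ⟨n, hn | hn⟩ := Int.even_or_odd' (orderOf c)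
  swap
  · exact ⟨_, m (n + 1), .inl (by rw [e3, (o _).2 ⟨-1, by omega⟩, mul_one])⟩
  have p : 0 < orderOf c := orderOf_pos c
  have s : c ^ (-n) * c ^ (-n) = 1 := by rw [← zpow_add, o]; exact ⟨-1, by omega⟩
  have cu : Commute u (c ^ (-n)) := by
    rw [Commute, SemiconjBy, e1, neg_neg, mul_right_inj, ← inv_eq_of_sq s, zpow_neg, inv_inv]
  have z : c ^ (-n) ≠ 1 ∧ c ^ (-n) * c ^ (-n) = 1 ∧ Commute u (c ^ (-n)) ∧ Commute (u * c) (c ^ (-n)) :=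
    ⟨fun h => absurd (Int.le_of_dvd (by omega) (dvd_neg.1 ((o _).1 h))) (by omega), s, cu,
      cu.mul_left (Commute.self_zpow c _)⟩
  obtain ⟨k, rfl | rfl⟩ := Int.even_or_odd' n
  · refine ⟨_, m k, .inr ⟨_, z.1, z.2.1, z.2.2.1, z.2.2.2, .inr ⟨by group, by
      rw [mul_assoc, e1, ← mul_assoc, hu, one_mul, zpow_neg], ?_⟩⟩⟩
    obtain ⟨j, rfl | rfl⟩ := Int.even_or_odd' k
    · exact ⟨c ^ (-j), .inl (by rw [e2]; group)⟩
    · exact ⟨c ^ (-j), .inr (by rw [e3]; group)⟩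
  · exact ⟨_, m (k + 1), .inr ⟨_, z.1, z.2.1, z.2.2.1, z.2.2.2, .inl (by rw [e3]; group)⟩⟩

/-- A class of involutions with good perps. -/
structure LD (D : Set G) : Prop where
  sq : ∀ x ∈ D, x * x = 1
  conj : ∀ g, ∀ x ∈ D, g * x * g⁻¹ ∈ D
  tr : ∀ x ∈ D, ∀ y ∈ D, ∃ g, g * x * g⁻¹ = y
  wt : ∀ x ∈ D, WT (Dd D x)
  tr1 : ∀ x ∈ D, Tr1 (Dd D x)
  noc : ∀ x ∈ D, NoC (Dd D x)
  ne : ∀ x ∈ D, ∃ a b, CL (Dd D x) [a, b]
  cen : ∀ x ∈ D, ∀ g, Commute g x → g ∈ closure (Dd D x)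
  zen : ∀ x ∈ D, ∀ c, Commute c x → (∀ y ∈ Dd D x, Commute c y) → c = 1 ∨ c = x
  d2 : ∀ x ∈ D, ∀ y ∈ D, ∀ w ∈ Dd D y, ∀ v ∈ Dd D y, ¬ Commute x y → Commute w x →
    ∃ p ∈ D, Commute p x ∧ Commute p v

/-- The members of `D` at distance at most two from `x`. -/
def Cp (D : Set G) (x : G) : Set G := {y | y ∈ D ∧ ∃ w ∈ D, Commute w x ∧ Commute w y}

/-- Every triple has a non-commuting pair in its perp. -/
def Nc3 (S : Set G) : Prop := ∀ l, CL S l → l.length = 3 → ∃ x ∈ Dl S l, ∃ y ∈ Dl S l, ¬ Commute y x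

theorem KMap.nc3 {f : G' → G} {S' : Set G'} (h : KMap f S' S) (k : Nc3 S') : Nc3 S := fun l hl e => by
  obtain ⟨l, hl', rfl⟩ := h.exists_cl hl
  obtain ⟨x, hx, y, hy, n⟩ := k l hl' (by simpa using e)
  have := h.dl hl'.2.1
  exact ⟨_, this.mem hx, _, this.mem hy, mt (this.commute_iff hy hx).1 n⟩

/-- The properties of `Fi22`, `Fi23` used for the uniqueness of the component. -/
structure UB (S : Set G) : Prop where
  wt : WT S
  fix : FixP S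
  inv : ∀ t ∈ closure S, t * t = 1 → ∃ l, CL S l ∧ l.length ≤ 3 ∧ l.prod = t
  nc : NoCL S 2
  rel : Rl S 7 0
  tr2 : TrL S 2
  nc3 : Nc3 S

theorem UB.of_sub {S' : Set (closure S)} (k : KMap (closure S).subtype S' S) (h : UB S') (t : closure S' = ⊤) :
    UB S := by
  refine ⟨k.wt, k.fixP h.fix, fun t ht h2 => ?_, k.noCL h.nc, h.rel.map k, k.trL h.tr2, k.nc3 h.nc3⟩
  obtain ⟨l, h1, h3, e⟩ := h.inv ⟨t, ht⟩ (‹_ = ⊤› ▸ mem_top _) (Subtype.ext h2)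
  exact ⟨_, k.cl h1, by simpa using h3, by rw [← map_list_prod, e]; rfl⟩

theorem K22.nc3 (h : K22 S) : Nc3 S := fun l hl e => by
  obtain ⟨a, b, c, rfl⟩ := List.length_eq_three.1 e
  obtain ⟨ha, hl⟩ := cl_cons.1 hl
  obtain ⟨lam, u⟩ := h.loc a ha
  obtain ⟨k, hk, rfl, rfl⟩ := u.pair (cl_cons.1 hl).1 ((cl_cons.1 hl).2.2.1 c (by simp))
  have := (KMap.conj_self u.wt hk).dl (l := [_, _]) (by simpa using And.intro (u.m 3) (u.m 12))
  rw [Dl_cons]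
  exact ⟨_, this.mem (u.dl_of 3 12 1056 48).1, _, this.mem (u.dl_of 3 12 48 1056).1,
    mt (commute_conj_iff k).1 (u.dl_of 3 12 48 1056).2⟩

theorem B22.ub [Finite G] (h : B22 D) : UB D :=
  ⟨h.fl.wt, h.k.fixP, fun t _ => h.inv t, h.k.noCL, h.rl7.of_le (by decide), h.k.trA 2 (by decide), h.k.nc3⟩

theorem B23.ub [Finite G] (h : B23 D) : UB D := by
  refine ⟨h.fl.wt, let ⟨_, k⟩ := h.k; k.fixP F23.fixP, fun t _ => h.inv t, h.k.noCL.mono (by decide),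
    h.rl7.of_le (by decide), h.k.trA 2 (by decide), fun l hl e => ?_⟩
  obtain ⟨r, r1, r2, -⟩ := h.rl7.get h.fl.wt (l1 := l) (l2 := []) (by simpa using hl)
    (by simpa [e] using h.k.trA 3 (by decide)) (by omega) (by simp)
  obtain ⟨z, r, rfl⟩ := List.exists_cons_of_length_pos (l := r) (by omega)
  have m : z ∈ Dl D l := by simpa using r1.2.1 z (by simp)
  exact ⟨z, m, h.k.noCL l hl e.le z m⟩

theorem prim_of [Finite G] (w : WT S) (t : closure S = ⊤) (tr : Tr1 S) (n : NoC S) {a : G} (ha : a ∈ S)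
    (s : Sep (Dd S a)) (c : ∀ x ∈ S, ∀ y ∈ S, ∃ p ∈ S, Commute p x ∧ Commute p y)
    (z : ∀ c, Commute c a → (∀ y ∈ Dd S a, Commute c y) → c = 1 ∨ c = a) :
    IsThreeTranspositionGroup S ∧ IsPrimitiveUnderConj S ∧ center G = ⊥ := by
  have tg := w.group n.one_not_mem t
  have cls := TC.mk' tg ⟨a, ha⟩ fun x hx y hy => let ⟨g, _, e⟩ := tr x hx y hy; ⟨g, e⟩
  obtain ⟨e, he, ne⟩ := n a ha
  have := (s.of_dd ha).cores cls
  refine ⟨tg, TC.primitive_of_connected cls ⟨e, he, a, ha, fun k => ne (k ▸ Commute.refl _)⟩ this.1 this.2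
    (connected_of_induction ⟨a, ha⟩ fun X x hx hX st y hy => ?_), eq_bot_iff.2 fun g hg => ?_⟩
  · obtain ⟨p, hp, c1, c2⟩ := c x hx y hy
    exact st p hp y hy (st x hx p hp hX c1.symm) c2
  · have k := fun y => (mem_center_iff.1 hg y).symm
    exact (z g (k a) fun y _ => k y).resolve_right fun E => ne (E ▸ k e : Commute a e).symm

namespace LD
variable {x y b g : G}

theorem self (hx : x ∈ D) : x ∈ Cp D x := ⟨hx, x, hx, .refl x, .refl x⟩

theorem symm (hx : x ∈ D) (k : y ∈ Cp D x) : x ∈ Cp D y := let ⟨_, w, hw, a, b⟩ := k; ⟨hx, w, hw, b, a⟩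

theorem step (h : LD D) (hx : x ∈ D) (k : y ∈ Cp D x) {v : G} (hv : v ∈ D) (c : Commute y v) : v ∈ Cp D x := by
  obtain ⟨hy, w, hw, a, b⟩ := k
  by_cases c1 : Commute x y
  · exact ⟨hv, y, hy, c1.symm, c⟩
  by_cases c2 : v = y
  · exact ⟨hv, w, hw, a, c2 ▸ b⟩
  exact ⟨hv, h.d2 x hx y hy w ⟨hw, fun e => c1 (e ▸ a).symm, b.symm⟩ v ⟨hv, c2, c⟩ c1 a⟩

theorem trans (h : LD D) (hx : x ∈ D) (k : y ∈ Cp D x) {v : G} (k' : v ∈ Cp D y) : v ∈ Cp D x :=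
  let ⟨hv, w, hw, a, b⟩ := k'; h.step hx (h.step hx k hw a.symm) hv b

theorem cp_eq (h : LD D) (hx : x ∈ D) (k : y ∈ Cp D x) : Cp D y = Cp D x :=
  Set.ext fun _ => ⟨h.trans hx k, h.trans k.1 (symm hx k)⟩

theorem dd_cp (h : LD D) (hx : x ∈ D) (k : y ∈ Cp D x) : Dd (Cp D x) y = Dd D y :=
  Set.ext fun _ => ⟨fun m => ⟨m.1.1, m.2⟩, fun m => ⟨h.step hx k m.1 m.2.2, m.2⟩⟩

theorem near (h : LD D) (hx : x ∈ D) {a b : G} (ha : a ∈ Cp D x) (hb : b ∈ Cp D x) :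
    ∃ p ∈ Cp D x, Commute p a ∧ Commute p b :=
  let ⟨_, w, hw, c1, c2⟩ := h.trans ha.1 (symm hx ha) hb; ⟨w, h.step hx ha hw c1.symm, c1, c2⟩

theorem near' (h : LD D) (hx : x ∈ D) {a b : G} (ha : a ∈ Cp D x) (hb : b ∈ Cp D x) :
    a = b ∨ ∃ p ∈ Cp D x, a ∈ Dd D p ∧ b ∈ Dd D p := by
  obtain ⟨p, hp, c1, c2⟩ := h.near hx ha hb
  have key : ∀ {a b}, a ∈ Cp D x → b ∈ Dd D a → ∃ p ∈ Cp D x, a ∈ Dd D p ∧ b ∈ Dd D p := fun {a b} ha hb => by
    obtain ⟨u, v, k⟩ := h.ne a ha.1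
    obtain ⟨hu, k⟩ := cl_cons.1 k
    obtain ⟨g, hg, rfl⟩ := h.tr1 a ha.1 u hu b hb
    have m := ((h.wt a ha.1).conj_dd hg u).mem (k.2.1 v (by simp))
    exact ⟨_, h.step hx ha m.1.1 m.1.2.2, Dd_symm ha.1 m.1, Dd_symm hb.1 ⟨m.1.1, m.2⟩⟩
  refine or_iff_not_imp_left.2 fun n => ?_
  by_cases e1 : a = p
  · exact key ha ⟨hb.1, Ne.symm n, e1 ▸ c2⟩
  by_cases e2 : b = p
  · exact (key hb ⟨ha.1, n, e2 ▸ c1⟩).imp fun _ k => ⟨k.1, k.2.2, k.2.1⟩
  exact ⟨p, hp, ⟨ha.1, e1, c1⟩, hb.1, e2, c2⟩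

theorem cp_wt (h : LD D) (hx : x ∈ D) : WT (Cp D x) := by
  refine ⟨fun a ha => h.sq a ha.1, fun a ha b hb => ?_, fun a ha b hb => ?_⟩ <;>
    obtain rfl | ⟨p, hp, m1, m2⟩ := h.near' hx ha hb
  exacts [.inl (.refl a), (h.wt p hp.1).br a m1 b m2, by rwa [h.sq a ha.1, one_mul],
    have := (h.wt p hp.1).conj a m1 b m2; h.step hx hp this.1 this.2.2]

theorem cp_tr1 (h : LD D) (hx : x ∈ D) : Tr1 (Cp D x) := fun a ha b hb => by
  obtain rfl | ⟨p, hp, m1, m2⟩ := h.near' hx ha hb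
  · exact ⟨1, one_mem _, by simp⟩
  obtain ⟨g, hg, e⟩ := h.tr1 p hp.1 a m1 b m2
  exact ⟨g, closure_mono (h.dd_cp hx hp ▸ fun _ m => m.1) hg, e⟩

theorem cp_noC (h : LD D) (hx : x ∈ D) : NoC (Cp D x) := fun a ha => by
  obtain ⟨u, v, k⟩ := h.ne a ha.1
  have m := k.2.1 u (by simp)
  obtain ⟨e, he, n⟩ := h.noc u m.1 a (Dd_symm ha.1 m)
  exact ⟨e, h.step hx (h.step hx ha m.1 m.2.2) he.1 he.2.2, n⟩

theorem cp_conj (h : LD D) (g : G) (k : y ∈ Cp D x) : g * y * g⁻¹ ∈ Cp D (g * x * g⁻¹) :=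
  let ⟨hy, w, hw, a, b⟩ := k
  ⟨h.conj g y hy, _, h.conj g w hw, (commute_conj_iff g).2 a, (commute_conj_iff g).2 b⟩

variable [Finite G]

theorem nm (h : LD D) (hx : x ∈ D) (k : y ∈ Cp D x) (k' : g * y * g⁻¹ ∈ Cp D x) : g ∈ cstab (Cp D x) :=
  mem_cstab_of_finite fun v hv => h.trans hx k' (h.cp_conj g (h.trans k.1 (symm hx k) hv))

theorem nm' (h : LD D) (hx : x ∈ D) (k : y ∈ Cp D x) (c : Commute g y) : g ∈ cstab (Cp D x) :=
  h.nm hx k (by rwa [conj_eq_of_commute c])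

/-- The group generated by a component. -/
theorem comp (h : LD D) (hx : x ∈ D) {P : Set (closure (Cp D x)) → Prop} (hP : ∀ S, P S → Sep S)
    (p : ∀ f S, KMap f (Dd D x) S → P S) : ∃ (S : Set (closure (Cp D x))) (a : closure (Cp D x)),
      KMap (closure (Cp D x)).subtype S (Cp D x) ∧ a ∈ S ∧ P (Dd S a) ∧ IsThreeTranspositionGroup S ∧
        IsPrimitiveUnderConj S ∧ center (closure (Cp D x)) = ⊥ := by
  have k : KMap (closure (Cp D x)).subtype {y | y.1 ∈ Cp D x} (Cp D x) := by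
    convert KMap.of_hom ((h.cp_wt hx).subtype _) (closure (Cp D x)).subtype (subtype_injective _).injOn
    exact Set.ext fun y => ⟨fun m => ⟨⟨y, Subgroup.subset_closure m⟩, m, rfl⟩, by rintro ⟨y, m, rfl⟩; exact m⟩
  let a : closure (Cp D x) := ⟨x, Subgroup.subset_closure (self hx)⟩
  obtain ⟨f, k1, -⟩ := k.symm
  obtain ⟨f', k2, -⟩ := (k.dd (a := a) (self hx)).symm
  have e : Dd (Cp D x) ((closure (Cp D x)).subtype a) = Dd D x := h.dd_cp hx (self hx)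
  rw [e] at k2
  refine ⟨_, a, k, self hx, p _ _ k2, prim_of k.wt' (closure_subtype_eq_top _) (k1.tr1 (h.cp_tr1 hx))
    (k.noC (h.cp_noC hx)) (a := a) (self hx) (hP _ (p _ _ k2)) (fun u hu v hv => ?_) fun c c1 c2 => ?_⟩
  · obtain ⟨p, hp, c1, c2⟩ := h.near hx hu hv
    exact ⟨⟨p, Subgroup.subset_closure hp⟩, hp, Subtype.ext c1, Subtype.ext c2⟩
  · refine (h.zen x hx c (c1.map (closure (Cp D x)).subtype) fun y hy => ?_).imp Subtype.ext Subtype.ext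
    have m := (h.dd_cp hx (self hx)).ge hy
    exact (c2 ⟨y, Subgroup.subset_closure m.1⟩ ⟨m.1, fun e => hy.2.1 (congrArg Subtype.val e),
      Subtype.ext hy.2.2⟩).map (closure (Cp D x)).subtype

section uniq
variable (h : LD D) (u : ∀ x ∈ D, UB (Cp D x))
include h u

theorem fixc (hx : x ∈ D) (hg : g ∈ cstab (Cp D x)) (s : g * g = 1) : ∃ y ∈ Cp D x, Commute g y := by
  obtain ⟨y, hy, e⟩ := (u x hx).fix _ (KMap.conj (u x hx).wt (mem_cstab.1 hg)) fun y _ => by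
    rw [inv_eq_of_sq s]; simp only [← mul_assoc, s, one_mul]; rw [mul_assoc, s, mul_one]
  exact ⟨y, hy, mul_inv_eq_iff_eq_mul.1 e⟩

theorem invc (hx : x ∈ D) (hg : g ∈ cstab (Cp D x)) (s : g * g = 1) :
    ∃ l, CL (Cp D x) l ∧ l.length ≤ 3 ∧ l.prod = g :=
  let ⟨y, hy, c⟩ := h.fixc u hx hg s
  (u x hx).inv g (closure_mono (h.dd_cp hx hy ▸ fun _ m => m.1) (h.cen y hy.1 g c)) s

theorem u1 (hx : x ∈ D) (hy : y ∈ D) (hg : y ∈ cstab (Cp D x)) : y ∈ Cp D x :=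
  let ⟨_, hv, c⟩ := h.fixc u hx hg (h.sq y hy); h.step hx hv hy c.symm

theorem dih' (hx : x ∈ D) (hy : y ∈ D) : ∃ g ∈ zpowers (x * y), Commute x (g * y * g⁻¹) ∧
    (g * y * g⁻¹ = x ∨ Commute (x * (g * y * g⁻¹)) y) := by
  have s := h.sq x hx
  obtain ⟨g, hg, e | ⟨z, z1, z2, z3, z4, e | ⟨rfl, e, k, hk⟩⟩⟩ := dih s (h.sq y hy)
  · exact ⟨g, hg, e ▸ .refl x, .inl e⟩
  · exact ⟨g, hg, e ▸ (Commute.refl x).mul_right z3, .inr (by rw [e, ← mul_assoc, s, one_mul]; exact z4.symm)⟩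
  have e1 : g * x * g⁻¹ = x * (g⁻¹ * g⁻¹) := by rw [← mul_assoc, ← e]; simp only [← mul_assoc, s, one_mul]
  have m : x * g ∈ Cp D x := h.u1 u hx (hk.elim (· ▸ h.conj k x hx) (· ▸ h.conj k y hy))
    (mul_mem (h.nm' hx (self hx) (.refl x)) (h.nm hx (self hx)
      (h.step hx (self hx) (h.conj g x hx) (e1 ▸ (Commute.refl x).mul_right z3))))
  have e2 : g * x = x * g⁻¹ := by rw [← e]; simp only [← mul_assoc, s, one_mul]
  obtain c | c := (h.cp_wt hx).br x (self hx) _ m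
  · rw [Commute, SemiconjBy, mul_assoc, mul_right_inj, e2, mul_right_inj] at c
    exact absurd (by rw [← c]; nth_rw 1 [c]; exact inv_mul_cancel g) z1
  · rw [Br, ← mul_assoc, s, one_mul, mul_assoc, ← mul_assoc x, s, one_mul, e2, mul_assoc, mul_right_inj] at c
    refine absurd ?_ z1
    rw [show g⁻¹ = 1 by rw [← z2]; nth_rw 4 [c]; group, one_mul]

theorem fac (hx : x ∈ D) (hb : b ∈ D) {l : List G} (hl : CL (Cp D x) l) (n : l.prod ≠ 1)
    (m : l.prod ∈ cstab (Cp D b)) (hy : y ∈ Dl (Cp D x) l) (ny : ∃ e ∈ Dl (Cp D x) l, ¬ Commute e y) :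
    ∃ a, (a ∈ l ∨ a ∈ Dl (Cp D x) l ∧ ∀ v ∈ Dl (Cp D x) l, Commute v a) ∧ CL (Cp D x) [y, a] ∧
      y * a ∈ cstab (Cp D b) := by
  obtain ⟨r, r1, r2, r3⟩ := h.invc u hb m (hl.prod_sq (u x hx).wt)
  obtain ⟨a, r, rfl⟩ := List.exists_cons_of_ne_nil (l := r) (by rintro rfl; exact n r3.symm)
  have ha := r1.2.1 a (by simp)
  obtain ⟨g, hg, c, e⟩ := h.dih' u hy.1.1 ha.1
  have cg : Commute g l.prod := by
    obtain ⟨k, rfl⟩ := hg
    exact ((CL.comm_prod fun v hv => (hy.2.2 v hv).symm).mul_left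
      (r3 ▸ CL.comm_prod (r1.2.2 a (by simp)))).zpow_left k
  have m1 := h.step hx hy.1 (h.conj g a ha.1) c
  have k : CL (Cp D x) ((a :: r).map fun v => g * v * g⁻¹) := ⟨r1.1.map fun _ _ => (conj_inj g).1, by
    simpa only [List.forall_mem_map] using fun v hv =>
      h.trans hx m1 (h.cp_conj g (h.trans ha.1 (symm hb ha) (r1.2.1 v hv))), by
    simpa only [List.forall_mem_map, commute_conj_iff] using r1.2.2⟩
  have o := hl.cent_of_prod (u x hx).wt k (by simpa using r2) (by rw [prod_map_conj, r3, conj_eq_of_commute cg])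
    (g * a * g⁻¹) (by simp)
  have ne : g * a * g⁻¹ ≠ y := fun E => by
    obtain ⟨e, he, n⟩ := ny
    exact o.elim (fun o => hy.2.1 (E ▸ o)) fun o => n (E ▸ o.2 e he)
  exact ⟨_, o, cl_two hy.1 m1 ne.symm c, h.nm' hb ha (e.resolve_left ne)⟩

theorem u2 (hx : x ∈ D) (hb : b ∈ D) {a c : G} (hl : CL (Cp D x) [a, c]) (m : a * c ∈ cstab (Cp D b)) :
    b ∈ Cp D x := by
  have U := u x hx
  have ma := hl.2.1 a (by simp)
  have mc := hl.2.1 c (by simp)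
  have cac := hl.2.2 a (by simp) c (by simp)
  have key : ∀ y ∈ Dl (Cp D x) [a, c], y * a ∈ cstab (Cp D b) := fun y hy => by
    have n := U.nc _ hl le_rfl
    obtain ⟨v, o, -, k⟩ := h.fac u hx hb hl (hl.prod_ne_one U.wt U.nc.noC (by simp) (by simp)) (by simpa using m)
      hy (n y hy)
    obtain rfl | rfl : v = a ∨ v = c := by
      simpa using o.resolve_right fun o => let ⟨e, he, n⟩ := n v o.1; n (o.2 e he)
    exacts [k, by simpa [mul_assoc, ← cac.left_comm, U.wt.sq v mc] using mul_mem k m]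
  have key2 : ∀ l : List G, (∀ y ∈ l, y ∈ Dl (Cp D x) [a, c]) → l.prod * a ^ l.length ∈ cstab (Cp D b) := by
    intro l hl
    induction l with
    | nil => simp
    | cons y l ih =>
      have := mul_mem (key y (hl y (.head _))) (ih fun v hv => hl v (.tail _ hv))
      rwa [mul_assoc, (CL.comm_prod fun v hv => (hl v (.tail _ hv)).2.2 a (by simp)).left_comm, ← pow_succ',
        ← mul_assoc] at this
  obtain ⟨r, r1, r2, r3⟩ := U.rel.get U.wt (l1 := [a, c]) (l2 := []) hl U.tr2 (by simp) (by simp)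
  have := key2 r r1.2.1
  rw [← r3, show r.length = 2 * 2 + 1 by simp at r2; omega, pow_succ, pow_mul, pow_two a, U.wt.sq a ma] at this
  exact h.trans hx mc (symm hb (h.u1 u hb mc.1 (by
    simpa [cac.eq, mul_assoc, U.wt.sq a ma] using this)))

theorem u3 (hx : x ∈ D) (hb : b ∈ D) {t : G} (n : t ≠ 1) (s : t * t = 1) (m1 : t ∈ cstab (Cp D x))
    (m2 : t ∈ cstab (Cp D b)) : b ∈ Cp D x := by
  obtain ⟨l, l1, l2, rfl⟩ := h.invc u hx m1 s
  rcases l with _ | ⟨a, _ | ⟨c, _ | ⟨e, _ | _⟩⟩⟩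
  · exact absurd rfl n
  · have := l1.2.1 a (by simp)
    exact h.trans hx this (symm hb (h.u1 u hb this.1 (by simpa using m2)))
  · exact h.u2 u hx hb l1 (by simpa using m2)
  · obtain ⟨y, hy, ny⟩ := (u x hx).nc3 _ l1 rfl
    obtain ⟨v, -, k1, k2⟩ := h.fac u hx hb l1 n m2 hy ny
    exact h.u2 u hx hb k1 k2
  · simp at l2; omega

theorem u4 (hx : x ∈ D) (hb : b ∈ D) : b ∈ Cp D x := by
  have U := u b hb
  obtain ⟨c, _, k⟩ := h.ne b hb
  have mc := k.2.1 c (by simp)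
  have k : CL (Cp D b) [b, c] := cl_two (self hb) (h.step hb (self hb) mc.1 mc.2.2) mc.2.1.symm mc.2.2
  have s : b * c * (b * c) = 1 := by simpa using k.prod_sq U.wt
  have cb : Commute (b * c) b := (Commute.refl b).mul_left mc.2.2.symm
  obtain ⟨g, -, e | ⟨z, z1, z2, z3, z4, -⟩⟩ := dih (h.sq x hx) s
  · have m : b * c ∈ D := by simpa [← e, mul_assoc] using h.conj g⁻¹ x hx
    simpa using k.length_eq U.wt (k := 1) U.nc (l' := [b * c]) ⟨by simp, by simpa using h.step hb (self hb) m cb.symm,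
      by simp⟩ (by simp) (by simp) (.inl le_rfl) (by simp)
  have m := h.conj z b hb
  exact h.u3 u hx hb z1 z2 (h.nm' hx (self hx) z3.symm) (h.nm hb (self hb) (h.u3 u hb m
    (by simpa using k.prod_ne_one U.wt U.nc.noC (by simp) (by simp)) s (h.nm' hb (self hb) cb)
    (h.nm' m (self m) ((z4.mul_right cb).mul_right z4.inv_right))))

theorem main (hx : x ∈ D) : Cp D x = D ∧ closure D = ⊤ := by
  have e : Cp D x = D := Set.ext fun y => ⟨fun m => m.1, h.u4 u hx⟩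
  refine ⟨e, eq_top_iff.2 fun g _ => ?_⟩
  obtain ⟨k, hk, E⟩ := (e ▸ h.cp_tr1 hx) _ (h.conj g x hx) x hx
  exact (mul_mem_cancel_left hk).1 (closure_mono (fun _ m => m.1)
    (h.cen x hx _ (mul_inv_eq_iff_eq_mul.1 (by simpa [mul_assoc] using E))))

end uniq
end LD

/-- `Δ` generates the centraliser of `d`, whose centre is generated by `d`. -/
structure LocD (d : G) (Δ : Set G) : Prop where
  cen : ∀ g, Commute g d → g ∈ closure Δ
  zen : ∀ c, Commute c d → (∀ y ∈ Δ, Commute c y) → c = 1 ∨ c = d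

theorem LocD.all {d : G} (h : LocD d (Dd (conjugatesOf d) d)) (w : WT (Dd (conjugatesOf d) d)) {x : G}
    (hx : x ∈ conjugatesOf d) : (∃ f, KMap f (Dd (conjugatesOf d) d) (Dd (conjugatesOf d) x)) ∧
      LocD x (Dd (conjugatesOf d) x) := by
  obtain ⟨g, rfl⟩ := isConj_iff.1 hx
  have k : KMap (fun y => g * y * g⁻¹) (Dd (conjugatesOf d) d) (Dd (conjugatesOf d) (g * d * g⁻¹)) :=
    KMap.conj w fun y => and_congr ⟨fun m => by simpa [mul_assoc] using CM.conj_mem g⁻¹ m, CM.conj_mem g⟩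
      (and_congr (conj_inj g).not (commute_conj_iff g))
  refine ⟨⟨_, k⟩, fun c hc => ?_, fun c h1 h2 => ?_⟩
  · obtain ⟨c, rfl⟩ : ∃ c', c = g * c' * g⁻¹ := ⟨g⁻¹ * c * g, by group⟩
    have := mem_map_of_mem (MulAut.conj g).toMonoidHom (h.cen c ((commute_conj_iff g).1 hc))
    rw [MonoidHom.map_closure] at this
    exact closure_mono (by rintro _ ⟨y, hy, rfl⟩; exact k.mem hy) this
  · obtain ⟨c, rfl⟩ : ∃ c', c = g * c' * g⁻¹ := ⟨g⁻¹ * c * g, by group⟩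
    exact (h.zen c ((commute_conj_iff g).1 h1) fun y hy => (commute_conj_iff g).1 (h2 _ (k.mem hy))).imp
      (fun e => by simp [e]) fun e => by rw [e]

theorem ld_of {d : G} (hd : d * d = 1) (h : LocD d (Dd (conjugatesOf d) d)) (w : WT (Dd (conjugatesOf d) d))
    (t : Tr1 (Dd (conjugatesOf d) d)) (n : NoC (Dd (conjugatesOf d) d)) {m : ℕ}
    (e : WEq (Dd (conjugatesOf d) d) (m + 2))
    (d2 : ∀ x ∈ conjugatesOf d, ∀ y ∈ conjugatesOf d, ∀ w ∈ Dd (conjugatesOf d) y, ∀ v ∈ Dd (conjugatesOf d) y,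
      ¬ Commute x y → Commute w x → ∃ p ∈ Dd (conjugatesOf d) y ∩ {u | Commute u x}, Commute p v) :
    LD (conjugatesOf d) := by
  refine ⟨fun x hx => ?_, fun g _ => CM.conj_mem g, fun x hx y hy => isConj_iff.1 (IsConj.trans (IsConj.symm hx) hy),
    fun x hx => (h.all w hx).1.elim fun _ k => k.wt, fun x hx => (h.all w hx).1.elim fun _ k => k.tr1 t,
    fun x hx => (h.all w hx).1.elim fun _ k => k.noC' n, fun x hx => ?_, fun x hx => (h.all w hx).2.cen,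
    fun x hx => (h.all w hx).2.zen, fun x hx y hy w hw v hv a b =>
      let ⟨p, hp, c⟩ := d2 x hx y hy w hw v hv a b; ⟨p, hp.1.1, hp.2, c⟩⟩
  · obtain ⟨g, rfl⟩ := isConj_iff.1 hx
    rw [conj_mul, hd, mul_one, mul_inv_cancel]
  · obtain ⟨f, k⟩ := (h.all w hx).1
    obtain ⟨l, h1, h2⟩ := (k.wEq e).2
    rcases l with _ | ⟨a, _ | ⟨b, l⟩⟩
    exacts [by simp at h2, by simp at h2, ⟨a, b, h1.sublist (by simp)⟩]

theorem KU.sep (h : KU S) : Sep S := let ⟨_, u⟩ := h; u.sep le_rfl fun _ m _ => m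

theorem K22.sep (h : K22 S) : Sep S :=
  let ⟨_, ha, _⟩ := exists_nc h.noCL.noC h.wEq; (h.loc _ ha).sep.of_dd ha

theorem K22.lr (h : K22 S) : ∀ x ∈ S, LR (Dd S x) := fun x hx => let ⟨_, u⟩ := h.loc x hx; u.lr

variable [Finite G]

theorem b22_of_ku (hD : IsThreeTranspositionGroup D) (hp : IsPrimitiveUnderConj D) (z : center G = ⊥) {d : G}
    (hd : d ∈ D) (h : KU (Dd D d)) : B22 D :=
  let ⟨_, u⟩ := h; let ⟨ψ, e⟩ := rec22_uk hD hp z hd u
  b22 hD hp (K22.ty ⟨_, KMap.of_equiv F22.wt ψ e⟩ z)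

theorem b23_of_k22 (hD : IsThreeTranspositionGroup D) (hp : IsPrimitiveUnderConj D) (z : center G = ⊥) {d : G}
    (hd : d ∈ D) (h : K22 (Dd D d)) : B23 D :=
  let ⟨_, u⟩ := h; let ⟨ψ, e⟩ := rec23_km hD hp z hd u
  b23 hD hp (K23.ty ⟨_, KMap.of_equiv F23.wt ψ e⟩ z)

theorem LD.fin (h : LD D) (u : ∀ x ∈ D, UB (Cp D x)) {x : G} (hx : x ∈ D) (s : Sep (Dd D x)) :
    IsThreeTranspositionGroup D ∧ IsPrimitiveUnderConj D ∧ center G = ⊥ := by
  obtain ⟨e, t⟩ := h.main u hx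
  exact prim_of (e ▸ h.cp_wt hx) t (e ▸ h.cp_tr1 hx) (e ▸ h.cp_noC hx) hx s
    (fun a ha b hb => (h.u4 u ha hb).2) (h.zen x hx)

/-- A class of involutions that is locally the transvection class of `U₆(2)`. -/
theorem loc22 {d : G} (hd : d * d = 1) (h : LocD d (Dd (conjugatesOf d) d)) (k : KU (Dd (conjugatesOf d) d)) :
    B22 (conjugatesOf d) := by
  obtain ⟨lam, u⟩ := id k
  have p : ∀ x ∈ conjugatesOf d, KU (Dd (conjugatesOf d) x) := fun x hx =>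
    (h.all u.wt hx).1.elim fun _ f => k.map f
  have L : LD (conjugatesOf d) := ld_of hd h u.wt u.tr1 u.noC u.wEq fun x hx y hy w hw v hv a b => by
    refine (p y hy).dom ⟨Set.inter_subset_left, ?_, fun t ht q hq => ?_⟩ ⟨w, hw, b⟩ hv
    · obtain ⟨_, u⟩ := p y hy
      exact (u.wt.inter_commute x).conj
    rw [dd_comm] at hq ⊢
    obtain ⟨_, u⟩ := p t ht.1.1
    obtain ⟨q, ⟨h1, h2⟩, h3⟩ := u.lr y (Dd_symm hy ht.1) x
      ⟨hx, fun e => a (e ▸ ht.1.2.2.symm), ht.2⟩ (fun c => a c.symm) q hq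
    exact ⟨q, ⟨h1, ⟨h1.1.1.1, h1.1.2⟩, h2⟩, fun q' hq' => h3 q' ⟨hq'.1, hq'.2.2⟩⟩
  obtain ⟨a, b, c⟩ := L.fin (fun x hx => by
    obtain ⟨S, a, k1, k2, k3, k4, k5, k6⟩ := L.comp hx (P := KU) (fun _ => KU.sep) fun _ _ f => (p x hx).map f
    exact .of_sub k1 (b22_of_ku k4 k5 k6 k2 k3).ub k4.2.2) (mem_conjugatesOf_self) k.sep
  exact b22_of_ku a b c mem_conjugatesOf_self k

/-- A class of involutions that is locally the transposition class of `Fi22`. -/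
theorem loc23 {d : G} (hd : d * d = 1) (h : LocD d (Dd (conjugatesOf d) d)) (k : K22 (Dd (conjugatesOf d) d)) :
    B23 (conjugatesOf d) := by
  have p : ∀ x ∈ conjugatesOf d, K22 (Dd (conjugatesOf d) x) := fun x hx =>
    (h.all k.wt hx).1.elim fun _ f => k.map f
  have L : LD (conjugatesOf d) := ld_of hd h k.wt (k.trA.tr1) k.noCL.noC k.wEq fun x hx y hy w hw v hv a b => by
    have m : ∀ t ∈ Dd (conjugatesOf d) y ∩ {u | Commute u x}, x ∈ Dd (conjugatesOf d) t := fun t ht =>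
      ⟨hx, fun e => a (e ▸ ht.1.2.2.symm), ht.2⟩
    refine (p y hy).dom (x := w) ⟨Set.inter_subset_left, ((p y hy).wt.inter_commute x).conj, fun t ht => ?_⟩
      ⟨hw, b⟩ ?_ hv
    · rw [dd_inter _ ht.2, dd_comm]
      exact h1_of_lr (p t ht.1.1).wt (p t ht.1.1).lr (Dd_symm hy ht.1) (m t ht) fun c => a c.symm
    · obtain ⟨q, hq, -⟩ := O3K.exists_nc (n := 2)
        ((p w hw.1).xs y (Dd_symm hy hw) x (m w ⟨hw, b⟩) fun c => a c.symm)
      exact ⟨q, ⟨⟨hq.1.1.1, hq.1.2⟩, hq.2⟩, hq.1.1.2⟩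
  obtain ⟨a, b, c⟩ := L.fin (fun x hx => by
    obtain ⟨S, a, k1, k2, k3, k4, k5, k6⟩ := L.comp hx (P := K22) (fun _ => K22.sep) fun _ _ f => (p x hx).map f
    exact .of_sub k1 (b23_of_k22 k4 k5 k6 k2 k3).ub k4.2.2) (mem_conjugatesOf_self) k.sep
  exact b23_of_k22 a b c mem_conjugatesOf_self k

end Cfsg.Agent.Fischer
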