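import Cfsg.Agent.Fischer.CM4
import Cfsg.Agent.Fischer.R23
import Cfsg.Agent.Spor.Fi22Cov

/-! The standard base of `D22` (helper24): hexad and heptad relations, `fl : FL D22`, transitivity, width,
fixed points of involutions, involution classes of `Fi22`. -/

set_option maxRecDepth 100000
set_option exponentiation.threshold 100000
set_option Elab.async false

namespace Cfsg.Agent.Fischer.F22

open Subgroup Equiv Cfsg.Agent.Spor Cfsg.Agent.Spor.Fi22M

/-- The unitary coordinates on `D_a`. -/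
noncomputable abbrev lc (u : ℕ) : Cfsg.Spor.Fi22 := lamT φ 3488 (g 0) πT (dec F4 u)

/-- The standard base, with names. -/
def bn : List (ℕ × ℕ × List ℕ) := [(3488, 0, []),
  (3285, 5, []),
  (2409, 3, []),
  (2106, 0, [1, 2, 3, 4, 5, 6, 7, 3, 2, 1, 4, 3, 5, 4, 7, 3, 8, 7, 3, 2, 4, 3, 5, 4, 7, 3, 8, 7]),
  (2426, 2, [3, 4, 5, 6]),
  (2026, 0, [1, 2, 3, 4, 5, 6, 7, 3, 2, 1, 4, 3, 2, 5, 4, 3, 8, 7, 3, 2, 4, 3, 5, 4, 7, 3, 8, 7]),
  (2934, 0, [1, 2, 3, 4, 5, 6, 7, 3, 2, 1, 4, 3, 2, 5, 4, 3, 8, 7, 3, 4, 5, 6]),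
  (1318, 0, [1, 2, 3, 4, 5, 6, 7, 3, 2, 1, 4, 5, 8, 7, 3, 4, 5, 6]),
  (1353, 0, [1, 2, 3, 4, 5, 7, 3, 2, 1, 4, 3, 2, 7, 3, 8, 7, 3, 2]),
  (1394, 0, [1, 2, 3, 4, 5, 6, 7, 3, 2, 1, 8, 7, 3, 2, 4, 3, 5, 4]),
  (1233, 0, [1, 2, 3, 4, 5, 7, 3, 2, 1, 4, 8, 7, 3, 2]),
  (2773, 0, [1, 2, 3, 4, 5, 6, 7, 3, 2, 1, 4, 3, 2, 5, 4, 3, 8, 7, 3, 2]),
  (2966, 0, [1, 2, 3, 4, 5, 6, 7, 3, 2, 1, 4, 3, 5, 4, 7, 3, 8, 7, 3, 4, 5, 6]),
  (2797, 0, [1, 2, 3, 4, 5, 6, 7, 3, 2, 1, 4, 3, 5, 4, 7, 3, 8, 7, 3, 2]),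
  (3041, 0, [1, 2, 3, 4, 5, 6, 7, 3, 2, 1, 4, 3, 2, 5, 4, 3, 8, 7, 3, 2, 4, 3, 5, 4]),
  (2446, 2, [3, 4, 5, 6, 7, 3, 8, 7]),
  (2580, 0, [1, 2, 3, 4, 7, 3, 2, 1, 8, 7, 3, 4, 5, 6]),
  (3313, 2, [3, 4, 5, 7, 3, 4, 8, 7, 3, 2]),
  (3065, 0, [1, 2, 3, 4, 5, 6, 7, 3, 2, 1, 4, 3, 5, 4, 7, 3, 8, 7, 3, 2, 4, 3, 5, 4]),
  (3457, 8, []),
  (2525, 0, [1, 2, 3, 4, 5, 6, 7, 3, 2, 1, 8, 7, 3, 2]),
  (3330, 2, [3, 4, 5, 6, 7, 3, 4, 5, 8, 7, 3, 4])]

theorem nm {L : List (ℕ × ℕ × List ℕ)} (hc : chkNm JFi22a.nets 9 pts L = true) : NmOk g 3510 9 φ 3488 (g 0) L :=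
  cm.nmOk (fun _ => sq) (fun x hx => ⟨(lts x (by omega)).1, T_pts hx⟩) hc

theorem bn_ok : NmOk g 3510 9 φ 3488 (g 0) bn := nm (by decide +kernel)

theorem map_lc {L : List ℕ} (h : ∀ u ∈ L, u < 4096) : L.map lc = (L.map (tget πT)).map T := by
  rw [List.map_map]; exact List.map_congr_left fun u hu => lamT_dec _ _ _ _ (h u hu)

theorem rel_lc {L : List ℕ} {I : List ℕ} (h : ∀ u ∈ L, u < 4096) (hI : ∀ i ∈ I, i < 22)
    (e : (I.map (getL bn (0, 0, []))).map (·.1) = 3488 :: L.map (tget πT))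
    (hc : andB (chkLet (List.range 9) [nmP (I.map (getL bn (0, 0, [])))])
      (chkId JFi22a.nets 3510 12 [nmP (I.map (getL bn (0, 0, [])))]) = true) : (g 0 :: L.map lc).prod = 1 := by
  rw [andB_eq_true] at hc
  have k : NmOk g 3510 9 φ 3488 (g 0) (I.map (getL bn (0, 0, []))) := bn_ok.sub (List.forall_mem_map.2 fun i hi =>
    (by decide +kernel : ∀ i < 22, getL bn (0, 0, []) i ∈ bn) i (hI i hi))
  rw [map_lc h, ← t0, ← List.map_cons, ← e, k.prod]
  exact rep.ev_eq_one inj hc.1 (ev_eq_one_of_chkId JFi22a.ok (by decide) hc.2) _ List.mem_cons_self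

theorem hex : (g 0 :: [3, 12, 15, 204, 207].map lc).prod = 1 :=
  rel_lc (I := [0, 1, 2, 3, 4, 5]) (by decide) (by decide) (by decide +kernel) (by decide +kernel)

theorem hept : (g 0 :: [3, 12, 48, 252, 819, 1023].map lc).prod = 1 :=
  rel_lc (I := [0, 6, 12, 15, 21].insertIdx 1 1 |>.insertIdx 2 2) (by decide) (by decide) (by decide +kernel)
    (by decide +kernel)

theorem cl_lc {L : List ℕ} (n : L.Nodup) (h : ∀ u ∈ L, u ∈ B21) : CL D22 (g 0 :: L.map lc) :=
  cl_cons.2 ⟨a_mem, (uk F4).cl_codes n h⟩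

theorem rl6 : Rl D22 6 16 := ⟨g 0 :: (B21.take 5).map lc, (B21.drop 5).map lc,
  cl_lc (L := B21) (by decide) fun _ h => h, rfl, rfl, hex⟩

theorem rl7 : Rl D22 7 15 := ⟨g 0 :: [3, 12, 48, 252, 819, 1023].map lc,
  [15, 204, 207, 51, 60, 63, 240, 243, 255, 816, 828, 831, 1008, 1011, 1020].map lc,
  cl_lc (L := [3, 12, 48, 252, 819, 1023, 15, 204, 207, 51, 60, 63, 240, 243, 255, 816, 828, 831, 1008, 1011, 1020])
    (by decide) (by decide), rfl, rfl, hept⟩

theorem tr1 : Tr1 D22 := tr1_of_class cls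

theorem uk_dd : ∀ x ∈ D22, ∃ lam : (Fin 6 → F4) → Cfsg.Spor.Fi22, UK lam (Dd D22 x) :=
  tr1.forall_dd wt (P := fun S => ∃ lam : (Fin 6 → F4) → _, UK lam S) (fun _ _ _ k ⟨_, h⟩ => ⟨_, h.comp k⟩) a_mem
    ⟨_, uk F4⟩

theorem trA : TrA D22 3 := trA_succ wt tr1 fun x hx => let ⟨_, h⟩ := uk_dd x hx; fun m hm => by
  interval_cases m
  exacts [trL_zero _, trL_succ h.wt h.tr1 fun _ _ => trL_zero _, h.trL2]

theorem noCL : NoCL D22 2 := noCL_succ (fun x hx => let ⟨e, he, c⟩ := TC.exists_not_commute cls prim.2.1 hx;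
  ⟨e, he, fun k => c k.symm⟩) fun x hx => let ⟨_, h⟩ := uk_dd x hx; h.noCL1

theorem wEq : WEq D22 22 := wEq_succ (fun x hx => let ⟨_, h⟩ := uk_dd x hx; h.wEq) a_mem

theorem fb : FB D22 := by
  refine fb_of_one tg prim hw a_mem (g_mem (x := 1) (by decide)) (fun c => nab c.symm) fun u hu hc => ?_
  obtain ⟨p, hp, rfl⟩ := cm.exists_tp hu
  have := (cm.mem_of_fix (L := 12) (by decide) (ws := [3, 4, 5, 6, 7, 8, 9].map (getL ren [])) (ws' := [])
    (A := ofL [3488, 3265, 3264]) (by decide +kernel) hp).2 ⟨fun w hw => by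
      obtain ⟨x, hx, rfl⟩ := List.mem_map.1 hw
      exact (hc _ (mem_da (by revert x; decide) (by revert x; decide)) (gg_eq (x := 1) (by decide) ▸
        ((comm x (by revert x; decide) 1 (by decide)).2 (by revert x; decide)))).symm, by simp⟩
  simp only [ofL_testBit, List.mem_cons, List.not_mem_nil, or_false] at this
  rcases this with rfl | rfl | rfl
  · exact .inl t0
  · exact .inr (.inl t1)
  · refine .inr (.inr ?_)
    rw [cm.tp_word (w := [0]) (p := 3265) (by decide) (by decide +kernel), ev_one, wt.inv a_mem,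
      show tp φ 3488 (g 0) 3265 = g 1 from t1]

theorem fl : FL D22 := by
  refine ⟨tg, prim, hw, center_eq, fb, cen_of_one cls a_mem (le_antisymm (fun x hx =>
    mem_centralizer_singleton_iff.2 (closure_Dd_commute hx)) ?_)⟩
  have m : ∀ x, 2 ≤ x → x < 10 → gg x ∈ closure (Dd D22 (g 0)) := fun x h2 hx =>
    Subgroup.subset_closure (mem_da h2 hx)
  rw [cent]
  refine genW_le fun w hw => ?_
  obtain rfl | ⟨x, hx, h2, rfl⟩ | rfl : w = [0] ∨ (∃ x < 9, 2 ≤ x ∧ w = [x]) ∨ w = powW [0, 1, 2, 3, 4, 7] 5 := by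
    revert w; decide
  · have := hex
    rw [List.prod_cons, mul_eq_one_iff_eq_inv] at this
    rw [ev_one]
    exact Set.mem_of_eq_of_mem this
      (inv_mem ((uk F4).cl_codes (L := [3, 12, 15, 204, 207]) (by decide) (by decide)).prod_mem)
  · rw [ev_one, ← gg_eq hx]; exact m x h2 (by omega)
  · rw [ev_eq_of_chk rep inj (L := 12) (by decide) (ws := [(powW [0, 1, 2, 3, 4, 7] 5, nw)]) (by decide +kernel) _
      List.mem_cons_self]
    exact m 9 (by decide) (by decide)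

theorem cl3 : CL D22 [g 0, lc 3, lc 12] := cl_lc (L := [3, 12]) (by decide) (by decide)

theorem cenN : ∀ l, CL D22 l → l.length = 3 → CenN (Dl D22 l) 3 :=
  (trA 3 le_rfl).forall_dl wt (P := fun S => CenN S 3) (fun _ _ _ k => k.cenN) cl3 rfl
    ⟨[15, 204, 207].map lc, le_rfl, fun x hx k => by
      rw [Dl_cons] at hx k
      obtain ⟨w, hw, rfl⟩ := (uk F4).cent_pair hx k
      exact List.mem_map_of_mem hw⟩

theorem red : Red D22 3 := by
  classical
  refine Red.of_std wt (trA 3 le_rfl) cl3 rfl fun x hx => ?_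
  have hx' : x ∈ Dl (Dd D22 (g 0)) [lc 3, lc 12] := Dl_cons D22 (g 0) _ ▸ hx
  rcases (uk F4).third hx'.1 (hx'.2.2 _ (by simp)).symm (hx'.2.2 _ (by simp)).symm with
    ⟨w, hw, rfl⟩ | ⟨k, hk, e1, e2, rfl⟩
  · have c := ((uk F4).cl_codes (L := [15, 204, 207]) (by decide) (by decide)).mono (S' := D22)
      fun a ha => (((uk F4).cl_codes (L := [15, 204, 207]) (by decide) (by decide)).2.1 a ha).1
    have m : lc w ∈ [15, 204, 207].map lc := by
      obtain rfl | rfl | hw : w = 3 ∨ w = 12 ∨ w ∈ [15, 204, 207] := by clear hx hx'; revert w; decide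
      exacts [absurd (by simp) hx.2.1, absurd (by simp) hx.2.1, List.mem_map_of_mem hw]
    obtain ⟨c1, c2, c3⟩ := c.erase m
    refine ⟨_, c1, by simp only [List.length_map, List.length_cons, List.length_nil] at c3; omega, ?_⟩
    have := hex
    rw [show g 0 :: [3, 12, 15, 204, 207].map lc = [g 0, lc 3, lc 12] ++ [15, 204, 207].map lc from rfl,
      List.prod_append, mul_eq_one_iff_eq_inv, inv_eq_of_sq (c.prod_sq wt), c2] at this
    rw [this, ← mul_assoc, wt.sq _ hx.1, one_mul]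
  · have c := ((uk F4).cl_codes (L := [252, 819, 1023]) (by decide) (by decide)).mono (S' := D22)
      fun a ha => (((uk F4).cl_codes (L := [252, 819, 1023]) (by decide) (by decide)).2.1 a ha).1
    refine ⟨_, c.conj wt (fl.top k), le_rfl, ?_⟩
    have := hept
    rw [show g 0 :: [3, 12, 48, 252, 819, 1023].map lc = [g 0, lc 3, lc 12] ++ [lc 48] ++ [252, 819, 1023].map lc
      from rfl, List.prod_append, mul_eq_one_iff_eq_inv, inv_eq_of_sq (c.prod_sq wt)] at this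
    rw [prod_map_conj, ← this, (CL.comm_prod fun a ha => (hx.2.2 a ha).symm).eq]
    have e0 := closure_dd_comm hk
    simp only [List.prod_append, List.prod_cons, List.prod_nil, lc]
    generalize lamT (F := F4) φ 3488 (g 0) πT = lam at e1 e2 ⊢
    conv_rhs => rw [← e0, ← e1, ← e2]
    group

theorem bn_eq : (bn.map (·.1)).map T = g 0 :: B21.map lc := by
  rw [map_lc (by decide), ← t0, ← List.map_cons]; congr 1

theorem om : Om D22 := by
  have dn : NmOk g 3510 9 φ 3488 (g 0) [(2407, 1, [2, 3, 4, 7])] := nm (by decide +kernel)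
  refine ⟨_, cl_lc (L := B21) (by decide) fun _ h => h, base_succ wt tr1 a_mem fun l hl => ?_, T 2407,
    cm.tp_mem (by decide), ?_, fun e he hn => ?_⟩
  · obtain ⟨k, hk, e⟩ := (uk F4).base (X := {x | x ∈ l}) hl.2.1 hl.2.2
    exact ⟨k, hk, fun x hx => let ⟨w, hw, e⟩ := e x hx; ⟨_, List.mem_map_of_mem hw, e⟩⟩
  · exact fun u hu c => (cm.mem_mvL bn_ok (n := 12) (by decide) (p := 2407) (by decide)).1 (by decide +kernel) u
      (bn_eq ▸ hu) c.symm
  obtain ⟨p, hp, rfl⟩ := cm.exists_tp he.1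
  have k : subB (Nat.land (mvL JFi22a.nets 3510 12 (bn.map nmW))
      (fixL JFi22a.nets 3510 12 ([(2407, 1, [2, 3, 4, 7])].map nmW)))
      (imgL JFi22a.nets (bn.map nmW) (imgL JFi22a.nets (bn.map nmW) (Nat.shiftLeft 1 2407))) = true := by
    decide +kernel
  obtain ⟨_, hu', q, hq, k1, k2⟩ := cm.mem_imgL bn_ok.chk hp (subB_spec k ((land_testBit _ _ _).2
    ⟨(cm.mem_mvL bn_ok (by decide) hp).2 fun u hu c => hn u (bn_eq ▸ hu) c.symm,
      (cm.mem_fixL dn (by decide) hp).2 (by simpa using he.2.2)⟩))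
  obtain ⟨_, hv', r, -, k3, k4⟩ := cm.mem_imgL bn_ok.chk hq k1
  obtain ⟨u, hu, rfl⟩ := List.mem_map.1 hu'
  obtain ⟨v, hv, rfl⟩ := List.mem_map.1 hv'
  rw [(bit_testBit _ _).1 k3] at k4
  refine ⟨T u.1, bn_eq ▸ List.mem_map_of_mem (List.mem_map_of_mem hu), T v.1,
    bn_eq ▸ List.mem_map_of_mem (List.mem_map_of_mem hv), ?_⟩
  rw [k2, k4, (bn_ok u hu).2.1, (bn_ok v hv).2.1, wt.inv (cm.tp_mem (bn_ok u hu).1), wt.inv (cm.tp_mem (bn_ok v hv).1)]

theorem fixP : FixP D22 := fix_of_om wt wEq.1 red noCL om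

theorem inv (t : Cfsg.Spor.Fi22) (ht : t * t = 1) : ∃ l, CL D22 l ∧ l.length ≤ 3 ∧ l.prod = t := by
  obtain ⟨a, ha, c⟩ := fixP.comm wt (fl.top t) ht
  obtain ⟨l, h1, h2, rfl | rfl⟩ := fl.inv_succ (fun x hx => let ⟨_, h⟩ := uk_dd x hx; h.invP) ht ha c
  · exact ⟨l, h1.mono fun x hx => (h1.2.1 x hx).1, h2, rfl⟩
  · exact red.le (cl_cons.2 ⟨ha, h1⟩) (Nat.succ_le_succ h2)

theorem invP : InvP D22 3 := fl.invP inv

theorem cl_gg {L : List ℕ} (n : L.Nodup) (h : ∀ x ∈ L, x < 10 ∧ ∀ y ∈ L, adj x y = false) : CL D22 (L.map gg) :=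
  ⟨n.map_on fun x hx y hy e => by_contra fun k => gg_inj (h x hx).1 (h y hy).1 k e,
    List.forall_mem_map.2 fun x hx => gg_mem (h x hx).1, List.forall_mem_map.2 fun x hx =>
      List.forall_mem_map.2 fun y hy => (comm x (h x hx).1 y (h y hy).1).2 ((h x hx).2 y hy)⟩

theorem pth : Pth D22 1 := ⟨gg 0, gg 1, gg 2, gg 3, [gg 5], cl_gg (L := [0, 2, 5]) (by decide) (by decide),
  cl_gg (L := [1, 3, 5]) (by decide) (by decide), rfl, (comm _ (by decide) _ (by decide)).2 rfl,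
  mt (comm _ (by decide) _ (by decide)).1 (by decide), mt (comm _ (by decide) _ (by decide)).1 (by decide),
  mt (comm _ (by decide) _ (by decide)).1 (by decide)⟩

theorem ncL0 : NcL D22 0 3510 := fun l _ e => by
  rw [List.length_eq_zero_iff.1 e, Dl_nil]; exact cm.ncard

theorem ncL1 : NcL D22 1 693 :=
  (trA 1 (by decide)).forall_dl wt (P := fun S => S.ncard = 693) (fun _ _ _ k h => k.ncard.trans h)
    (cl_cons.2 ⟨a_mem, cl_nil _⟩) rfl (by
      rw [Dl_one, cm.eq_TS (fun _ h => h.1) mem_A0]; exact cm.ncard_TS (by decide +kernel) pop0)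

theorem ncL2 : NcL D22 2 180 := by
  have dn : NmOk g 3510 9 φ 3488 (g 0) [(3488, 0, []), (3489, 2, [])] := nm (by decide +kernel)
  refine (trA 2 (by decide)).forall_dl wt (P := fun S => S.ncard = 180) (fun _ _ _ k h => k.ncard.trans h)
    (cm.cl_of dn (n := 12) (by decide) (by decide) (by decide +kernel)) rfl ?_
  rw [cm.dl_eq dn (n := 12) (by decide) (A := nat_lit 0x3ffffcfffffffff000f0f0000f00000000000000000000f000000f0ff00000000000000000000000000000000000000000000000000000ff0000ff00000000000000ff0000ff00000000ff0000ff00ff00ff00000000000000000000000000ff0000000000000000000000000000ff000000000000000000000000000000000000000000ffff0000000000000000000000000000000000000000000000000000000000000000000000000000000000000000000000000000000000000000000000000000000000000000000000000000000000000000000000000000000000000000000000000000000000000000000000000000000000000000000000000000000000000000000000000000000000000000000000000000000000000000000000000000000000000000000000000000000000000000000000000000000000000000000000000000000000000000000000000000000000000000000000000000000000000000000000000000000000000000000000000000000000000000000000000000000000000000000000000000000000000000000000000000000000000000000000000000000000000000000000000000000000)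 (by decide +kernel)]
  exact cm.ncard_TS (L := 12) (by decide +kernel) (by decide +kernel)

end Cfsg.Agent.Fischer.F22
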