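import Cfsg.Agent.Fischer.CM3
import Cfsg.Agent.Fischer.R22

/-! The subsets of `D22` that are locally hyperovals (helper24): `noI`, `eqA`, `eqB`, `ho22` (they are the two
classes of `O₇(3)`), `ext2`. -/

set_option maxRecDepth 100000
set_option exponentiation.threshold 100000

namespace Cfsg.Agent.Fischer.F22

open Subgroup Equiv Cfsg.Agent.Spor Cfsg.Agent.Spor.Fi22M

/-- Subsets given by bitsets. -/
abbrev S (A : ℕ) : Set Cfsg.Spor.Fi22 := TS φ 3488 (g 0) 3510 A

theorem a_mem : g 0 ∈ D22 := g_mem (by decide)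

theorem lr1 : ∀ x ∈ D22, LR (Dd D22 x) := lr_of_uk tg prim a_mem (uk F4)

theorem noI : NoI D22 := noI_of_uk tg prim a_mem (uk F4)

theorem ext1 : ∀ x ∈ D22, Ext1 (Dd D22 x) :=
  forall_dd_of_one tg prim (fun _ _ _ k => k.ext1) a_mem (uk F4).ext1

/-- A hyperoval of `D_a`. -/
def Y0 : ℕ := (nat_lit 0x164c0000fc03000000000000000500050005005000a0f000a000a0f0a00000000000000000000000000000000000000000000000000000000000000000000000000000000000005500000000000000000000000000000000005555550000000000000000000000000055000055ff00aa00aa00aaaa0000aa0000aaaa00000000aa0000000000aa00aa00000000000000000000000000000000000000000000000000000000000000000000000000000000000000000000000000000000000000000000000000000000000000000000000000000000000000000000000000000000000000000000000000000000000000000000000000000000000000000000000000000000005555000000005555000000000000000000000000000000000000000000000000000000000000000000000000000000000000000000000000000000000000000000000000000000000000000000000000000000000000000000000000000000000000000000000000000000000000000000000000000000000000000000000000000000000000000000000000000000000000000000000000000000000000000000000000000000000000000000000000)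

/-- A hyperoval of `D_a`. -/
def Y1 : ℕ := (nat_lit 0x1604c000330cc00000000000f000000000055505000050005000050f050000000000000000000000000000000005500000000000000000000000000005500000000000055000000550000000000000000000000000000005555550055000000000000000000000000000000555500005500aa000055000000000000aa0000000000000000ff00aa00aa00000000000000000000000000000000000000000000000000000000000000000000000000000000000000000000000000000000000000000000000000000000000000000000000000000055550000555500000000000000000000000000000000000000000000000000000000000000000000000000000000000000000000000000000000000000000000000000000000000000000000000000000000000000000000000000000000000000000000000000000000000000000000000000000000000000000000000000000000000000000000000000000000000000000000000000000000000000000000000000000000000000000000000000000000000000000000000000000000000000000000000000000000000000000000000000000000000000000000000000000000)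

/-- A hyperoval of `D_a`. -/
def Y2 : ℕ := (nat_lit 0x96ccc0c3000000a0000a000000a000a00050050000a000a000f00f0000000000000000000000000000000005500000000aa00000000ffaa00000000000000000000aaaa0000005500000000000000000000000000000000aa550055000000000000000000000000000000005500000000aa000000000055000000aa00000000550000000000aa00aa000000000000000000000000000000000000000000000000000000000000000000000000000000000000000000000000000000000000000000000000000000000000000000000000000000000000000000000000000000aaaaaaaa000000000000000000000000000000000000000000000000000000000000000000000000000000000000000000000000000000000000000000000000000000000000000000000000000000000000000000000000000000000000000000000000000000000000000000000000000000000000000000000000000000000000000000000000000000000000000000000000000000000000000000000000000000000000000000000000000000000000000000000000000000000000000000000000000000000000000000000000000000000000)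

theorem chkY : allN 4096 (fun u => iteB (isoc u) (andB (tb Y0 (tget πT u) == tb X0 u)
    (andB (tb Y1 (tget πT (dlc u)) == tb X0 u) (tb Y2 (tget πT (dlc (dlc u))) == tb X0 u))) true) = true := by
  decide +kernel

theorem π_lt : allN 4096 (fun u => Nat.ble (tget πT u) 3509) = true := by decide +kernel

theorem dlc_lt (u : ℕ) : dlc u < 4096 :=
  Nat.or_lt_two_pow (n := 12) (Nat.and_lt_two_pow _ (by norm_num)) (Nat.and_lt_two_pow _ (by norm_num))

theorem lam_mem {u : ℕ} (hu : u < 4096) (A : ℕ) :
    lamT φ 3488 (g 0) πT (dec F4 u) ∈ S A ↔ A.testBit (tget πT u) = true := by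
  rw [lamT_dec _ _ _ _ hu, cm.mem_TS (Nat.lt_succ_of_le (Nat.le_of_ble_eq_true (allN_spec π_lt u hu)))]

theorem Y_spec {u : ℕ} (hu : u < 4096) (hi : isoc u = true) :
    Y0.testBit (tget πT u) = X0.testBit u ∧ Y1.testBit (tget πT (dlc u)) = X0.testBit u ∧
      Y2.testBit (tget πT (dlc (dlc u))) = X0.testBit u := by
  have := allN_spec chkY u hu
  simpa only [hi, iteB_true, andB_eq_true, beq_iff_eq, tb_eq] using this

theorem S_sub {A : ℕ} (h : subB A A0 = true) : S A ⊆ Dd D22 (g 0) := by
  rintro _ ⟨p, hp, h1, rfl⟩; exact (mem_A0 p hp).2 (subB_spec h h1)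

theorem Y0_eq : Dd D22 (g 0) ∩ {u | Commute u (g 1)} = S Y0 :=
  cm.eq_TS (fun _ h => h.1.1) fun p hp => by
    have h := cm.commute_fixS (L := 12) (by decide) (w := [1]) (by decide) hp
    have e : Y0 = Nat.land A0 (fixS JFi22a.nets 3510 12 [1]) := Nat.eq_of_beq_eq_true (by decide +kernel)
    rw [e, land_testBit, ← h, ← mem_A0 p hp]
    simp only [Spor.ev_cons, Spor.ev_nil, one_mul]
    exact and_congr_right fun _ => ⟨Commute.symm, Commute.symm⟩

theorem h1Y0 : H1 (Dd D22 (g 0)) (S Y0) :=
  Y0_eq ▸ h1_of_lr wt lr1 a_mem (g_mem (by decide)) fun c => nab c.symm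

theorem h1Y1 : H1 (Dd D22 (g 0)) (S Y1) :=
  ((uk F4).gu (dl (om F4) om_ne_zero)).h1_gu (uk F4) h1Y0 (S_sub (by decide +kernel)) fun u hu hi => by
    rw [← dec_dlc, lam_mem (dlc_lt u), lam_mem hu, (Y_spec hu hi).1, (Y_spec hu hi).2.1]

theorem h1Y2 : H1 (Dd D22 (g 0)) (S Y2) :=
  (((uk F4).gu (dl (om F4) om_ne_zero)).gu (dl (om F4) om_ne_zero)).h1_gu (uk F4) h1Y0
    (S_sub (by decide +kernel)) fun u hu hi => by
    rw [← dec_dlc, ← dec_dlc, lam_mem (dlc_lt _), lam_mem hu, (Y_spec hu hi).1, (Y_spec hu hi).2.2]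

theorem three {X : Set Cfsg.Spor.Fi22} (h : H1 (Dd D22 (g 0)) X) (hne : X.Nonempty) :
    ∃ k, Commute k (g 0) ∧ ({x | k * x * k⁻¹ ∈ X} = S Y0 ∨ {x | k * x * k⁻¹ ∈ X} = S Y1 ∨
      {x | k * x * k⁻¹ ∈ X} = S Y2) := by
  obtain ⟨k, hk, c, hc, e⟩ := (uk F4).three h hne
  have key : ∀ (f : ℕ → ℕ) (A : ℕ), (∀ u, dl c hc • dec F4 u = dec F4 (f u)) → (∀ u < 4096, f u < 4096) →
      subB A A0 = true → (∀ u < 4096, isoc u = true → A.testBit (tget πT (f u)) = X0.testBit u) →
      {x | k * x * k⁻¹ ∈ X} = S A := fun f A h1 h2 h3 h4 => by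
    have : ∀ x ∈ Dd D22 (g 0), k * x * k⁻¹ ∈ X ↔ x ∈ S A := fun x hx => by
      obtain ⟨v, hv, rfl⟩ := ((uk F4).gu (dl c hc)).surj x hx
      obtain ⟨u, hu, rfl⟩ := exists_dec v
      have hi := (iso_dec hu).1 hv
      rw [e u hu hi, h1, lam_mem (h2 u hu), h4 u hu hi]
    ext x
    exact ⟨fun hx => (this x (by simpa [mul_assoc] using (wt.dd _).conj_mem (inv_mem hk) (h.sub hx))).1 hx,
      fun hx => (this x (S_sub h3 hx)).2 hx⟩
  refine ⟨k, closure_Dd_commute hk, ?_⟩
  rcases dl_cases hc with h1 | h1 | h1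
  · exact .inl (key id _ h1 (fun _ h => h) (by decide +kernel) fun u hu hi => (Y_spec hu hi).1)
  · exact .inr (.inl (key _ _ h1 (fun _ _ => dlc_lt _) (by decide +kernel) fun u hu hi => (Y_spec hu hi).2.1))
  · exact .inr (.inr (key _ _ h1 (fun _ _ => dlc_lt _) (by decide +kernel) fun u hu hi => (Y_spec hu hi).2.2))

theorem norm {X : Set Cfsg.Spor.Fi22} (h : H2 D22 X) {x : Cfsg.Spor.Fi22} (hx : x ∈ X)
    (hne : (Dd X x).Nonempty) : ∃ k, k * g 0 * k⁻¹ = x ∧
      (Dd {x | k * x * k⁻¹ ∈ X} (g 0) = S Y1 ∨ Dd {x | k * x * k⁻¹ ∈ X} (g 0) = S Y2) := by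
  obtain ⟨u, rfl⟩ := isConj_iff.1 (h.sub hx)
  obtain ⟨y, hy⟩ := hne
  have h' := h.conj_pre tg u
  obtain ⟨k, hk, e⟩ := three (h'.loc _ hx) ⟨u⁻¹ * y * u, by simpa [mul_assoc] using hy.1, fun e => hy.2.1 (by
    rw [← e]; group), (commute_conj_right u).1 hy.2.2⟩
  have e1 : u * k * g 0 * (u * k)⁻¹ = u * g 0 * u⁻¹ := by
    rw [mul_assoc u, hk.eq]; group
  have e2 : {x | k * x * k⁻¹ ∈ Dd {x | u * x * u⁻¹ ∈ X} (g 0)} =
      Dd {x | u * k * x * (u * k)⁻¹ ∈ X} (g 0) := by
    ext t
    simp only [Dd, Set.mem_ofPred_eq, mul_inv_rev, mul_assoc]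
    refine and_congr_right fun _ => ?_
    conv_lhs => rw [← conj_eq_of_commute hk]
    rw [← mul_assoc, commute_conj_iff, ne_eq, conj_inj]
  rw [e2] at e
  refine ⟨u * k, e1, e.resolve_left fun e0 => ?_⟩
  refine noI _ (h.conj_pre tg (u * k)) (g 0) (by rwa [Set.mem_ofPred_eq, e1]) (g 1) (g_mem (by decide))
    (fun c => nab c.symm) fun y hy c => ?_
  exact (e0.symm.subset (Y0_eq.subset ⟨hy, c⟩)).1

theorem T_pts {x : ℕ} (hx : x < 9) : T (getL pts 0 x) = g x := (lts x (by omega)).2.trans (gg_eq hx)

theorem conj_g {w : List ℕ} {x q : ℕ} (hx : x < 9)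
    (hc : andB (chkLet (List.range 9) [w]) (chkPt JFi22a.nets w (getL pts 0 x) q) = true) :
    Spor.ev g w * g x * (Spor.ev g w)⁻¹ = T q := by
  rw [← T_pts hx]; exact (cm.tp_word (lts x (by omega)).1 hc).symm

/-- The transpositions of `O₇(3)`. -/
def XA : ℕ := (nat_lit 0x103f00000c3f000000000000000030000033000300003033ff033333ffff00000000000000000000000000000000000000000000000000000000000000000000000000000000000000330000000000003300000000000000000000000f33330f330f000f000000000033330f0f33000000000f0f330000000f330f33000f0f333300333333ff3333ffff000000000000000000000000000000000000000000000000000000000000000000000000000000000000000000000000000000000000000000000000000000000000000000000000000000000000000000000000000000000000000000000000000000000000000000ff00000000000000000f0f000000000000000000000f0f00ff0f0f000000000f0f0f0f00ff00000f0f00ff000000000000000000000000000000000000000000000000000000000000000000000000000000000000000000000000000000000000000000000000000000000000000000000000000000000000000000000000000000000000000000000000000000000000000000000000000000000000000000000000000000000000000000ff00ff000000000000000000ff00ff00ff00ff00ff00ff)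

theorem eqA {X : Set Cfsg.Spor.Fi22} (h1 : X ⊆ D22) (h2 : ∀ x ∈ X, ∀ y ∈ X, x * y * x ∈ X)
    (h : ∀ x < 9, g x ∈ X ↔ x ≠ 6) : X = S XA := by
  refine cm.eq_of_two_orbits (ws := sing [0, 1, 2, 3, 4, 5, 7, 8]) (by decide) (c := 3488) (c' := 3494) (by decide)
    (by decide) ((orbSub_base _ _).run JFi22a.ok (prog := [1, 0, 2, 3, 1, 4, 6, 5, 7, 3, 2, 4, 6, 3, 1, 2, 4, 6, 5, 7, 1, 3, 0, 4, 5]) (by decide +kernel))
    ((orbSub_base _ _).run JFi22a.ok (prog := [5, 4, 3, 2, 6, 1, 7, 3, 0, 4, 2, 5, 6, 3, 1, 4, 6, 2, 7, 3, 1, 5, 0, 6, 2, 4, 7, 3, 5, 1, 2, 6, 4, 1, 0, 3, 4, 1]) (A' := Nat.xor XA (ivl 0 3510))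
      (by decide +kernel)) (by decide +kernel) h1 (fun x hx => wt.sq x (h1 hx)) h2 (fun w hw => ?_)
    (Set.mem_of_eq_of_mem t0 ((h 0 (by decide)).2 (by decide)))
    fun k => (h 6 (by decide)).1 (Set.mem_of_eq_of_mem t6.symm k) rfl
  obtain ⟨x, hx, rfl⟩ := List.mem_map.1 hw
  simpa using (h x (by revert x; decide)).2 (by revert x; decide)

theorem mem_XA : ∀ x < 9, g x ∈ S XA ↔ x ≠ 6 := fun x hx => by
  rw [← T_pts hx, cm.mem_TS (lts x (by omega)).1]
  revert x; decide +kernel

/-- A conjugating word. -/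
def wA : List ℕ := [6, 5, 4, 3, 7, 8]

theorem coreA {X : Set Cfsg.Spor.Fi22} (h : H2 D22 X) (ha : g 0 ∈ X) (e : Dd X (g 0) = S Y1) :
    {x | Spor.ev g wA * x * (Spor.ev g wA)⁻¹ ∈ X} = S XA := by
  have h' := h.conj_pre tg (Spor.ev g wA)
  have k : ∀ p < 3510, A0.testBit p = true → (T p ∈ X ↔ Y1.testBit p = true) := fun p hp hA => by
    rw [← cm.mem_TS hp, ← S, ← e]; exact ⟨fun k => ⟨k, ((mem_A0 p hp).2 hA).2⟩, fun k => k.1⟩
  have k' : T 3265 ∈ X := cm.loc_ext tg (P := H1) (fun _ _ _ _ k => k.h1)
    (fun x hx X X' a b p c d _ => ext1 x hx X X' a b p c d) h.loc ha h1Y1 h1Y1.sub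
    (fun y hy => (e.symm.subset hy).1) (L := 12) (by decide) (wa := [0])
    (v := wA.reverse ++ [1, 0, 2, 1, 3, 2] ++ wA) (by simp) (p := 3490) (r := 2425) (by decide) (by decide)
    (by decide) (by decide +kernel)
  refine eqA h'.sub h'.conj fun x hx => ?_
  rw [Set.mem_ofPred_eq, conj_g (q := getL [3488, 3265, 3276, 3490, 3285, 3494, 3295, 2409, 3491] 0 x) hx (by revert x; decide +kernel)]
  interval_cases x
  · exact iff_of_true (Set.mem_of_eq_of_mem t0 ha) (by decide)
  · exact iff_of_true k' (by decide)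
  · exact (k 3276 (by decide) (by decide +kernel)).trans (by decide +kernel)
  · exact (k 3490 (by decide) (by decide +kernel)).trans (by decide +kernel)
  · exact (k 3285 (by decide) (by decide +kernel)).trans (by decide +kernel)
  · exact (k 3494 (by decide) (by decide +kernel)).trans (by decide +kernel)
  · exact (k 3295 (by decide) (by decide +kernel)).trans (by decide +kernel)
  · exact (k 2409 (by decide) (by decide +kernel)).trans (by decide +kernel)
  · exact (k 3491 (by decide) (by decide +kernel)).trans (by decide +kernel)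

/-- The transpositions of `O₇(3)`. -/
def XB : ℕ := (nat_lit 0x20de000c00cf00000000000000a000005a00000a0a0f0a0f0aa0fffafaaa00000000000000000000000000000000000000000000000000000000000000aa00000000000000000000000000aa0000000000aaaaaa00aa00000000000000000000555555aaaaaaaaaa5500000000000000aa00550000aaaa00aaaa0000aaaaaaaa00aaaa00ffaaffaaffaa0000000000000000000000000000000000000000000000000000000000000000000000000000000000000000000000000000000000000000000000000000000000000000000000000000000000000000000000000000000000000000000000000000aaaa00000000000000000000aaaa0000000055550000aaaaaaaa0000000000000000000000005555aaaaaaaaaaaa0000aaaa00000000000000000000000000000000000000000000000000000000000000000000000000000000000000000000000000000000000000000000000000000000000000000000000000000000000000000000000000000000000000000000000000000000000000000000000000000000000000000000000000000000aaaaaaaa0000000000000000aaaaaaaa00000000aaaaaaaaaaaaaaaa)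

theorem eqB {X : Set Cfsg.Spor.Fi22} (h1 : X ⊆ D22) (h2 : ∀ x ∈ X, ∀ y ∈ X, x * y * x ∈ X)
    (h : ∀ x < 9, g x ∈ X ↔ x ≠ 0) : X = S XB := by
  refine cm.eq_of_two_orbits (ws := sing [1, 2, 3, 4, 5, 6, 7, 8]) (by decide) (c := 3494) (c' := 3488) (by decide)
    (by decide) ((orbSub_base _ _).run JFi22a.ok (prog := [4, 3, 5, 2, 1, 6, 4, 0, 7, 2, 3, 1, 6, 2, 4, 1, 3, 6, 0, 7, 4, 2, 5, 1, 0]) (by decide +kernel))
    ((orbSub_base _ _).run JFi22a.ok (prog := [0, 1, 2, 3, 6, 4, 7, 2, 5, 1, 3, 0, 6, 2, 4, 1, 6, 3, 7, 2, 4, 0, 5, 6, 3, 1, 7, 2, 0, 4, 3, 6, 1, 4, 5, 2, 1, 0]) (A' := Nat.xor XB (ivl 0 3510))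
      (by decide +kernel)) (by decide +kernel) h1 (fun x hx => wt.sq x (h1 hx)) h2 (fun w hw => ?_)
    (Set.mem_of_eq_of_mem t6 ((h 6 (by decide)).2 (by decide)))
    fun k => (h 0 (by decide)).1 (Set.mem_of_eq_of_mem t0.symm k) rfl
  obtain ⟨x, hx, rfl⟩ := List.mem_map.1 hw
  simpa using (h x (by revert x; decide)).2 (by revert x; decide)

theorem mem_XB : ∀ x < 9, g x ∈ S XB ↔ x ≠ 0 := fun x hx => by
  rw [← T_pts hx, cm.mem_TS (lts x (by omega)).1]
  revert x; decide +kernel

/-- A conjugating word. -/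
def wB : List ℕ := [5, 6, 4, 5, 3, 4, 2, 3, 1, 2, 0, 1, 2, 0, 1, 2, 3, 7, 4, 3, 2, 1, 0, 1, 2, 3, 4, 7, 3, 2, 1, 2, 3, 7, 4, 3, 2, 3, 4, 7, 3, 4, 7, 5, 4, 6, 5, 0, 1, 2, 3, 7, 4, 3, 2, 1, 0, 1, 2, 3, 4, 7, 3, 2, 1, 2, 3, 7, 4, 3, 2, 3, 4, 7, 3, 4, 7]

theorem coreB {X : Set Cfsg.Spor.Fi22} (h : H2 D22 X) (ha : g 0 ∈ X) (e : Dd X (g 0) = S Y2) :
    {x | Spor.ev g wB * x * (Spor.ev g wB)⁻¹ ∈ X} = S XB := by
  have h' := h.conj_pre tg (Spor.ev g wB)
  have k : ∀ p < 3510, A0.testBit p = true → (T p ∈ X ↔ Y2.testBit p = true) := fun p hp hA => by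
    rw [← cm.mem_TS hp, ← S, ← e]; exact ⟨fun k => ⟨k, ((mem_A0 p hp).2 hA).2⟩, fun k => k.1⟩
  have k' : T 2511 ∈ X := cm.loc_ext tg (P := H1) (fun _ _ _ _ k => k.h1)
    (fun x hx X X' a b p c d _ => ext1 x hx X X' a b p c d) h.loc ha h1Y2 h1Y2.sub
    (fun y hy => (e.symm.subset hy).1) (L := 12) (by decide) (wa := [0])
    (v := wB.reverse ++ [5, 6, 4, 5, 3, 4] ++ wB) (by simp) (p := 3285) (r := 1685) (by decide) (by decide)
    (by decide) (by decide +kernel)
  refine eqB h'.sub h'.conj fun x hx => ?_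
  rw [Set.mem_ofPred_eq, conj_g (q := getL [3489, 2476, 3494, 3285, 3490, 2511, 3488, 3496, 3469] 0 x) hx (by revert x; decide +kernel)]
  interval_cases x
  · exact (k 3489 (by decide) (by decide +kernel)).trans (by decide +kernel)
  · exact (k 2476 (by decide) (by decide +kernel)).trans (by decide +kernel)
  · exact (k 3494 (by decide) (by decide +kernel)).trans (by decide +kernel)
  · exact (k 3285 (by decide) (by decide +kernel)).trans (by decide +kernel)
  · exact (k 3490 (by decide) (by decide +kernel)).trans (by decide +kernel)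
  · exact iff_of_true k' (by decide)
  · exact iff_of_true (Set.mem_of_eq_of_mem t0 ha) (by decide)
  · exact (k 3496 (by decide) (by decide +kernel)).trans (by decide +kernel)
  · exact (k 3469 (by decide) (by decide +kernel)).trans (by decide +kernel)

theorem ho22 {X : Set Cfsg.Spor.Fi22} (h : H2 D22 X) {x : Cfsg.Spor.Fi22} (hx : x ∈ X)
    (hne : (Dd X x).Nonempty) : ∃ k, {x | k * x * k⁻¹ ∈ X} = S XA ∨ {x | k * x * k⁻¹ ∈ X} = S XB := by
  obtain ⟨k, rfl, e | e⟩ := norm h hx hne
  · exact ⟨k * Spor.ev g wA, .inl (by simpa [mul_assoc] using coreA (h.conj_pre tg k) hx e)⟩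
  · exact ⟨k * Spor.ev g wB, .inr (by simpa [mul_assoc] using coreB (h.conj_pre tg k) hx e)⟩

theorem eq_of_conj_pre {G : Type*} [Group G] {X X' : Set G} (u : G)
    (h : {x | u * x * u⁻¹ ∈ X} = {x | u * x * u⁻¹ ∈ X'}) : X = X' := by
  ext x
  simpa [mul_assoc] using Set.ext_iff.1 h (u⁻¹ * x * u)

theorem ext2 : Ext2 D22 := by
  intro X X' h h' p hp hp' hne hs
  obtain ⟨k, rfl, e⟩ := norm h hp hne
  have g1 := h.conj_pre tg k
  have g2 := h'.conj_pre tg k
  have e' : Dd {x | k * x * k⁻¹ ∈ X} (g 0) = Dd {x | k * x * k⁻¹ ∈ X'} (g 0) := by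
    have s : Dd {x | k * x * k⁻¹ ∈ X} (g 0) ⊆ Dd {x | k * x * k⁻¹ ∈ X'} (g 0) := fun y hy =>
      ⟨hs ⟨hy.1, fun e => hy.2.1 ((conj_inj k).1 e), (commute_conj_iff k).2 hy.2.2⟩, hy.2⟩
    obtain ⟨y, hy⟩ : (Dd {x | k * x * k⁻¹ ∈ X} (g 0)).Nonempty := by
      rcases e with e | e <;> rw [e]
      exacts [⟨_, 1760, by decide, by decide +kernel, rfl⟩, ⟨_, 1681, by decide, by decide +kernel, rfl⟩]
    exact ext1 _ a_mem _ _ (g1.loc _ hp) (g2.loc _ hp') y hy (s hy) fun u hu => s hu.1
  refine eq_of_conj_pre k ?_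
  rcases e with e | e
  · exact eq_of_conj_pre _ ((coreA g1 hp e).trans (coreA g2 hp' (e' ▸ e)).symm)
  · exact eq_of_conj_pre _ ((coreB g1 hp e).trans (coreB g2 hp' (e' ▸ e)).symm)

end Cfsg.Agent.Fischer.F22
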