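import Cfsg.Agent.Fischer.Basic

/-! Data for M. Hall's theorem on four involutions all of whose conjugates braid (helper24): the 81-point table. -/

set_option autoImplicit false
set_option maxRecDepth 100000

namespace Cfsg.Agent.Fischer

/-- Certificate table. -/
def hall_T : FT :=
    (.node 0 0 0 (.node 1 1 1 (.node 3 3 3 (.node 2 1 7 (.node 12 4 7 (.node 0 8 18 (.node 27 4 25 (.node 0
    40 30 (.node 80 0 76 (.node 3 10 22 .nil .nil) .nil) (.node 1 44 69 .nil .nil)) (.node 61 4 41 (.node 0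
    61 57 (.node 3 74 61 .nil .nil) .nil) (.node 2 27 45 .nil .nil))) (.node 1 22 35 (.node 49 3 35 (.node 0
    29 17 (.node 3 42 67 .nil .nil) .nil) (.node 1 76 68 .nil .nil)) (.node 1 46 70 (.node 1 12 5 .nil .nil)
    (.node 2 59 33 .nil .nil)))) (.node 22 9 11 (.node 8 31 30 (.node 1 26 45 (.node 0 13 15 (.node 3 26 46
    .nil .nil) .nil) (.node 1 60 64 .nil .nil)) (.node 64 9 55 (.node 0 77 70 .nil .nil) (.node 2 43 25 .nil
    .nil))) (.node 37 13 31 (.node 2 32 57 (.node 0 45 28 (.node 3 58 32 .nil .nil) .nil) (.node 2 11 23 .nil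
    .nil)) (.node 75 3 73 (.node 1 28 49 .nil .nil) (.node 2 75 65 .nil .nil))))) (.node 15 5 9 (.node 20 5 6
    (.node 7 29 28 (.node 2 25 43 (.node 0 5 2 (.node 3 18 14 .nil .nil) .nil) (.node 1 52 50 .nil .nil))
    (.node 3 37 63 (.node 0 69 49 .nil .nil) (.node 2 35 62 .nil .nil))) (.node 26 24 33 (.node 53 2 38
    (.node 0 37 23 (.node 3 50 41 .nil .nil) .nil) (.node 2 3 9 .nil .nil)) (.node 73 0 66 (.node 1 20 32
    .nil .nil) (.node 2 67 74 .nil .nil)))) (.node 24 11 17 (.node 33 16 18 (.node 0 27 47 (.node 0 21 33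
    (.node 3 34 39 .nil .nil) .nil) (.node 1 68 76 .nil .nil)) (.node 66 6 62 (.node 1 4 0 .nil .nil) (.node
    2 51 49 .nil .nil))) (.node 39 6 10 (.node 3 33 60 (.node 0 53 65 (.node 3 66 80 .nil .nil) .nil) (.node
    2 19 8 .nil .nil)) (.node 78 0 68 (.node 1 36 33 .nil .nil) (.node 3 2 9 .nil .nil)))))) (.node 10 5 7
    (.node 1 6 14 (.node 2 8 19 (.node 28 9 24 (.node 0 25 42 (.node 0 1 4 (.node 3 14 18 .nil .nil) .nil)
    (.node 1 48 58 .nil .nil)) (.node 62 9 51 (.node 0 65 53 (.node 3 78 71 .nil .nil) .nil) (.node 2 31 40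
    .nil .nil))) (.node 10 35 28 (.node 51 2 49 (.node 0 33 21 (.node 3 46 26 .nil .nil) .nil) (.node 1 80 72
    .nil .nil)) (.node 71 0 50 (.node 1 16 10 .nil .nil) (.node 2 63 78 .nil .nil)))) (.node 4 23 22 (.node
    32 12 14 (.node 0 45 28 (.node 0 17 29 (.node 3 30 54 .nil .nil) .nil) (.node 1 64 60 .nil .nil)) (.node
    1 39 65 (.node 1 0 4 .nil .nil) (.node 2 47 71 .nil .nil))) (.node 38 0 35 (.node 2 33 59 (.node 0 49 69
    (.node 3 62 76 .nil .nil) .nil) (.node 2 15 6 .nil .nil)) (.node 1 63 77 (.node 1 32 20 .nil .nil) (.node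
    2 79 77 .nil .nil))))) (.node 16 1 10 (.node 21 7 8 (.node 30 10 15 (.node 44 5 11 (.node 0 9 20 (.node 3
    22 10 .nil .nil) .nil) (.node 1 56 54 .nil .nil)) (.node 63 4 46 (.node 0 73 66 .nil .nil) (.node 2 39 42
    .nil .nil))) (.node 1 36 33 (.node 55 0 51 (.node 0 41 43 (.node 3 54 30 .nil .nil) .nil) (.node 2 7 1
    .nil .nil)) (.node 74 2 67 (.node 1 24 40 .nil .nil) (.node 2 71 47 .nil .nil)))) (.node 26 5 23 (.node
    34 20 14 (.node 3 27 48 (.node 0 25 42 (.node 3 38 64 .nil .nil) .nil) (.node 1 72 80 .nil .nil)) (.node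
    3 43 68 (.node 1 8 3 .nil .nil) (.node 2 55 66 .nil .nil))) (.node 1 24 40 (.node 2 34 61 (.node 0 57 61
    (.node 3 70 51 .nil .nil) .nil) (.node 2 23 11 .nil .nil)) (.node 79 1 67 (.node 1 40 24 .nil .nil)
    (.node 3 6 0 .nil .nil))))))) (.node 2 0 5 (.node 3 2 9 (.node 3 5 13 (.node 18 1 11 (.node 3 16 28
    (.node 2 24 41 (.node 80 3 66 (.node 3 12 24 .nil .nil) .nil) (.node 1 46 70 .nil .nil)) (.node 2 35 62
    (.node 0 63 58 (.node 3 76 62 .nil .nil) .nil) (.node 2 29 52 .nil .nil))) (.node 35 21 18 (.node 50 3 41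
    (.node 0 31 19 (.node 3 44 47 .nil .nil) .nil) (.node 1 78 74 .nil .nil)) (.node 70 5 64 (.node 1 14 6
    .nil .nil) (.node 2 61 34 .nil .nil)))) (.node 2 11 23 (.node 32 7 25 (.node 45 2 27 (.node 0 15 13
    (.node 3 28 16 .nil .nil) .nil) (.node 1 62 59 .nil .nil)) (.node 64 4 54 (.node 0 79 64 .nil .nil)
    (.node 2 45 27 .nil .nil))) (.node 1 23 38 (.node 3 32 58 (.node 0 47 27 (.node 3 60 33 .nil .nil) .nil)
    (.node 2 13 20 .nil .nil)) (.node 76 1 68 (.node 1 30 53 .nil .nil) (.node 2 77 79 .nil .nil))))) (.node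
    0 7 16 (.node 20 3 15 (.node 30 7 23 (.node 43 0 41 (.node 0 7 16 (.node 3 20 15 .nil .nil) .nil) (.node
    1 54 56 .nil .nil)) (.node 63 9 47 (.node 0 71 50 .nil .nil) (.node 2 37 44 .nil .nil))) (.node 36 3 23
    (.node 54 2 46 (.node 0 39 24 (.node 3 52 72 .nil .nil) .nil) (.node 2 5 0 .nil .nil)) (.node 3 61 74
    (.node 1 22 35 .nil .nil) (.node 2 69 73 .nil .nil)))) (.node 5 25 24 (.node 0 22 34 (.node 47 1 42
    (.node 0 23 37 (.node 3 36 23 .nil .nil) .nil) (.node 1 70 46 .nil .nil)) (.node 67 0 54 (.node 1 6 14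
    .nil .nil) (.node 2 53 38 .nil .nil))) (.node 39 18 15 (.node 60 2 58 (.node 0 55 51 (.node 3 68 43 .nil
    .nil) .nil) (.node 2 21 17 .nil .nil)) (.node 78 3 71 (.node 1 38 23 .nil .nil) (.node 3 4 11 .nil
    .nil)))))) (.node 11 6 8 (.node 0 14 11 (.node 1 19 17 (.node 0 17 29 (.node 42 2 39 (.node 0 3 6 (.node
    3 16 28 .nil .nil) .nil) (.node 1 50 52 .nil .nil)) (.node 62 4 50 (.node 0 67 54 (.node 3 80 66 .nil
    .nil) .nil) (.node 2 33 59 .nil .nil))) (.node 35 7 33 (.node 52 1 50 (.node 0 35 38 (.node 3 48 27 .nil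
    .nil) .nil) (.node 2 1 7 .nil .nil)) (.node 72 3 52 (.node 1 18 11 .nil .nil) (.node 2 65 75 .nil
    .nil)))) (.node 24 6 22 (.node 33 5 29 (.node 3 26 46 (.node 0 19 31 (.node 3 32 58 .nil .nil) .nil)
    (.node 1 66 41 .nil .nil)) (.node 1 41 66 (.node 1 2 7 .nil .nil) (.node 2 49 51 .nil .nil))) (.node 11
    38 30 (.node 59 3 57 (.node 0 51 55 (.node 3 64 38 .nil .nil) .nil) (.node 2 17 21 .nil .nil)) (.node 77
    3 65 (.node 1 34 37 .nil .nil) (.node 3 0 6 .nil .nil))))) (.node 3 7 17 (.node 21 3 19 (.node 31 4 29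
    (.node 44 16 13 (.node 0 11 14 (.node 3 24 12 .nil .nil) .nil) (.node 1 58 48 .nil .nil)) (.node 3 38 64
    (.node 0 75 62 .nil .nil) (.node 2 41 24 .nil .nil))) (.node 37 6 32 (.node 3 31 56 (.node 0 43 41 (.node
    3 56 31 .nil .nil) .nil) (.node 2 9 3 .nil .nil)) (.node 75 1 71 (.node 1 26 45 .nil .nil) (.node 2 73 69
    .nil .nil)))) (.node 26 10 19 (.node 10 34 24 (.node 48 0 46 (.node 0 27 47 (.node 3 40 25 .nil .nil)
    .nil) (.node 1 74 78 .nil .nil)) (.node 1 44 69 (.node 1 10 16 .nil .nil) (.node 2 57 32 .nil .nil)))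
    (.node 40 3 25 (.node 61 9 42 (.node 0 59 52 (.node 3 72 52 .nil .nil) .nil) (.node 2 25 43 .nil .nil))
    (.node 79 3 69 (.node 1 42 47 .nil .nil) (.node 3 8 1 .nil .nil)))))))) (.node 2 2 2 (.node 1 0 4 (.node
    3 1 8 (.node 0 12 10 (.node 18 4 6 (.node 6 27 26 (.node 40 2 31 (.node 80 1 72 (.node 3 11 4 .nil .nil)
    .nil) (.node 1 45 26 .nil .nil)) (.node 61 6 52 (.node 0 62 75 (.node 3 75 73 .nil .nil) .nil) (.node 2
    28 50 .nil .nil))) (.node 35 8 16 (.node 2 28 50 (.node 0 30 40 (.node 3 43 68 .nil .nil) .nil) (.node 1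
    77 63 .nil .nil)) (.node 70 3 51 (.node 1 13 25 .nil .nil) (.node 2 60 58 .nil .nil)))) (.node 22 13 17
    (.node 1 20 32 (.node 45 7 6 (.node 0 14 11 (.node 3 27 48 .nil .nil) .nil) (.node 1 61 73 .nil .nil))
    (.node 64 1 60 (.node 0 78 68 .nil .nil) (.node 2 44 37 .nil .nil))) (.node 11 37 26 (.node 57 1 43
    (.node 0 46 48 (.node 3 59 57 .nil .nil) .nil) (.node 2 12 16 .nil .nil)) (.node 3 62 76 (.node 1 29 51
    .nil .nil) (.node 2 76 70 .nil .nil))))) (.node 0 15 13 (.node 20 2 13 (.node 2 18 30 (.node 43 9 31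
    (.node 0 6 3 (.node 3 19 21 .nil .nil) .nil) (.node 1 53 30 .nil .nil)) (.node 63 8 39 (.node 0 70 77
    .nil .nil) (.node 2 36 22 .nil .nil))) (.node 2 22 36 (.node 3 30 54 (.node 0 38 35 (.node 3 51 70 .nil
    .nil) .nil) (.node 2 4 10 .nil .nil)) (.node 73 2 69 (.node 1 21 9 .nil .nil) (.node 2 68 56 .nil
    .nil)))) (.node 1 13 25 (.node 9 33 32 (.node 47 5 28 (.node 0 22 34 (.node 3 35 49 .nil .nil) .nil)
    (.node 1 69 44 .nil .nil)) (.node 3 42 67 (.node 1 5 12 .nil .nil) (.node 2 52 29 .nil .nil))) (.node 39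
    3 34 (.node 60 0 56 (.node 0 54 67 (.node 3 67 42 .nil .nil) .nil) (.node 2 20 13 .nil .nil)) (.node 78 1
    74 (.node 1 37 34 .nil .nil) (.node 3 3 3 .nil .nil)))))) (.node 3 4 11 (.node 14 4 8 (.node 19 7 9
    (.node 28 11 13 (.node 42 6 30 (.node 0 2 5 (.node 3 15 20 .nil .nil) .nil) (.node 1 49 28 .nil .nil))
    (.node 62 1 59 (.node 0 66 73 (.node 3 79 69 .nil .nil) .nil) (.node 2 32 57 .nil .nil))) (.node 35 34 23
    (.node 2 29 52 (.node 0 34 22 (.node 3 47 44 .nil .nil) .nil) (.node 2 0 5 .nil .nil)) (.node 2 48 72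
    (.node 1 17 19 .nil .nil) (.node 2 64 80 .nil .nil)))) (.node 3 12 24 (.node 0 21 33 (.node 45 3 29
    (.node 0 18 8 (.node 3 31 56 .nil .nil) .nil) (.node 1 65 39 .nil .nil)) (.node 65 0 53 (.node 1 1 1 .nil
    .nil) (.node 2 48 72 .nil .nil))) (.node 38 27 17 (.node 59 0 52 (.node 0 50 71 (.node 3 63 37 .nil .nil)
    .nil) (.node 2 16 12 .nil .nil)) (.node 77 0 70 (.node 1 33 36 .nil .nil) (.node 2 80 64 .nil .nil)))))
    (.node 16 2 12 (.node 21 2 17 (.node 0 19 31 (.node 44 2 37 (.node 0 10 12 (.node 3 23 36 .nil .nil)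
    .nil) (.node 1 57 43 .nil .nil)) (.node 63 5 56 (.node 0 74 72 .nil .nil) (.node 2 40 31 .nil .nil)))
    (.node 0 23 37 (.node 55 3 53 (.node 0 42 25 (.node 3 55 53 .nil .nil) .nil) (.node 2 8 19 .nil .nil))
    (.node 0 62 75 (.node 1 25 13 .nil .nil) (.node 2 72 48 .nil .nil)))) (.node 26 7 15 (.node 34 15 29
    (.node 48 9 29 (.node 0 26 44 (.node 3 39 34 .nil .nil) .nil) (.node 1 73 61 .nil .nil)) (.node 68 2 56
    (.node 1 9 21 .nil .nil) (.node 2 56 68 .nil .nil))) (.node 40 8 5 (.node 61 7 44 (.node 0 58 63 (.node 3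
    71 78 .nil .nil) .nil) (.node 2 24 41 .nil .nil)) (.node 79 2 77 (.node 1 41 66 .nil .nil) (.node 3 7 17
    .nil .nil))))))) (.node 3 0 6 (.node 2 4 10 (.node 13 6 9 (.node 18 3 14 (.node 28 8 22 (.node 41 7 31
    (.node 0 0 0 (.node 3 13 5 .nil .nil) .nil) (.node 1 47 42 .nil .nil)) (.node 62 5 53 (.node 0 64 79
    (.node 3 77 65 .nil .nil) .nil) (.node 2 30 18 .nil .nil))) (.node 35 25 19 (.node 1 29 51 (.node 0 32 36
    (.node 3 45 29 .nil .nil) .nil) (.node 1 79 67 .nil .nil)) (.node 2 47 71 (.node 1 15 27 .nil .nil)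
    (.node 2 62 35 .nil .nil)))) (.node 23 15 19 (.node 32 8 27 (.node 45 16 17 (.node 0 16 7 (.node 3 29 45
    .nil .nil) .nil) (.node 1 63 77 .nil .nil)) (.node 64 7 48 (.node 0 80 76 .nil .nil) (.node 2 46 54 .nil
    .nil))) (.node 38 8 33 (.node 58 1 48 (.node 0 48 46 (.node 3 61 74 .nil .nil) .nil) (.node 2 14 26 .nil
    .nil)) (.node 76 2 70 (.node 1 31 55 .nil .nil) (.node 2 78 63 .nil .nil))))) (.node 16 4 5 (.node 1 9 21
    (.node 30 9 26 (.node 0 26 44 (.node 0 8 18 (.node 3 21 19 .nil .nil) .nil) (.node 1 55 31 .nil .nil))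
    (.node 63 0 58 (.node 0 72 74 .nil .nil) (.node 2 38 53 .nil .nil))) (.node 0 36 32 (.node 1 31 55 (.node
    0 40 30 (.node 3 53 55 .nil .nil) .nil) (.node 2 6 15 .nil .nil)) (.node 74 0 72 (.node 1 23 38 .nil
    .nil) (.node 2 70 76 .nil .nil)))) (.node 2 14 26 (.node 34 6 12 (.node 47 3 44 (.node 0 24 39 (.node 3
    37 63 .nil .nil) .nil) (.node 1 71 75 .nil .nil)) (.node 67 7 63 (.node 1 7 2 .nil .nil) (.node 2 54 46
    .nil .nil))) (.node 39 4 30 (.node 60 12 46 (.node 0 56 60 (.node 3 69 79 .nil .nil) .nil) (.node 2 22 36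
    .nil .nil)) (.node 0 64 79 (.node 1 39 65 .nil .nil) (.node 3 5 13 .nil .nil)))))) (.node 1 5 12 (.node 2
    6 15 (.node 0 9 20 (.node 29 6 16 (.node 42 37 17 (.node 0 4 1 (.node 3 17 7 .nil .nil) .nil) (.node 1 51
    29 .nil .nil)) (.node 62 8 43 (.node 0 68 78 .nil .nil) (.node 2 34 61 .nil .nil))) (.node 23 25 29
    (.node 1 30 53 (.node 0 36 32 (.node 3 49 35 .nil .nil) .nil) (.node 2 2 2 .nil .nil)) (.node 1 61 73
    (.node 1 19 17 .nil .nil) (.node 2 66 55 .nil .nil)))) (.node 24 8 13 (.node 33 6 31 (.node 46 8 29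
    (.node 0 20 9 (.node 3 33 60 .nil .nil) .nil) (.node 1 67 79 .nil .nil)) (.node 66 2 55 (.node 1 3 8 .nil
    .nil) (.node 2 50 28 .nil .nil))) (.node 0 24 39 (.node 59 41 14 (.node 0 52 59 (.node 3 65 77 .nil .nil)
    .nil) (.node 2 18 30 .nil .nil)) (.node 2 63 78 (.node 1 35 22 .nil .nil) (.node 3 1 8 .nil .nil)))))
    (.node 17 8 9 (.node 3 10 22 (.node 31 5 18 (.node 44 4 28 (.node 0 12 10 (.node 3 25 40 .nil .nil) .nil)
    (.node 1 59 62 .nil .nil)) (.node 64 6 49 (.node 0 76 80 .nil .nil) (.node 2 42 39 .nil .nil))) (.node 37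
    1 34 (.node 56 1 54 (.node 0 44 26 (.node 3 57 59 .nil .nil) .nil) (.node 2 10 4 .nil .nil)) (.node 75 2
    65 (.node 1 27 15 .nil .nil) (.node 2 74 67 .nil .nil)))) (.node 1 15 27 (.node 34 5 32 (.node 1 28 49
    (.node 0 28 45 (.node 3 41 50 .nil .nil) .nil) (.node 1 75 71 .nil .nil)) (.node 69 0 49 (.node 1 11 18
    .nil .nil) (.node 2 58 60 .nil .nil))) (.node 40 18 19 (.node 61 0 57 (.node 0 60 56 (.node 3 73 75 .nil
    .nil) .nil) (.node 2 26 14 .nil .nil)) (.node 2 64 80 (.node 1 43 57 .nil .nil) (.node 3 9 2 .nil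
    .nil)))))))))

/-- Certificate steps. -/
def hall_J : List (List ℕ) :=
    [[2], [2], [2], [2], [1], [1], [1], [1], [1], [1], [1], [7,80,40,37,56], [1], [7,96,48,37,64], [1],
    [7,112,32,45,58], [6,34,43,112,82], [1], [7,136,48,45,72], [1], [7,152,32,53,66], [6,34,51,152,98], [1],
    [7,176,40,53,74], [6,42,51,176,138], [1], [7,200,34,61,42], [7,200,35,125,128], [7,200,43,93,129], [1],
    [7,232,64,61,72], [1], [7,248,34,69,50], [7,248,35,165,168], [7,248,51,109,169], [1], [7,280,56,69,74],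
    [6,58,67,280,234], [1], [7,304,42,77,50], [7,304,43,189,192], [7,304,51,149,193], [1], [7,336,58,77,66],
    [7,336,59,293,296], [7,336,67,245,297], [1], [7,368,72,84,96], [7,368,136,88,232], [1],
    [7,392,176,104,280], [6,82,99,392,370], [1], [7,416,48,130,368], [7,416,64,116,136], [7,416,96,120,232],
    [1], [6,114,139,448,418], [1], [7,464,40,170,392], [7,464,56,156,176], [7,464,80,160,280], [1],
    [7,496,32,194,448], [6,154,179,496,466], [1], [7,520,64,216,368], [7,520,72,224,416], [7,520,96,208,136],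
    [1], [7,552,50,236,200], [6,202,235,552,522], [1], [7,576,56,264,392], [7,576,74,272,464],
    [7,576,80,256,176], [1], [7,608,34,298,552], [7,608,42,284,248], [6,250,283,608,578], [1],
    [7,640,58,320,448], [7,640,66,328,496], [7,640,112,312,152], [1], [7,672,42,352,552], [7,672,50,360,608],
    [7,672,200,344,248], [6,306,339,672,642], [1], [7,712,50,372,129], [7,712,304,376,169],
    [7,712,193,384,552], [6,132,371,712,418], [6,720,728,316,667], [1], [7,760,66,372,219],
    [7,760,336,376,267], [7,760,448,384,297], [6,221,371,760,522], [7,762,714,32,412], [6,768,776,348,699],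
    [6,804,401,785,736], [7,475,456,816,683], [1], [7,832,75,376,392], [6,42,712,832,754],
    [6,58,760,832,810], [1], [7,864,50,845,848], [7,864,35,410,712], [7,864,192,400,608],
    [6,172,395,864,466], [1], [7,904,66,845,856], [7,904,33,410,760], [7,904,496,400,296],
    [6,269,395,904,578], [1], [7,944,50,420,128], [7,944,51,424,712], [7,944,248,432,193],
    [6,952,968,260,603], [1], [7,984,66,420,113], [7,984,67,432,448], [7,984,267,440,297],
    [6,34,944,984,978], [6,992,1009,283,627], [1], [7,1032,56,986,1026], [1], [7,1048,50,1005,1016],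
    [7,1048,43,458,944], [7,1048,864,818,553], [1], [7,1080,74,1005,1026], [7,1080,41,458,1032], [1],
    [7,1104,42,468,168], [7,1104,43,472,864], [7,1104,200,480,192], [6,1112,1128,212,547], [1],
    [7,1144,58,468,153], [7,1144,59,480,496], [7,1144,219,488,296], [6,34,1104,1144,1138],
    [6,1152,1169,235,563], [1], [7,1192,64,1146,1186], [1], [7,1208,42,1165,1176], [7,1208,35,504,1048],
    [7,1208,51,514,1104], [1], [7,1240,72,1165,1186], [7,1240,49,514,1192], [1], [7,1264,67,528,760], [1],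
    [7,1280,75,536,1032], [1], [7,1296,59,570,1264], [1], [7,1312,57,570,1280], [1], [7,1328,59,584,904],
    [1], [7,1344,73,592,1192], [1], [7,1360,33,616,1296], [7,1360,67,634,1328], [1], [7,1384,65,634,1344],
    [1], [7,1400,57,648,1080], [1], [7,1416,65,656,1240], [1], [7,1432,41,680,1312], [7,1432,75,706,1400],
    [7,1432,1032,829,465], [1], [7,1464,49,688,1384], [7,1464,73,706,1416], [7,1464,417,829,1192], [1],
    [7,1496,56,885,1123], [7,1496,74,965,1067], [7,1496,41,752,1400], [7,1496,81,746,1032],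
    [7,1496,177,736,1312], [1], [7,1544,40,925,1339], [7,1544,74,1277,1307], [7,1544,57,808,1432],
    [7,1544,81,794,1280], [7,1544,281,785,1080], [1], [7,1592,64,880,963], [7,1592,72,1125,1235],
    [7,1592,49,872,1416], [7,1592,97,898,1192], [7,1592,137,888,1384], [1], [7,1640,48,920,1275],
    [7,1640,72,1341,1379], [7,1640,65,912,1464], [7,1640,97,938,1344], [7,1640,233,929,1240], [1],
    [7,1688,33,976,1328], [1], [7,1704,59,1040,1360], [7,1704,153,1459,1571], [1], [7,1728,49,1056,1344],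
    [7,1728,233,1073,1592], [1], [7,1752,73,1088,1384], [1], [7,1768,33,1136,1264], [1],
    [7,1784,67,1200,1296], [7,1784,113,1493,1667], [1], [7,1808,41,1216,1280], [1], [7,1824,75,1248,1312],
    [1], [7,1840,33,1528,1704], [7,1840,59,1504,1768], [1], [7,1864,49,1536,1835], [7,1864,73,1512,1728],
    [1], [7,1888,35,1576,1819], [7,1888,43,1552,1699], [7,1888,51,1725,1851], [1], [7,1920,65,1584,1752],
    [7,1920,73,1560,1795], [1], [7,1944,33,1624,1784], [7,1944,67,1600,1688], [1], [7,1968,41,1632,1763],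
    [7,1968,57,1749,1883], [7,1968,75,1608,1808], [1], [7,2000,35,1672,1739], [7,2000,43,1805,1955],
    [7,2000,51,1648,1779], [1], [7,2032,41,1805,1939], [7,2032,57,1680,1824], [7,2032,75,1656,1715], [8,0],
    [8,34], [8,42], [8,50], [8,35], [8,43], [8,51], [8,200], [8,248], [8,304], [8,129], [8,169], [8,128],
    [8,193], [8,168], [8,192], [8,201], [8,552], [8,249], [8,608], [8,305], [8,672], [8,712], [8,864],
    [8,944], [8,1048], [8,1104], [8,1208], [8,1177], [8,553], [8,1017], [8,609], [8,849], [8,673], [8,713],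
    [8,923], [8,848], [8,865], [8,922], [8,945], [8,1016], [8,1099], [8,1049], [8,1098], [8,1105], [8,1176],
    [8,1259], [8,1209], [8,1258], [8,1779], [8,1819], [8,1371], [8,1443], [8,1699], [8,1739], [8,1370],
    [8,1475], [8,1523], [8,1619], [8,1442], [8,1474], [8,1522], [8,1888], [8,1618], [8,2000], [8,1698],
    [8,1851], [8,1738], [8,1979], [8,1778], [8,1955], [8,1818], [8,1875], [8,1850], [8,1874], [8,1889],
    [8,2043], [8,1954], [8,1978], [8,2001], [8,2042], [8,32], [8,8], [8,58], [8,66], [8,33], [8,112],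
    [8,152], [8,59], [8,67], [8,336], [8,219], [8,267], [8,113], [8,448], [8,153], [8,496], [8,218], [8,297],
    [8,266], [8,296], [8,640], [8,337], [8,760], [8,904], [8,984], [8,449], [8,1144], [8,497], [8,1264],
    [8,1296], [8,1328], [8,1360], [8,641], [8,857], [8,883], [8,761], [8,856], [8,882], [8,905], [8,1688],
    [8,985], [8,1704], [8,1227], [8,1411], [8,1768], [8,1145], [8,1784], [8,1226], [8,1427], [8,1265],
    [8,1323], [8,1297], [8,1322], [8,1329], [8,1395], [8,1361], [8,1394], [8,1410], [8,1426], [8,1571],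
    [8,1667], [8,1840], [8,1570], [8,1944], [8,1666], [8,1689], [8,1705], [8,2011], [8,1931], [8,1769],
    [8,1785], [8,1899], [8,2051], [8,1841], [8,1987], [8,1898], [8,1930], [8,1945], [8,1986], [8,2010],
    [8,2050], [8,40], [8,56], [8,16], [8,74], [8,80], [8,41], [8,176], [8,57], [8,280], [8,75], [8,81],
    [8,392], [8,227], [8,323], [8,464], [8,177], [8,226], [8,355], [8,576], [8,281], [8,322], [8,354],
    [8,832], [8,393], [8,1032], [8,1080], [8,465], [8,1163], [8,1280], [8,1312], [8,577], [8,1027], [8,1400],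
    [8,1432], [8,1496], [8,1544], [8,833], [8,1123], [8,1339], [8,1067], [8,1026], [8,1033], [8,1066],
    [8,1081], [8,1122], [8,1162], [8,1355], [8,1808], [8,1824], [8,1307], [8,1281], [8,1306], [8,1313],
    [8,1338], [8,1354], [8,1715], [8,1763], [8,1401], [8,1483], [8,1433], [8,1482], [8,1497], [8,1545],
    [8,1968], [8,2032], [8,1907], [8,1714], [8,1883], [8,1762], [8,1859], [8,1939], [8,1809], [8,1825],
    [8,1858], [8,1882], [8,1906], [8,1938], [8,2019], [8,1969], [8,2018], [8,2033], [8,48], [8,64], [8,72],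
    [8,24], [8,96], [8,136], [8,49], [8,232], [8,65], [8,73], [8,368], [8,97], [8,416], [8,137], [8,275],
    [8,331], [8,520], [8,233], [8,274], [8,363], [8,330], [8,362], [8,369], [8,843], [8,417], [8,1003],
    [8,1192], [8,1240], [8,521], [8,1187], [8,1344], [8,1384], [8,1416], [8,1464], [8,963], [8,1275],
    [8,842], [8,1592], [8,1640], [8,962], [8,1002], [8,1291], [8,1728], [8,1752], [8,1235], [8,1186],
    [8,1193], [8,1234], [8,1241], [8,1274], [8,1290], [8,1795], [8,1835], [8,1379], [8,1345], [8,1378],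
    [8,1385], [8,1451], [8,1417], [8,1450], [8,1465], [8,1864], [8,1920], [8,1593], [8,1641], [8,1963],
    [8,2059], [8,1729], [8,1753], [8,2027], [8,1794], [8,1995], [8,1834], [8,1915], [8,1865], [8,1914],
    [8,1921], [8,1962], [8,1994], [8,2026], [8,2058]]

/-- Certificate targets. -/
def hall_Q : List ℕ :=
    [258, 259, 260, 261, 262, 263, 264, 265, 266, 267, 268, 269, 270, 271, 272, 273, 274, 275, 276, 277, 278,
    279, 280, 281, 282, 283, 284, 285, 286, 287, 288, 289, 290, 291, 292, 293, 294, 295, 296, 297, 298, 299,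
    300, 301, 302, 303, 304, 305, 306, 307, 308, 309, 310, 311, 312, 313, 314, 315, 316, 317, 318, 319, 320,
    321, 322, 323, 324, 325, 326, 327, 328, 329, 330, 331, 332, 333, 334, 335, 336, 337, 338, 339, 340, 341,
    342, 343, 344, 345, 346, 347, 348, 349, 350, 351, 352, 353, 354, 355, 356, 357, 358, 359, 360, 361, 362,
    363, 364, 365, 366, 367, 368, 369, 370, 371, 372, 373, 374, 375, 376, 377, 378, 379, 380, 381, 382, 383,
    384, 385, 386, 387, 388, 389, 390, 391, 392, 393, 394, 395, 396, 397, 398, 399, 400, 401, 402, 403, 404,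
    405, 406, 407, 408, 409, 410, 411, 412, 413, 414, 415, 416, 417, 418, 419, 420, 421, 422, 423, 424, 425,
    426, 427, 428, 429, 430, 431, 432, 433, 434, 435, 436, 437, 438, 439, 440, 441, 442, 443, 444, 445, 446,
    447, 448, 449, 450, 451, 452, 453, 454, 455, 456, 457, 458, 459, 460, 461, 462, 463, 464, 465, 466, 467,
    468, 469, 470, 471, 472, 473, 474, 475, 476, 477, 478, 479, 480, 481, 482, 483, 484, 485, 486, 487, 488,
    489, 490, 491, 492, 493, 494, 495, 496, 497, 498, 499, 500, 501, 502, 503, 504, 505, 506, 507, 508, 509,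
    510, 511, 512, 513, 514, 515, 516, 517, 518, 519, 520, 521, 522, 523, 524, 525, 526, 527, 528, 529, 530,
    531, 532, 533, 534, 535, 536, 537, 538, 539, 540, 541, 542, 543, 544, 545, 546, 547, 548, 549, 550, 551,
    552, 553, 554, 555, 556, 557, 558, 559, 560, 561, 562, 563, 564, 565, 566, 567, 568, 569, 570, 571, 572,
    573, 574, 575, 576, 577, 578, 579, 580, 581]

/-- The action of the four generators on the 81 points. -/
def hallAct (s p : ℕ) : ℕ := (0x424547413e493d4b344e334f2b2a504d26254c4a2139203b1f351e37484629231b2c1a1d2f4443321922403f1731273c3a38362d10302e280c240a130f150e071c141205180416020111000d0b03090806404d3f4f46414345302f4c49384a374b504e23223a213c2044422e261d311c334847361b251927181f2a352c163e3d3b39281234322d0e2b290b24110d081e150c061a141017040313010f000a0902070548434a3f44474e3d504b2e2c4c4f29273c4d3b49403e302b361f381e321d341c3a2a461a45392f42184117222116252414373533310f2d0d2826230920110b130a1b06190512101503020e0c00080701044c404446503e48424a324d314e3649354f3a4b3938343f3d3c3343413b3747452e1b301c1a29192b1e18231720261615241328112d2f2c2a27252221091f081d070d0b0f0a0e0c14121003020106050400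 >>> (8 * (81 * s + p))) % 256

/-- The table as a list of facts. -/
def hall_B : List (ℕ × ℕ × ℕ) :=
  (List.range 4).flatMap fun s => (List.range 81).map fun p => (s, p, hallAct s p)

theorem hall_check : keiCheck hall_T true 4 [] hall_J hall_B hall_Q = true := by decide +kernel

theorem hallAct_lt : ∀ s < 4, ∀ p < 81, hallAct s p < 81 := by decide +kernel

end Cfsg.Agent.Fischer
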