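import Cfsg.Agent.Fischer.Pull

/-! Domination by hyperovals (`KU.dom`, `K22.dom`), square roots of products of commuting transpositions
(`KU.root`, `B23.root`, `B22.root1`, `B22.root2`), the non-collinear triples `NCol` of `Fi22` (helper24). -/

set_option maxRecDepth 100000
set_option exponentiation.threshold 100000

namespace Cfsg.Agent.Fischer

open Subgroup Cfsg.Agent.Spor

/-- Certificate table. -/
def id_s4_root_T : RT :=
    (.node [0,0] [] (.node [1,1] [] (.node [0,2] [2,0] .nil .nil) (.node [2,1,2] [1,2,1] .nil .nil)) (.node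
    [2,2] [] (.node [0,1,0] [1,0,1] .nil .nil) .nil))

/-- Certificate steps. -/
def id_s4_root_P : List (List ℕ) :=
    []

/-- Certificate steps. -/
def id_s4_root_Q : List (List ℕ) :=
    [[2308, 1795, 2, 4, 2562, 513, 514]]

/-- In `S₄`, `(12)(34)` is a square. -/
theorem id_s4_root {G : Type*} [Monoid G] {a e b : G}
    (h0 : a * a = 1)
    (h1 : e * e = 1)
    (h2 : b * b = 1)
    (h3 : a * b = b * a)
    (h4 : a * e * a = e * a * e)
    (h5 : b * e * b = e * b * e) :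
    a * e * a * b * e * a * e * a * b * e = a * b := by
  have H := kb_sound (gl [a, e, b]) (T := id_s4_root_T) (P := id_s4_root_P) (Q := id_s4_root_Q)
    (A := [([0,0], []), ([1,1], []), ([2,2], []), ([0,2], [2,0]), ([0,1,0], [1,0,1]), ([2,1,2], [1,2,1])])
    (B := [([0,1,0,2,1,0,1,0,2,1], [0,2])])
    (by decide +kernel) (by
      simp only [List.forall_mem_cons, List.not_mem_nil, false_imp_iff, implies_true, and_true, ev_nil, ev_cons,
        gl_zero, gl_succ, mul_one, ← mul_assoc]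
      exact ⟨h0, h1, h2, h3, h4, h5⟩)
  simpa only [List.forall_mem_cons, List.not_mem_nil, false_imp_iff, implies_true, and_true, ev_nil, ev_cons,
    gl_zero, gl_succ, mul_one, ← mul_assoc] using H

/-- Certificate table. -/
def id_d4_root_T : RT :=
    (.node [0,0] [] (.node [1,1] [] (.node [3,3] [] (.node [0,3,0] [3,0,3] .nil .nil) .nil) (.node [0,2]
    [2,0] (.node [2,3,2] [3,2,3] .nil .nil) .nil)) (.node [2,2] [] (.node [0,1] [1,0] (.node [1,3,1] [3,1,3]
    .nil .nil) .nil) (.node [1,2] [2,1] (.node [3,0,2,3,0] [2,3,0,2,3] .nil .nil) .nil)))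

/-- Certificate steps. -/
def id_d4_root_P : List (List ℕ) :=
    [[2561, 3586, 4864, 2818]]

/-- Certificate steps. -/
def id_d4_root_Q : List (List ℕ) :=
    [[5122, 4358, 3333, 2312, 2056, 2569, 3080]]

/-- In `W(D₄)` the central involution is a square. -/
theorem id_d4_root {G : Type*} [Monoid G] {a b c e : G}
    (h0 : a * a = 1)
    (h1 : b * b = 1)
    (h2 : c * c = 1)
    (h3 : e * e = 1)
    (h4 : a * b = b * a)
    (h5 : a * c = c * a)
    (h6 : b * c = c * b)
    (h7 : a * e * a = e * a * e)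
    (h8 : b * e * b = e * b * e)
    (h9 : c * e * c = e * c * e) :
    a * b * e * a * c * e * a * b * e * a * c * e = a * b * c * e * a * b * c * e * c * b * a * e := by
  have H := kb_sound (gl [a, b, c, e]) (T := id_d4_root_T) (P := id_d4_root_P) (Q := id_d4_root_Q)
    (A := [([0,0], []), ([1,1], []), ([2,2], []), ([3,3], []), ([0,1], [1,0]), ([0,2], [2,0]), ([1,2], [2,1]), ([0,3,0], [3,0,3]), ([1,3,1], [3,1,3]), ([2,3,2], [3,2,3])])
    (B := [([0,1,3,0,2,3,0,1,3,0,2,3], [0,1,2,3,0,1,2,3,2,1,0,3])])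
    (by decide +kernel) (by
      simp only [List.forall_mem_cons, List.not_mem_nil, false_imp_iff, implies_true, and_true, ev_nil, ev_cons,
        gl_zero, gl_succ, mul_one, ← mul_assoc]
      exact ⟨h0, h1, h2, h3, h4, h5, h6, h7, h8, h9⟩)
  simpa only [List.forall_mem_cons, List.not_mem_nil, false_imp_iff, implies_true, and_true, ev_nil, ev_cons,
    gl_zero, gl_succ, mul_one, ← mul_assoc] using H


variable {G G' : Type*} [Group G] [Group G'] {S D E : Set G}

theorem dom_chk : allN 4096 (fun u => iteB (isoc u)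
    ([3, 5, 6, 9, 10, 12, 1011, 1013, 1014].any fun p => Nat.beq (hc p u) 0) true) = true := by decide +kernel

/-- The code `u` is isotropic. -/
noncomputable def okc (u : ℕ) : Bool := u < 4096 && isoc u

section uk
variable {F : Type*} [Field F] [Fintype F] [hF : Fact (Fintype.card F = 2 ^ 2)] {lam : (Fin 6 → F) → G}

theorem iso_ok {u : ℕ} (k : okc u = true) : Iso (dec F u) := by
  simp only [okc, Bool.and_eq_true, decide_eq_true_eq] at k
  exact (iso_dec k.1).2 k.2

namespace UK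

theorem m (h : UK lam E) (u : ℕ) (k : okc u = true := by decide +kernel) : lam (dec F u) ∈ E := h.mem _ (iso_ok k)

theorem c (h : UK lam E) (u v : ℕ) (k : (okc u && okc v && hc u v == 0) = true := by decide +kernel) :
    Commute (lam (dec F u)) (lam (dec F v)) := by
  simp only [Bool.and_eq_true, beq_iff_eq] at k
  exact (h.commute_iff (iso_ok k.1.1) (iso_ok k.1.2)).2 (hd0 k.2)

theorem n (h : UK lam E) (u v : ℕ) (k : (okc u && okc v && hc u v != 0) = true := by decide +kernel) :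
    ¬ Commute (lam (dec F u)) (lam (dec F v)) := by
  simp only [Bool.and_eq_true, bne_iff_ne] at k
  exact mt (h.commute_iff (iso_ok k.1.1) (iso_ok k.1.2)).1 (hd1 k.2)

theorem b (h : UK lam E) (u v : ℕ) (k : (okc u && okc v && hc u v != 0) = true := by decide +kernel) :
    Br (lam (dec F u)) (lam (dec F v)) := by
  have k' := k
  simp only [Bool.and_eq_true] at k'
  exact (h.wt.br _ (h.m u k'.1.1) _ (h.m v k'.1.2)).resolve_left (h.n u v k)

theorem t (h : UK lam E) (y v w : ℕ) (k : (okc y && okc v && tc y v == w) = true := by decide +kernel) :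
    lam (dec F w) = lam (dec F y) * lam (dec F v) * lam (dec F y) := by
  simp only [Bool.and_eq_true, beq_iff_eq] at k
  rw [← k.2, dec_tc, h.tv _ _ (iso_ok k.1.1) (iso_ok k.1.2)]

theorem s (h : UK lam E) (u : ℕ) (k : okc u = true := by decide +kernel) : lam (dec F u) * lam (dec F u) = 1 :=
  h.wt.sq _ (h.m u k)

/-- The product of four points of a line is a square. -/
theorem root4 (h : UK lam E) : ∃ y, (∀ p, (∀ x ∈ E, Commute p x) ∨ p = lam (dec F 3) ∨ p = lam (dec F 60) →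
    Commute y p) ∧ y * y = lam (dec F 12) * (lam (dec F 15) * (lam (dec F 204) * lam (dec F 207))) := by
  have e := id_d4_root (h.s 12) (h.s 15) (h.s 204) (h.s 20) (h.c 12 15) (h.c 12 204) (h.c 15 204) (h.b 12 20)
    (h.b 15 20) (h.b 204 20)
  refine ⟨lam (dec F 12) * lam (dec F 15) * lam (dec F 20) * lam (dec F 12) * lam (dec F 204) * lam (dec F 20),
    fun p hp => ?_, ?_⟩
  · have : ∀ u ∈ [12, 15, 204, 20], Commute (lam (dec F u)) p := fun u hu => by
      rcases hp with hp | rfl | rfl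
      exacts [(hp _ (h.m u (by revert u; decide +kernel))).symm, h.c u 3 (by revert u; decide +kernel),
        h.c u 60 (by revert u; decide +kernel)]
    simp only [List.forall_mem_cons] at this
    obtain ⟨a, b, c, d, -⟩ := this
    exact ((((a.mul_left b).mul_left d).mul_left a).mul_left c).mul_left d
  · rw [h.t 20 219 207, h.t 12 215 219, h.t 15 216 215, h.t 204 20 216]
    simpa only [mul_assoc] using e

theorem root (h : UK lam E) {x y : G} (hx : x ∈ E) (hy : y ∈ Dd E x) : ∃ r ∈ closure E, r * r = x * y := by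
  obtain ⟨k, hk, rfl, rfl⟩ := h.pair hx hy
  have m := fun u k => (Subgroup.subset_closure (h.m u k) : _ ∈ closure E)
  have e := id_s4_root (h.s 3) (h.s 5) (h.s 12) (h.c 3 12) (h.b 3 5) (h.b 12 5)
  refine ⟨k * (lam (dec F 3) * lam (dec F 5) * lam (dec F 3) * lam (dec F 12) * lam (dec F 5)) * k⁻¹,
    mul_mem (mul_mem hk (mul_mem (mul_mem (mul_mem (mul_mem (m 3 rfl) (m 5 rfl)) (m 3 rfl)) (m 12 rfl)) (m 5 rfl)))
      (inv_mem hk), ?_⟩
  rw [conj_mul, conj_mul, ← e]; simp only [mul_assoc]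

/-- The relation on a line. -/
theorem line (w : WT D) {l0 : List G} (h : UK lam (Dl D l0)) (h0 : CL D l0) {m : ℕ} (r : Rl D (l0.length + 5) m)
    (t : TrL D (l0.length + 2)) :
    l0.prod * lam (dec F 3) = lam (dec F 12) * (lam (dec F 15) * (lam (dec F 204) * lam (dec F 207))) := by
  have k : CL D (l0 ++ [3, 12].map fun u => lam (dec F u)) :=
    cl_append.2 ⟨h0, h.cl_codes (by decide) (by decide)⟩
  obtain ⟨l, k1, k2, k3⟩ := r.get w (l2 := []) (by simpa using k) (by simpa using t) (by simp) (by simp)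
  rw [List.append_nil] at k1
  have k4 := h.cl_codes (L := [15, 204, 207]) (by decide) (by decide)
  have e : l.length = 3 := by simp at k2; omega
  have p := (List.perm_ext_iff_of_nodup k1.1 k4.1).2 (CL.mem_of_sub k1.1 (fun x hx => by
    have := (k.cent_of_prod w k1.of_dl e.le k3 x hx).resolve_left (k1.2.1 x hx).2.1
    rw [Dl_append] at this
    obtain ⟨u, hu, rfl⟩ := h.cent_pair this.1 this.2
    exact List.mem_map.2 ⟨u, hu, rfl⟩) (by simp [e]))
  rw [k1.prod_perm p] at k3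
  simp only [List.prod_append, List.map_cons, List.map_nil, List.prod_cons, List.prod_nil, mul_one] at k3
  rw [← k3, (h.c 3 12).eq, ← mul_assoc, ← mul_assoc, 
    (CL.comm_prod fun a ha => ((h.m 12).2.2 a ha).symm).eq, mul_assoc l0.prod, h.s 12, mul_one]

/-- A witness of non-collinearity. -/
theorem dl_of (h : UK lam E) (u v w e : ℕ) (k : (okc u && okc v && okc w && okc e && hc u e == 0 && hc v e == 0 &&
    hc u w == 0 && hc v w == 0 && hc e w != 0) = true := by decide +kernel) :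
    lam (dec F e) ∈ Dl E [lam (dec F u), lam (dec F v)] ∧ ¬ Commute (lam (dec F e)) (lam (dec F w)) := by
  simp only [Bool.and_eq_true, beq_iff_eq, bne_iff_ne] at k
  obtain ⟨⟨⟨⟨⟨⟨⟨⟨k1, k2⟩, k3⟩, k4⟩, k5⟩, k6⟩, k7⟩, k8⟩, k9⟩ := k
  have n := h.n e w (by simp [*])
  refine ⟨⟨h.m e k4, ?_, by simpa using And.intro (h.c u e (by simp [*])) (h.c v e (by simp [*]))⟩, n⟩
  simp only [List.mem_cons, List.not_mem_nil, or_false]
  rintro (e | e) <;> rw [e] at n
  exacts [n (h.c u w (by simp [*])), n (h.c v w (by simp [*]))]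

end UK
end uk

theorem KU.dom (h : KU E) {X : Set G} (hX : H1 E X) (hne : X.Nonempty) {v : G} (hv : v ∈ E) :
    ∃ p ∈ X, Commute p v := by
  obtain ⟨lam, h⟩ := h
  obtain ⟨lam, h, e⟩ := h.normalize hX hne
  obtain ⟨v, hi, rfl⟩ := h.surj v hv
  obtain ⟨u, hu, rfl⟩ := exists_dec v
  have := allN_spec dom_chk u hu
  rw [(iso_dec hu).1 hi, iteB_true, List.any_eq_true] at this
  obtain ⟨p, hp, k⟩ := this
  have i : p < 4096 ∧ isoc p = true ∧ X0.testBit p = true := by clear k; revert p; decide +kernel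
  exact ⟨_, (e p i.1 i.2.1).2 i.2.2,
    (h.commute_iff ((iso_dec i.1).2 i.2.1) hi).2 (hd0 (Nat.eq_of_beq_eq_true k))⟩

theorem KU.root (h : KU E) {x y : G} (hx : x ∈ E) (hy : y ∈ Dd E x) : ∃ r ∈ closure E, r * r = x * y :=
  h.elim fun _ h => h.root hx hy

open F22 Cfsg.Agent.Spor.Fi22M in
theorem F22.dom {X : Set Cfsg.Spor.Fi22} (h1 : X ⊆ D22) (h2 : ∀ x ∈ X, ∀ y ∈ X, x * y * x ∈ X)
    (h : ∀ x < 9, x ≠ 6 → g x ∈ X) {v : Cfsg.Spor.Fi22} (hv : v ∈ D22) : ∃ p ∈ X, Commute p v := by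
  obtain ⟨q, hq, rfl⟩ := cm.exists_tp hv
  have hw : ∀ w ∈ sing [0, 1, 2, 3, 4, 5, 7, 8], Spor.ev g w ∈ X := fun w hw => by
    obtain ⟨x, hx, rfl⟩ := List.mem_map.1 hw
    simpa using h x (by revert x; decide) (by revert x; decide)
  have key : ∀ {c A}, c < 3510 → OrbSub (genW (PP JFi22a.nets) (sing [0, 1, 2, 3, 4, 5, 7, 8])) c A →
      Commute (g 0) (T c) → A.testBit q = true → ∃ p ∈ X, Commute p (T q) := fun hc ho h0 hA =>
    cm.sub_of_orb (by decide) hc ho (X := {v | ∃ p ∈ X, Commute p v}) (fun w k => wt.sq _ (h1 (hw w k)))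
      (fun w k y ⟨p, hp, c⟩ => ⟨_, h2 _ (hw w k) p hp, by
        simpa only [wt.inv (h1 (hw w k))] using (commute_conj_iff (Spor.ev g w)).2 c⟩)
      ⟨_, h 0 (by decide) (by decide), h0⟩ hA
  by_cases e : XA.testBit q = true
  · exact key (c := 3488) (by decide) ((orbSub_base _ _).run JFi22a.ok (prog := [1, 0, 2, 3, 1, 4, 6, 5, 7, 3, 2,
      4, 6, 3, 1, 2, 4, 6, 5, 7, 1, 3, 0, 4, 5]) (by decide +kernel)) (t0 ▸ Commute.refl _) e
  · refine key (c := 3494) (by decide) ((orbSub_base _ _).run JFi22a.ok (prog := [5, 4, 3, 2, 6, 1, 7, 3, 0, 4, 2,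
      5, 6, 3, 1, 4, 6, 2, 7, 3, 1, 5, 0, 6, 2, 4, 7, 3, 5, 1, 2, 6, 4, 1, 0, 3, 4, 1])
      (A' := Nat.xor XA (ivl 0 3510)) (by decide +kernel)) (t6 ▸ (comm' (by decide) (by decide)).2 rfl) ?_
    change (XA ^^^ ivl 0 3510).testBit q = true
    rw [Nat.testBit_xor, ivl_testBit]; simpa [e] using hq

theorem K22.dom (h : K22 E) {X : Set G} (hX : H2 E X) {x : G} (hx : x ∈ X) (hne : (Dd X x).Nonempty) {v : G}
    (hv : v ∈ E) : ∃ p ∈ X, Commute p v := by
  obtain ⟨f, k⟩ := h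
  obtain ⟨x, hx', rfl⟩ := k.surj (hX.sub hx)
  obtain ⟨y, hy⟩ := hne
  obtain ⟨y, hy', rfl⟩ := k.surj (hX.sub hy.1)
  obtain ⟨β, k', e⟩ := F22.norm22 (k.h2 hX) ⟨hx', hx⟩
    ⟨y, ⟨hy', hy.1⟩, fun e => hy.2.1 (e ▸ rfl), (k.commute_iff hx' hy').1 hy.2.2⟩
  have k2 := k.comp k'
  obtain ⟨v, hv', rfl⟩ := k2.surj hv
  obtain ⟨p, hp, c⟩ := F22.dom Set.inter_subset_left (k2.conj_pre hX.conj)
    (fun x hx n => ⟨F22.g_mem hx, ((e x hx).2 n).2⟩) hv'
  exact ⟨_, hp.2, (k2.commute_iff hp.1 hv').2 c⟩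

theorem K22.root (h : K22 S) {x y : G} (hx : x ∈ S) (hy : y ∈ Dd S x) : ∃ r ∈ closure S, r * r = x * y := by
  obtain ⟨z, hz⟩ : (Dl S [x, y]).Nonempty := Set.nonempty_of_ncard_ne_zero (by
    rw [h.ncL2 _ (cl_two hx hy.1 hy.2.1.symm hy.2.2) rfl]; decide)
  simp only [Dl, List.mem_cons, List.not_mem_nil, or_false, not_or, forall_eq_or_imp, forall_eq] at hz
  obtain ⟨r, hr, e⟩ := (h.loc z hz.1).root (x := x) (y := y) ⟨hx, Ne.symm hz.2.1.1, hz.2.2.1.symm⟩
    ⟨⟨hy.1, Ne.symm hz.2.1.2, hz.2.2.2.symm⟩, hy.2⟩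
  exact ⟨r, closure_mono (fun _ h => h.1) hr, e⟩

theorem CL.sublist {l l' : List G} (h : CL S l) (k : l'.Sublist l) : CL S l' :=
  h.sub (h.1.sublist k) fun _ m => k.subset m

theorem TrL.root {k : ℕ} (t : TrL S k) {l l' : List G} (h : CL S l) (h' : CL S l') (e : l.length = k)
    (e' : l'.length = k) (j : ℕ) {y : G} (c : ∀ a ∈ l, Commute y a) (s : y * y = (l.drop j).prod) :
    ∃ y, (∀ a ∈ l', Commute y a) ∧ y * y = (l'.drop j).prod := by
  obtain ⟨g, -, rfl⟩ := t l l' h h' e e'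
  refine ⟨g * y * g⁻¹, by simpa only [List.forall_mem_map, commute_conj_iff] using c, ?_⟩
  rw [← List.map_drop, prod_map_conj, conj_mul, s]

/-- Squares in the centraliser of `d`. -/
def SqC (d t : G) : Prop := ∃ y, Commute y d ∧ y * y = t

variable [Finite G]

theorem B23.root (h : B23 D) {z a b c : G} (k : CL D [z, a, b, c]) :
    ∃ y, (∀ x ∈ [z, a, b, c], Commute y x) ∧ y * y = a * (b * c) := by
  have k2 : CL D [a, b] := (k.sublist (by simp))
  obtain ⟨lam, u⟩ := (h.cz2 k2).2.2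
  have e := u.line h.fl.wt k2 h.rl7 (h.k.trA 4 le_rfl)
  obtain ⟨y, c, s⟩ := u.root4
  have k4 : CL D ([a, b] ++ [3, 60].map fun u => lam (dec F4 u)) :=
    cl_append.2 ⟨k2, u.cl_codes (by decide) (by decide)⟩
  simpa using (h.k.trA 4 le_rfl).root (l := [lam (dec F4 60), a, b, lam (dec F4 3)]) (k4.perm (by
    simpa using (List.perm_append_comm (l₁ := [a, b, _]) (l₂ := [_])))) k rfl rfl 1 (y := y) (by
      simp only [List.forall_mem_cons]
      exact ⟨c _ (by simp), c _ (.inl fun x hx => hx.2.2 _ (by simp)), c _ (.inl fun x hx => hx.2.2 _ (by simp)),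
        c _ (by simp), by simp⟩) (by rw [s, ← e]; simp [mul_assoc])

theorem B22.root1 (h : B22 D) {d a : G} (k : CL D [d, a]) : SqC d (d * a) := by
  have k1 : CL D [d] := k.sub (by simp) (by simp)
  obtain ⟨lam, u⟩ := h.k.loc d (k.2.1 d (by simp))
  rw [← Dl_one] at u
  have e := u.line h.fl.wt k1 h.rl6 (h.k.trA 3 le_rfl)
  obtain ⟨y, c, s⟩ := u.root4
  obtain ⟨y, c, s⟩ := (h.k.trA 2 (by decide)).root (l := [d] ++ [3].map fun u => lam (dec F4 u))
    (cl_append.2 ⟨k1, u.cl_codes (by decide) (by decide)⟩) k rfl rfl 0 (y := y) (by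
      simpa using And.intro (c _ (.inl fun x hx => hx.2.2 _ (by simp))) (c _ (by simp))) (by rw [s, ← e]; simp)
  exact ⟨y, c d (by simp), by simpa using s⟩

theorem B22.root2 (h : B22 D) {d a b : G} (k : CL D [d, a, b]) : SqC d (d * (a * b)) := by
  obtain ⟨f, hf⟩ := h.k
  obtain ⟨f, hf, -⟩ := hf.symm
  have ν := F23.kν.comp hf
  obtain ⟨π, -, -, e⟩ := ν.exists_quot h.fl.tg.2.2 h.fl.z
  obtain ⟨y, c, s⟩ := F23.b.root (cl_cons.2 ⟨F23.z_mem, ν.cl k⟩)
  have m := (F23.fl.mem_cen F23.z_mem).2 (c _ (by simp))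
  have m1 := k.2.1 d (by simp)
  have m2 := k.2.1 a (by simp)
  have m3 := k.2.1 b (by simp)
  refine ⟨π ⟨y, m⟩, ?_, ?_⟩
  · rw [← e d m1]; exact Commute.map (Subtype.ext (c (F23.ν (f d)) (by simp)).eq) π
  · rw [← e d m1, ← e a m2, ← e b m3, ← map_mul, ← map_mul, ← map_mul]; exact congrArg π (Subtype.ext s)

omit [Finite G] in
theorem prod_map_eq {f : ℕ → G} {B : List ℕ} (hc : ∀ u ∈ B, ∀ v ∈ B, Commute (f u) (f v))
    (hs : ∀ u ∈ B, f u * f u = 1) (L L' M : List ℕ)
    (k : (∀ u ∈ L, u ∈ B) ∧ (∀ u ∈ M, u ∈ B) ∧ L.Perm (L' ++ M.flatMap fun u => [u, u])) :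
    (L.map f).prod = (L'.map f).prod := by
  rw [(k.2.2.map f).prod_eq' (List.pairwise_map.2 (List.pairwise_of_forall_mem_list fun u hu v hv =>
    hc u (k.1 u hu) v (k.1 v hv))), List.map_append, List.prod_append, mul_eq_left]
  have := k.2.1
  clear k
  induction M with
  | nil => rfl
  | cons a M ih =>
    simp only [List.flatMap_cons, List.map_append, List.prod_append, ih fun u hu => this u (.tail _ hu)]
    simpa using hs a (this a (.head _))

/-- Products of non-collinear triples in the perp of `d`. -/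
def NCol (D : Set G) (d t : G) : Prop :=
  (∃ l, CL (Dd D d) l ∧ l.length = 3 ∧ l.prod = t) ∧ ∀ x y, CL (Dd D d) [x, y] → t ≠ d * (x * y)

theorem FL.sq_one (h : FL D) {k : ℕ} {d t : G} (hd : d ∈ D) (i : InvP (Dd D d) k) (c : Commute t d)
    (e : t * t = 1 ∨ t * t = d) : t * t = 1 := by
  obtain ⟨l, h1, -, h3⟩ := i t ((h.mem_cen hd).2 c) fun x hx => by
    rcases e with e | e <;> rw [e]
    exacts [Commute.one_left x, hx.2.2]
  have s := h1.prod_sq (h.wt.dd d)
  have c' := closure_Dd_commute h1.prod_mem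
  obtain e | e := h.zen hd (c.mul_left c') h3
  · rw [eq_inv_of_mul_eq_one_left e, inv_eq_of_sq s, s]
  · rw [eq_mul_inv_of_mul_eq e, inv_eq_of_sq s, mul_assoc, ← mul_assoc l.prod, c'.eq, mul_assoc, s, mul_one,
      h.wt.sq d hd]

namespace B22
variable {d : G}

theorem ncol (h : B22 D) (hd : d ∈ D) {a b c e : G} (k : CL (Dd D d) [a, b, c]) (he : e ∈ Dl (Dd D d) [a, b])
    (n : ¬ Commute e c) : NCol D d (a * (b * c)) := by
  have w := h.fl.wt
  refine ⟨⟨_, k, rfl, by simp⟩, fun x y k' E => n ?_⟩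
  have k1 : CL D [d, x, y] := cl_cons.2 ⟨hd, k'⟩
  have k2 : CL D [d, a, b, c] := cl_cons.2 ⟨hd, k⟩
  have mc := k2.2.1 c (by simp)
  have cc := k1.comm_of_prod w le_rfl mc (by
    simp only [List.prod_cons, List.prod_nil, mul_one, ← E]
    exact (k.2.2 c (by simp) a (by simp)).mul_right ((k.2.2 c (by simp) b (by simp)).mul_right (.refl c)))
  obtain ⟨l, l1, l2, l3, l4⟩ := w.exists_cl (l := [c, x, y])
    (by simpa using ⟨mc, k1.2.1 x (by simp), k1.2.1 y (by simp)⟩) (by
      have := cc x (by simp); have := cc y (by simp); have := k'.2.2 x (by simp) y (by simp)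
      simp only [List.forall_mem_cons]; simp [Commute.refl, *, Commute.symm_iff (a := x) (b := c),
        Commute.symm_iff (a := y) (b := c), Commute.symm_iff (a := y) (b := x)])
  have E' : l.prod = [d, a, b].prod := by
    rw [l4]
    simp only [List.prod_cons, List.prod_nil, mul_one]
    calc _ = c * (d * (d * (x * y))) := by rw [← mul_assoc d, w.sq d hd, one_mul]
      _ = _ := by
        rw [← E, ← mul_assoc a, ← mul_assoc d, ((cc d (by simp)).mul_right ((k.2.2 c (by simp) a (by simp)).mul_right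
          (k.2.2 c (by simp) b (by simp)))).left_comm, w.sq c mc, mul_one]
  have e3 := l1.length_eq w (k := 1) h.k.noCL (k2.sublist (by simp)) l2 le_rfl (.inl le_rfl) E'
  refine l1.comm_of_prod w l2 he.1.1 (E' ▸ CL.comm_prod ?_) c ((CL.mem_of_sub l1.1 l3 e3.ge c).2 (by simp))
  simpa using ⟨he.1.2.2.symm, (he.2.2 a (by simp)).symm, (he.2.2 b (by simp)).symm⟩

theorem ncol_mul (h : B22 D) (hd : d ∈ D) {t : G} (k : NCol D d t) : NCol D d (d * t) := by
  classical
  have w := h.fl.wt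
  obtain ⟨⟨l, k1, k2, rfl⟩, k3⟩ := k
  have k0 : CL D (d :: l) := cl_cons.2 ⟨hd, k1⟩
  have le := fun {r r' : List G} (a : CL D r) (b : CL D r') c d => a.length_eq w (k := 1) h.k.noCL b c d (.inl le_rfl)
  obtain ⟨r, r1, r2, r3⟩ := h.red _ k0 (by simp [k2])
  rw [List.prod_cons] at r3
  have n : d ∉ r := fun m => by
    obtain ⟨a1, a2, a3⟩ := r1.erase m
    have := le a1 (k0.sublist (List.sublist_cons_self _ _)) (by omega) k2.le (mul_left_cancel (a2 ▸ r3))
    omega
  have r4 : CL (Dd D d) r := r1.mono fun a ha => ⟨r1.2.1 a ha, fun e => n (e ▸ ha),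
    r1.comm_of_prod w r2 hd (r3 ▸ (Commute.refl d).mul_right (closure_Dd_commute k1.prod_mem).symm) a ha⟩
  have e : l.prod = (d :: r).prod := by rw [List.prod_cons, r3, ← mul_assoc, w.sq d hd, one_mul]
  refine ⟨⟨r, r4, ?_, r3⟩, fun x y k' E => ?_⟩
  · by_contra n3
    have := le (k0.sublist (List.sublist_cons_self _ _)) (cl_cons.2 ⟨hd, r4⟩) k2.le (by simp; omega) e
    obtain ⟨x, y, rfl⟩ := List.length_eq_two.1 (show r.length = 2 by simp at this; omega)
    exact k3 x y r4 (by simpa using e)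
  · have := le (k0.sublist (List.sublist_cons_self _ _)) (k'.mono fun a ha => (k'.2.1 a ha).1) k2.le (by simp)
      (by simpa using E)
    simp [k2] at this

theorem ncol_all (h : B22 D) (hd : d ∈ D) : (∃ t0, ∀ t, NCol D d t → ∃ k, Commute k d ∧ k * t0 * k⁻¹ = t) ∧
    ∃ t y y', NCol D d t ∧ NCol D d y ∧ NCol D d y' ∧ NCol D d (y * y') ∧ Commute t y ∧ Commute t y' ∧
      Commute y y' ∧ y ≠ t ∧ y' ≠ t ∧ SqC d (t * y) ∧ SqC d (t * y') := by
  have w := h.fl.wt
  obtain ⟨lam, u⟩ := h.k.loc d hd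
  let f : ℕ → G := fun v => if v = 0 then d else lam (dec F4 v)
  have cl : ∀ {L : List ℕ}, L.Nodup → (∀ v ∈ L, v ∈ B21) → CL (Dd D d) (L.map f) := fun n hL => by
    rw [List.map_congr_left (g := fun v => lam (dec F4 v)) fun v hv =>
      if_neg fun e => absurd (e ▸ hL v hv) (by decide)]
    exact u.cl_codes n hL
  have cb : CL D ((0 :: B21).map f) := cl_cons.2 ⟨hd, cl (by decide) fun _ h => h⟩
  have pe := prod_map_eq (f := f) (B := 0 :: B21)
    (fun a ha b hb => cb.2.2 _ (List.mem_map_of_mem ha) _ (List.mem_map_of_mem hb))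
    fun a ha => w.sq _ (cb.2.1 _ (List.mem_map_of_mem ha))
  have cm : ∀ L L' : List ℕ, (∀ v ∈ L ++ L', v ∈ 0 :: B21) → Commute (L.map f).prod (L'.map f).prod :=
    fun L L' k => CL.comm_prod fun a ha => (CL.comm_prod fun b hb => cb.2.2 _
      (List.map_subset f (fun v hv => k v (by simp [hv])) ha) _
      (List.map_subset f (fun v hv => k v (by simp [hv])) hb)).symm
  have e : ([0, 3].map f).prod = ([12, 15, 204, 207].map f).prod := by
    have := (Dl_one D d ▸ u).line w (cb.sublist (l' := [d]) (by simp [f])) h.rl6 (h.k.trA 3 le_rfl)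
    simpa [f] using this
  have e1 : ([0, 3, 12, 15, 204, 207].map f).prod = 1 := by
    rw [show [0, 3, 12, 15, 204, 207] = [0, 3] ++ [12, 15, 204, 207] from rfl, List.map_append, List.prod_append, e,
      ← List.prod_append, ← List.map_append, pe _ [] [12, 15, 204, 207] (by decide)]; rfl
  have pr : ∀ L L' M : List ℕ, (∀ u ∈ L ++ [0, 3, 12, 15, 204, 207], u ∈ 0 :: B21) ∧ (∀ u ∈ M, u ∈ 0 :: B21) ∧
      (L ++ [0, 3, 12, 15, 204, 207]).Perm (L' ++ M.flatMap fun u => [u, u]) →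
      (L.map f).prod = (L'.map f).prod := fun L L' M k => by
    rw [← pe _ L' M k, List.map_append, List.prod_append, e1, mul_one]
  have nc : ∀ a b c e, [a, b, c].Nodup → (∀ v ∈ [a, b, c], v ∈ B21) → _ → NCol D d ([a, b, c].map f).prod :=
    fun a b c e n hL k => by
      have := h.ncol hd (u.cl_codes n hL) (u.dl_of a b c e k).1 (u.dl_of a b c e k).2
      have n0 : ∀ v ∈ [a, b, c], v ≠ 0 := fun v hv e => absurd (e ▸ hL v hv) (by decide)
      simpa [f, n0 a, n0 b, n0 c] using this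
  have sq : ∀ a b, [a, b].Nodup → (∀ v ∈ [a, b], v ∈ B21) → SqC d ([a, b].map f).prod := fun a b n hL => by
    obtain ⟨r, hr, e⟩ := u.root (cl_cons.1 (cl n hL)).1 ((cl_cons.1 (cl n hL)).2.2.1 (f b) (by simp))
    exact ⟨r, closure_Dd_commute hr, by simpa using e⟩
  have mu : ∀ L L' : List ℕ, (L.map f).prod * (L'.map f).prod = ((L ++ L').map f).prod := by simp
  have ne : ∀ L L' M : List ℕ, M.Nodup → (∀ v ∈ M, v ∈ B21) → M.length = 2 → (∀ v ∈ L, v ∈ 0 :: B21) →
      (L.map f).prod * (L'.map f).prod = (M.map f).prod → (L'.map f).prod ≠ (L.map f).prod := fun L L' M n hM e2 hL e E =>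
    ((cl n hM).mono fun a ha => ((cl n hM).2.1 a ha).1).prod_ne_one w h.k.noCL.noC (by simp [e2])
      (by rintro e; simp_all) (by
        rw [← e, E, mu, pe _ [] L ⟨by simpa using hL, hL, by simpa using (List.flatMap_append_perm L (fun u => [u])
          fun u => [u])⟩]; rfl)
  have p1 := (mu [48, 3, 12] [48, 3, 60]).trans (pe _ [12, 60] [48, 3] (by decide))
  have p2 := (mu [48, 3, 12] [48, 15, 12]).trans (pe _ [3, 15] [48, 12] (by decide))
  refine ⟨⟨([3, 12, 48].map f).prod, ?_⟩, _, _, _, nc 48 3 12 264 (by decide) (by decide) (by decide +kernel),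
    nc 48 3 60 264 (by decide) (by decide) (by decide +kernel),
    nc 48 15 12 5 (by decide) (by decide) (by decide +kernel), ?_, cm _ _ (by decide), cm _ _ (by decide),
    cm _ _ (by decide), ne _ _ _ (by decide) (by decide) rfl (by decide) p1,
    ne _ _ _ (by decide) (by decide) rfl (by decide) p2, p1 ▸ sq _ _ (by decide) (by decide),
    p2 ▸ sq _ _ (by decide) (by decide)⟩
  · rintro _ ⟨⟨l, k1, k2, rfl⟩, k3⟩
    obtain ⟨a, b, c, rfl⟩ := List.length_eq_three.1 k2
    obtain ⟨k, hk, rfl, rfl⟩ := u.pair (cl_cons.1 k1).1 ((cl_cons.1 k1).2.2.1 b (by simp))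
    obtain ⟨c, rfl⟩ : ∃ c', c = k * c' * k⁻¹ := ⟨k⁻¹ * c * k, by group⟩
    have ck := closure_Dd_commute hk
    have k4 : CL (Dd D d) [lam (dec F4 3), lam (dec F4 12), c] := by
      simpa [mul_assoc] using k1.conj (w.dd d) (inv_mem hk)
    have col : ∀ v a b, [a, b].Nodup → (∀ v ∈ [a, b], v ∈ B21) → v ≠ 0 → c = lam (dec F4 v) →
        ([3, 12, v].map f).prod ≠ ([0, a, b].map f).prod := fun v a b n hL n0 E E' =>
      k3 _ _ ((cl n hL).conj (w.dd d) hk) (by
        simp only [List.map_cons, List.map_nil, List.prod_cons, List.prod_nil, mul_one, f, n0, ← E, if_true,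
          if_false, OfNat.ofNat_ne_zero] at E' ⊢
        rw [conj_mul, conj_mul, conj_mul, E', ← conj_mul, conj_eq_of_commute ck])
    rcases u.third (k4.2.1 c (by simp)) (k4.2.2 _ (by simp) _ (by simp)) (k4.2.2 _ (by simp) _ (by simp)) with
      ⟨v, hv, E⟩ | ⟨k', hk', e1, e2, rfl⟩
    · have n := k4.1
      obtain rfl | rfl | rfl | rfl | rfl : v = 3 ∨ v = 12 ∨ v = 15 ∨ v = 204 ∨ v = 207 := by simpa [B21] using hv
      · simp [E] at n
      · simp [E] at n
      · exact absurd (pr _ _ [3, 12, 15] (by decide)) (col _ 204 207 (by decide) (by decide) (by decide) E)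
      · exact absurd (pr _ _ [3, 12, 204] (by decide)) (col _ 15 207 (by decide) (by decide) (by decide) E)
      · exact absurd (pr _ _ [3, 12, 207] (by decide)) (col _ 15 204 (by decide) (by decide) (by decide) E)
    · refine ⟨k * k', ck.mul_left (closure_Dd_commute hk'), ?_⟩
      rw [← e1, ← e2]; simp [f, mul_assoc]
  · rw [mu, pr _ ([0] ++ [204, 207, 60]) [48, 3, 12, 15] (by decide), ← mu]
    simpa [f] using h.ncol_mul hd (nc 204 207 60 1056 (by decide) (by decide) (by decide +kernel))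

theorem sq_two (h : B22 D) (hd : d ∈ D) {x y : G} (hx : x ∈ Dd D d) (hy : y ∈ Dd D d) (c : Commute x y) :
    SqC d (x * y) := by
  by_cases e : y = x
  · exact ⟨1, Commute.one_left d, by rw [e, h.fl.wt.sq x hx.1, mul_one]⟩
  obtain ⟨r, hr, e⟩ := (h.k.loc d hd).root hx ⟨hy, e, c⟩
  exact ⟨r, closure_Dd_commute hr, e⟩

theorem loc_inv (h : B22 D) (hd : d ∈ D) {t : G} (ht : t * t = 1) (c : Commute t d) :
    t = d ∨ t ∈ Dd D d ∨ SqC d t ∨ NCol D d t := by
  have key : ∀ l, CL (Dd D d) l → l.length = 3 → SqC d l.prod ∨ NCol D d l.prod := fun l h1 h2 => by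
    refine or_iff_not_imp_right.2 fun n => ?_
    simp only [NCol, not_and, not_forall, not_not] at n
    obtain ⟨x, y, k, e⟩ := n ⟨l, h1, h2, rfl⟩
    exact e ▸ h.root2 (cl_cons.2 ⟨hd, k⟩)
  obtain ⟨l, h1, h2, e⟩ := h.fl.inv_succ (fun a ha => let ⟨_, u⟩ := h.k.loc a ha; u.invP) ht hd c
  rcases l with _ | ⟨x, _ | ⟨y, _ | ⟨z, _ | _⟩⟩⟩ <;> rcases e with rfl | rfl
  · exact .inr (.inr (.inl ⟨1, Commute.one_left d, by simp⟩))
  · simp
  · exact .inr (.inl (by simpa using h1.2.1))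
  · exact .inr (.inr (.inl (by simpa using h.root1 (cl_cons.2 ⟨hd, h1⟩))))
  · exact .inr (.inr (.inl (by
      simpa using h.sq_two hd (h1.2.1 x (by simp)) (h1.2.1 y (by simp)) (h1.2.2 x (by simp) y (by simp)))))
  · exact .inr (.inr (.inl (by simpa using h.root2 (cl_cons.2 ⟨hd, h1⟩))))
  · exact .inr (.inr (key _ h1 rfl))
  · by_cases n : NCol D d [x, y, z].prod
    · exact .inr (.inr (.inr (h.ncol_mul hd n)))
    simp only [NCol, not_and, not_forall, not_not] at n
    obtain ⟨a, b, k, e⟩ := n ⟨_, h1, rfl, rfl⟩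
    rw [e, ← mul_assoc, h.fl.wt.sq d hd, one_mul]
    exact .inr (.inr (.inl (h.sq_two hd (k.2.1 a (by simp)) (k.2.1 b (by simp)) (k.2.2 a (by simp) b (by simp)))))
  all_goals simp at h2; omega

end B22

namespace B23
variable {d : G}

theorem sq_two (h : B23 D) (hd : d ∈ D) {x y : G} (hx : x ∈ Dd D d) (hy : y ∈ Dd D d) (c : Commute x y) :
    SqC d (x * y) := by
  by_cases e : y = x
  · exact ⟨1, Commute.one_left d, by rw [e, h.fl.wt.sq x hx.1, mul_one]⟩
  obtain ⟨r, hr, e⟩ := (h.k.loc d hd).root hx ⟨hy, e, c⟩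
  exact ⟨r, closure_Dd_commute hr, e⟩

theorem loc_inv (h : B23 D) (hd : d ∈ D) {t : G} (ht : t * t = 1) (c : Commute t d) :
    t = d ∨ t ∈ Dd D d ∨ t * d ∈ Dd D d ∨ SqC d t := by
  have w := h.fl.wt
  have key : ∀ l, CL (Dd D d) l → l.length = 3 → SqC d l.prod := fun l h1 h2 => by
    obtain ⟨a, b, c, rfl⟩ := List.length_eq_three.1 h2
    obtain ⟨y, c, s⟩ := h.root (cl_cons.2 ⟨hd, h1⟩)
    exact ⟨y, c d (by simp), by simpa using s⟩
  obtain ⟨l, h1, h2, e⟩ := h.fl.inv_succ (fun a ha => (h.k.loc a ha).invP) ht hd c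
  have h0 : CL D (d :: l) := cl_cons.2 ⟨hd, h1⟩
  rcases l with _ | ⟨x, _ | ⟨y, _ | ⟨z, _ | _⟩⟩⟩ <;> rcases e with rfl | rfl
  · exact .inr (.inr (.inr ⟨1, Commute.one_left d, by simp⟩))
  · simp
  · exact .inr (.inl (by simpa using h1.2.1))
  · refine .inr (.inr (.inl ?_))
    rw [c.eq, ← mul_assoc, w.sq d hd]; simpa using h1.2.1
  · exact .inr (.inr (.inr (by
      simpa using h.sq_two hd (h1.2.1 x (by simp)) (h1.2.1 y (by simp)) (h1.2.2 x (by simp) y (by simp)))))
  · obtain ⟨r, r1, r2, -⟩ := h.rl7.get w (l1 := [d, x, y]) (l2 := []) h0 (h.k.trA 3 (by decide)) (by simp) (by simp)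
    obtain ⟨z, r, rfl⟩ := List.exists_cons_of_length_pos (l := r) (by simp at r2; omega)
    obtain ⟨y, c, s⟩ := h.root (cl_cons'.2 ⟨h0, by simpa using r1.2.1 z (by simp)⟩)
    exact .inr (.inr (.inr ⟨y, c d (by simp), by simpa using s⟩))
  · exact .inr (.inr (.inr (key _ h1 rfl)))
  · obtain ⟨r, r1, r2, r3⟩ := h.rl7.get w (l1 := [d, x, y, z]) (l2 := []) h0 (h.k.trA 4 le_rfl) (by simp) (by simp)
    rw [List.append_nil, Dl_cons] at r1
    exact .inr (.inr (.inr ((show _ = d * _ from r3.symm) ▸ key r r1.of_dl (by simp at r2; omega))))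
  all_goals simp at h2; omega

end B23

end Cfsg.Agent.Fischer
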