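import Cfsg.Agent.Fischer.U6

/-! Hyperovals of the unitary polar space of `U₆(2)` (helper24): closed sets `KC`, the line rule, `HO`,
the certificate checker `hoRun`, `HO.extend` (six points determine the standard hyperoval `X0`),
`HO.classify`, transitivity lemmas `su_step1`, `su_step2`. -/

set_option maxRecDepth 100000
set_option exponentiation.threshold 100000

namespace Cfsg.Agent.Fischer

open Cfsg.Agent.Classical Cfsg.Agent.Spor

variable {F : Type*} [Field F] [Fintype F] [hF : Fact (Fintype.card F = 2 ^ 2)]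

/-- Sets of isotropic vectors closed under scalars and their own transvections. -/
structure KC (X : Set (Fin 6 → F)) : Prop where
  iso : ∀ v ∈ X, Iso v
  smul : ∀ c : F, c ≠ 0 → ∀ v ∈ X, c • v ∈ X
  tv : ∀ y ∈ X, ∀ v ∈ X, tv y v ∈ X

/-- Every totally isotropic line through a point of `X` has exactly one further point in `X`. -/
def LineX (X : Set (Fin 6 → F)) : Prop :=
  ∀ x ∈ X, ∀ v, Iso v → hf v x = 0 → (∀ c : F, v ≠ c • x) → ∃! c : F, v + c • x ∈ X

/-- Hyperovals. -/
structure HO (X : Set (Fin 6 → F)) : Prop extends KC X where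
  line : LineX X

theorem HO.comap {X : Set (Fin 6 → F)} (h : HO X) (g : GU 6 F 2) : HO {v | g • v ∈ X} where
  iso v hv := by simpa using (h.iso _ hv).gu g⁻¹
  smul c hc v hv := by rw [Set.mem_ofPred_eq, gu_smul_smul]; exact h.smul c hc _ hv
  tv y hy v hv := by rw [Set.mem_ofPred_eq, gu_tv]; exact h.tv _ hy _ hv
  line x hx v hv h0 hn := by
    have := h.line _ hx _ (hv.gu g) (by rwa [hf, herm_smul_smul]) fun c e => hn c (by
      rw [← gu_smul_smul] at e; exact smul_left_cancel g e)
    simpa only [Set.mem_ofPred_eq, smul_add, gu_smul_smul] using this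

theorem HO.comapS {X : Set (Fin 6 → F)} (h : HO X) (g : SU 6 F 2) : HO {v | g • v ∈ X} :=
  h.comap (suToGU 6 F 2 g)

/-- Bit test. -/
def tb (S i : ℕ) : Bool := Nat.beq (Nat.land (Nat.shiftRight S i) 1) 1

theorem tb_eq (S i : ℕ) : tb S i = S.testBit i := by
  have : tb S i = Nat.beq ((S >>> i) &&& 1) 1 := rfl
  rw [this, Nat.testBit, Nat.and_comm 1, Nat.and_one_is_mod]
  rcases Nat.mod_two_eq_zero_or_one (S >>> i) with h | h <;> rw [h] <;> rfl

/-- Insert the three multiples of `u` at offset `o`. -/
def ins (o u S : ℕ) : ℕ :=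
  Nat.lor (Nat.lor (Nat.lor S (Nat.shiftLeft 1 (Nat.add o u))) (Nat.shiftLeft 1 (Nat.add o (omc u))))
    (Nat.shiftLeft 1 (Nat.add o (omc (omc u))))

theorem ins_testBit {o u S i : ℕ} (h : (ins o u S).testBit i = true) :
    S.testBit i = true ∨ i = o + u ∨ i = o + omc u ∨ i = o + omc (omc u) := by
  have e : ins o u S = S ||| 1 <<< (o + u) ||| 1 <<< (o + omc u) ||| 1 <<< (o + omc (omc u)) := rfl
  simp only [e, Nat.testBit_or, Nat.one_shiftLeft, Nat.testBit_two_pow, Bool.or_eq_true,
    decide_eq_true_eq] at h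
  rcases h with ((h | h) | h) | h
  exacts [.inl h, .inr (.inl h.symm), .inr (.inr (.inl h.symm)), .inr (.inr (.inr h.symm))]

/-- The invariant of the checker. -/
def HInv (X : Set (Fin 6 → F)) (S : ℕ) : Prop :=
  ∀ u < 4096, (S.testBit u = true → dec F u ∈ X) ∧ (S.testBit (4096 + u) = true → dec F u ∉ X)

variable {X : Set (Fin 6 → F)}

theorem KC.om_mem (h : KC X) {u : ℕ} (hu : dec F u ∈ X) : dec F (omc u) ∈ X := by
  rw [dec_omc]; exact h.smul _ om_ne_zero _ hu

theorem KC.om_not_mem (h : KC X) {u : ℕ} (hu : dec F u ∉ X) : dec F (omc u) ∉ X := by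
  rw [dec_omc]; intro h1
  have := h.smul _ (inv_ne_zero om_ne_zero) _ h1
  rw [inv_smul_smul₀ om_ne_zero] at this
  exact hu this

theorem HInv.insI (h : KC X) {S u : ℕ} (hS : HInv X S) (hu : u < 4096) (hm : dec F u ∈ X) :
    HInv X (ins 0 u S) := by
  intro i hi
  have h1 := omc_lt u
  have h2 := omc_lt (omc u)
  refine ⟨fun hb => ?_, fun hb => ?_⟩
  · rcases ins_testBit hb with e | e | e | e
    · exact (hS i hi).1 e
    · rw [e, Nat.zero_add]; exact hm
    · rw [e, Nat.zero_add]; exact h.om_mem hm
    · rw [e, Nat.zero_add]; exact h.om_mem (h.om_mem hm)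
  · rcases ins_testBit hb with e | e | e | e
    · exact (hS i hi).2 e
    all_goals omega

theorem HInv.insO (h : KC X) {S u : ℕ} (hS : HInv X S) (hm : dec F u ∉ X) :
    HInv X (ins 4096 u S) := by
  intro i hi
  refine ⟨fun hb => ?_, fun hb => ?_⟩
  · rcases ins_testBit hb with e | e | e | e
    · exact (hS i hi).1 e
    all_goals omega
  · rcases ins_testBit hb with e | e | e | e
    · exact (hS i hi).2 e
    · rw [Nat.add_left_cancel e]; exact hm
    · rw [Nat.add_left_cancel e]; exact h.om_not_mem hm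
    · rw [Nat.add_left_cancel e]; exact h.om_not_mem (h.om_not_mem hm)

/-- One step of the checker. -/
noncomputable def hoStep (ho : Bool) (k y v S : ℕ) : ℕ :=
  iteB (tb S y)
    (iteB (Nat.beq k 0) (iteB (tb S v) (ins 0 (tc y v) S) S)
      (iteB (Nat.beq k 1) (iteB (tb S (Nat.add 4096 v)) (ins 4096 (tc y v) S) S)
        (iteB (andB ho (andB (Nat.beq (hc v y) 0) (nprop v y)))
          (iteB (Nat.beq k 2)
            (iteB (tb S v) (ins 4096 (Nat.xor v y) (ins 4096 (Nat.xor v (omc y))
              (ins 4096 (Nat.xor v (omc (omc y))) S))) S)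
            (iteB (andB (isoc v) (andB (tb S (Nat.add 4096 (Nat.xor v y)))
              (andB (tb S (Nat.add 4096 (Nat.xor v (omc y))))
                (tb S (Nat.add 4096 (Nat.xor v (omc (omc y)))))))) (ins 0 v S) S)) S))) S

theorem iteB_prop {β : Type} {P : β → Prop} {c : Bool} {a b : β} (ha : c = true → P a)
    (hb : c = false → P b) : P (iteB c a b) := by
  cases c
  · exact hb rfl
  · exact ha rfl

theorem dec_om2 (u : ℕ) : dec F (omc (omc u)) = (om F + 1) • dec F u := by
  rw [dec_omc, dec_omc, ← mul_smul, ← pow_two, om_sq]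

theorem hoStep_sound (h : KC X) {ho : Bool} (hl : ho = true → LineX X) {k y v S : ℕ}
    (hy : y < 4096) (hv : v < 4096) (hS : HInv X S) : HInv X (hoStep ho k y v S) := by
  unfold hoStep
  simp only [tb_eq]
  refine iteB_prop (fun h1 => ?_) fun _ => hS
  have hyX := (hS y hy).1 h1
  refine iteB_prop (fun _ => iteB_prop (fun h2 => ?_) fun _ => hS) fun _ =>
    iteB_prop (fun _ => iteB_prop (fun h2 => ?_) fun _ => hS) fun _ =>
      iteB_prop (fun h3 => ?_) fun _ => hS
  · exact hS.insI h (tc_lt hy hv) (by rw [dec_tc]; exact h.tv _ hyX _ ((hS v hv).1 h2))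
  · refine hS.insO h fun hm => (hS v hv).2 h2 ?_
    have := h.tv _ hyX _ hm
    rwa [dec_tc, tv_tv (h.iso _ hyX).2] at this
  · simp only [andB_eq_true] at h3
    have h0 : hf (dec F v) (dec F y) = 0 := (hf_dec_eq_zero v y).2 (Nat.eq_of_beq_eq_true h3.2.1)
    have hn := nprop_spec (F := F) hv hy h3.2.2
    refine iteB_prop (fun _ => iteB_prop (fun h2 => ?_) fun _ => hS) fun _ =>
      iteB_prop (fun h2 => ?_) fun _ => hS
    · have hvX := (hS v hv).1 h2
      obtain ⟨c, -, hc⟩ := hl h3.1 _ hyX _ (h.iso _ hvX) h0 hn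
      have key : ∀ a : F, a ≠ 0 → dec F v + a • dec F y ∉ X := fun a ha hm =>
        ha ((hc a hm).trans (hc 0 (by simpa using hvX)).symm)
      refine HInv.insO h (HInv.insO h (hS.insO h ?_) ?_) ?_
      · rw [dec_xor, dec_om2]; exact key _ om_add_one_ne_zero
      · rw [dec_xor, dec_omc]; exact key _ om_ne_zero
      · rw [dec_xor]; simpa using key 1 one_ne_zero
    · simp only [andB_eq_true] at h2
      obtain ⟨a1, a2, a3, a4⟩ := h2
      obtain ⟨c, hc, -⟩ := hl h3.1 _ hyX _ ((iso_dec hv).2 a1) h0 hn
      have b2 := (hS _ (xor_lt hv hy)).2 a2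
      have b3 := (hS _ (xor_lt hv (omc_lt _))).2 a3
      have b4 := (hS _ (xor_lt hv (omc_lt _))).2 a4
      rw [dec_xor] at b2 b3 b4
      rw [dec_omc] at b3
      rw [dec_om2] at b4
      refine hS.insI h hv ?_
      rcases f4_cases c with rfl | rfl | rfl | rfl
      · simpa using hc
      · exact absurd (by simpa using hc) b2
      · exact absurd hc b3
      · exact absurd hc b4

/-- Run a list of steps. -/
noncomputable def hoRun (ho : Bool) (steps : List ℕ) (S : ℕ) : ℕ :=
  List.rec (motive := fun _ => ℕ → ℕ) (fun S => S)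
    (fun s _ ih S => seqL (Nat.land (Nat.shiftRight s 2) 4095) fun y =>
      seqL (Nat.land (Nat.shiftRight s 14) 4095) fun v => seq (hoStep ho (Nat.land s 3) y v S) ih) steps S

theorem land_4095_lt (x : ℕ) : Nat.land x 4095 < 4096 := Nat.lt_succ_of_le Nat.and_le_right

theorem hoRun_sound (h : KC X) {ho : Bool} (hl : ho = true → LineX X) (steps : List ℕ) {S : ℕ}
    (hS : HInv X S) : HInv X (hoRun ho steps S) := by
  induction steps generalizing S with
  | nil => exact hS
  | cons s t ih =>
    have e : hoRun ho (s :: t) S = hoRun ho t (hoStep ho (Nat.land s 3)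
        (Nat.land (Nat.shiftRight s 2) 4095) (Nat.land (Nat.shiftRight s 14) 4095) S) := by
      change seqL _ (fun y => seqL _ fun v => seq (hoStep ho _ y v S) (hoRun ho t)) = _
      rw [seqL_eq, seqL_eq, seq_eq]
    rw [e]
    exact ih (hoStep_sound h hl (land_4095_lt _) (land_4095_lt _) hS)

/-- The initial state. -/
noncomputable def hoInit (I O : List ℕ) : ℕ :=
  List.rec (List.rec 0 (fun u _ S => ins 4096 u S) O) (fun u _ S => ins 0 u S) I

theorem hoInit_sound (h : KC X) {I O : List ℕ} (hI : ∀ u ∈ I, u < 4096 ∧ dec F u ∈ X)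
    (hO : ∀ u ∈ O, dec F u ∉ X) : HInv X (hoInit I O) := by
  induction I with
  | nil =>
    induction O with
    | nil => intro u _; simp [hoInit]
    | cons a t ih => exact HInv.insO h (ih fun u hu => hO u (List.mem_cons_of_mem _ hu)) (hO a (by simp))
  | cons a t ih =>
    exact HInv.insI h (ih fun u hu => hI u (List.mem_cons_of_mem _ hu)) (hI a (by simp)).1
      (hI a (by simp)).2

theorem HInv.false {S : ℕ} (hS : HInv X S) {u : ℕ} (hu : u < 4096)
    (h : andB (tb S u) (tb S (Nat.add 4096 u)) = true) : False := by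
  simp only [andB_eq_true, tb_eq] at h
  exact (hS u hu).2 h.2 ((hS u hu).1 h.1)

/-- The state determines the set. -/
noncomputable def chkFull (S Y : ℕ) : Bool :=
  seq S fun S => allN 4096 fun u => iteB (tb Y u) (tb S u) (iteB (isoc u) (tb S (Nat.add 4096 u)) true)

theorem HInv.full (h : KC X) {S Y : ℕ} (hS : HInv X S) (hc : chkFull S Y = true) {u : ℕ}
    (hu : u < 4096) : dec F u ∈ X ↔ Y.testBit u = true := by
  rw [chkFull, seq_eq] at hc
  have := allN_spec hc u hu
  simp only [tb_eq] at this
  cases e : Y.testBit u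
  · rw [e, iteB_false] at this
    refine ⟨fun hm => ?_, by simp⟩
    rw [(iso_dec hu).1 (h.iso _ hm), iteB_true] at this
    exact absurd hm ((hS u hu).2 this)
  · rw [e, iteB_true] at this
    exact ⟨fun _ => rfl, fun _ => (hS u hu).1 this⟩

/-- The standard hyperoval (378 codes, 126 points). -/
def X0 : ℕ := nat_lit 0x811616681668688128808002800202284880800480040448000808800880800060808010801010600020208020808000004040804080800080000000000000806800810081001600020028002800800004004800480080008000000000000800100060006000800080000000000020008000000000004000000180018001000168810000811600000228000028800000044800004880000080000000000800001060000060800000800000000020000080000000004000000080010180000101160000006800000080000000020000008000000004000000080000118000001180000000100000002000000580000005400000038000000300010116000101166881811600000000022828800000000004484880000000008000000800000000106060800000000080000020000000008000004000000000008080000101010116006800000000008000020000000000800004000000000008008000001100118000100000000000200080000005000540008000000300030001000101160116166800000000000080020000000000008004000000000000088000000000111180100000000000002080000000000505408000000000030300000101010116168100000000000000280000000000005548000000000000330000001100111166600000000000000f000000050005055a000000030003033c8001011601161668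

theorem HO.not_60 (h : HO X) (hm : ∀ u ∈ [3, 12, 516, 48, 2064], dec F u ∈ X) : dec F 60 ∉ X := by
  intro h1
  refine (hoRun_sound h.toKC (ho := true) (fun _ => h.line) [983234]
    (hoInit_sound (I := [60, 3, 12, 516, 48, 2064]) (O := []) h.toKC ?_ (by simp))).false
    (u := 12) (by omega) (by decide +kernel)
  simp only [List.forall_mem_cons] at hm ⊢
  simp [hm, h1]

theorem HO.extend (h : HO X) (hm : ∀ u ∈ [3, 12, 516, 48, 2064, 63], dec F u ∈ X) {u : ℕ}
    (hu : u < 4096) : dec F u ∈ X ↔ X0.testBit u = true := by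
  have key : ∀ w < 4096, dec F w ∈ X → ∀ u ∈ w :: [3, 12, 516, 48, 2064, 63], u < 4096 ∧ dec F u ∈ X := by
    intro w hw h1
    simp only [List.forall_mem_cons] at hm ⊢
    simp [hm, h1, hw]
  have h1 : dec F 29 ∉ X := fun h1 => (hoRun_sound h.toKC (ho := true) (fun _ => h.line) [475148, 4390960, 1033264, 17563840, 479424, 4329666, 17301624, 17304796, 14372060, 29298882, 29295650, 1478274, 21889039]
    (hoInit_sound (O := []) h.toKC (key _ (by omega) h1) (by simp))).false
    (u := 1336) (by omega) (by decide +kernel)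
  have h2 : dec F 785 ∉ X := fun h1 => (hoRun_sound h.toKC (ho := true) (fun _ => h.line) [12861452, 4390960, 1033264, 12861632, 4328520, 13487176, 13124640, 4939430]
    (hoInit_sound (O := []) h.toKC (key _ (by omega) h1) (by simp))).false
    (u := 286) (by omega) (by decide +kernel)
  have h3 : dec F 797 ∉ X := fun h1 => (hoRun_sound h.toKC (ho := true) (fun _ => h.line) [13058060, 4390960, 1033264, 13058240, 4328568, 13487224, 13321248, 9002734]
    (hoInit_sound (O := []) h.toKC (key _ (by omega) h1) (by simp))).false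
    (u := 534) (by omega) (by decide +kernel)
  exact (hoRun_sound h.toKC (ho := true) (fun _ => h.line) [196622, 4390926, 786446, 17563662, 1032206, 786482, 17563698, 1032242, 787506, 17564722, 1032386, 16564239, 16711695, 278579, 4390960, 1033264, 17563840, 1036480, 4325390, 13484046, 17301518, 33275918, 17301554, 33275954, 279602, 17302578, 4325570, 13484226, 4329666, 278782, 4325446, 13484102, 13485090, 17302562, 33279198, 33280130, 8257551, 12566543, 20643855, 29933583, 278540, 13484080, 33276976, 278720, 33276096, 282816, 282572, 4329420, 13488076, 17305548, 33279948, 282608, 17301572, 33275972, 33276960, 17304796, 13549582, 24821774, 33292302, 8372238, 12386318, 30392334, 20955150, 28950542, 29294606, 294962, 540722, 1589298, 32292914, 32194610, 1572914, 33521714, 295986, 541746, 1590322, 1573938, 28951602, 32297154, 33525954, 29298882, 24822014, 28950782, 29294846, 1593294, 33525710, 1576946, 20643910, 13549638, 20955206, 295970, 24822818, 541730, 1590306, 1573922, 29295650, 298206, 543966, 33295582,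 33524958, 28953822, 24825986, 32198786, 28954754, 13557694, 1597374, 32300990, 29302718, 29935586, 32294882, 20957154, 32196578, 1574882, 33523682, 20646910, 1592318, 32295934, 30395390, 32197630, 299954, 1577906, 33526706, 547982, 13549642, 1589322, 20955210, 24825070, 543982, 33524974, 29297902, 33298350, 1595310, 32200622, 33527726, 30392454, 32202690, 1580994, 28958658, 8372614, 20955526, 28950918, 8380110, 12394190, 29302478, 32196606, 32197586, 1575890, 33524690, 28958390, 29294978, 28958714, 393231, 589839, 4456463, 4521999, 4718607, 8781839, 8912911, 9043983, 21741583, 21938191, 25935887, 33095695, 33161231, 33406991, 2359347, 2392115, 14450739, 14663731, 33046579, 24101939, 27870259, 15483075, 31248579, 8654799, 26070991, 4788211, 33476595, 23741475, 28296227, 2199683, 2265219, 31166595, 7299007, 657379, 23054307, 26839011, 330751, 564367, 1137807, 1203343, 25106351, 15712391, 7266243, 11395011, 33505671, 22716111, 27254479, 83967, 1187071, 6216959, 10345727, 98691, 164227, 33063299, 2662395, 1572876,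 33522736, 1589440, 1573056, 33521856, 32198848, 1576908, 1593328, 28950596, 29294660, 32297088, 548796, 32202684, 1591264, 1575932, 33524732, 24821832, 28950600, 29294664, 1576172, 546732, 32298924, 1578924, 28950660, 29294724, 32300992, 28958412, 1574908, 29302452, 8650766, 26066958, 4784142, 33472526, 655374, 327694, 25100302, 15482930, 31244338, 31162418, 557106, 15712306, 33505330, 33062962, 2654258, 2621490, 1327154, 1310770, 18595890, 4161586, 19873842, 19644466, 4145202, 18841650, 1081394, 1097778, 2360370, 2393138, 7291954, 23053362, 26838066, 558130, 11387954, 10339378, 2655282, 2622514, 1328178, 1311794, 29197362, 1082418, 32162866, 29180978, 24855602, 16679986, 31360050, 1098802, 32392242, 16663602, 2195650, 2261186, 1130690, 1196226, 7258306, 11387074, 82114, 1179842, 6209730, 98498, 164034, 11485378, 16613570, 16662722, 28299458, 2199746, 2265282, 1134786, 1200322, 27250882, 86210, 1183938, 102594, 168130, 25071810, 32329922, 25055426, 31297730, 82174, 98558, 164094, 25067774, 29196542, 29049086,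 32096510, 32325886, 32162046, 25051390, 29180158, 29065470, 24854782, 31293694, 31359230, 31047934, 16613630, 32391422, 16662782, 24104910, 27873230, 23744462, 28299214, 7294926, 23056334, 26841038, 22712270, 27250638, 1183694, 32329678, 11489230, 31363022, 25071602, 29183986, 4718662, 9044038, 33095750, 33407046, 4784198, 2195526, 2261062, 7258182, 11386950, 22708294, 27246662, 11485254, 2360354, 2393122, 1328162, 1311778, 29049890, 32097314, 31048738, 33049822, 33066206, 18599134, 4164830, 19877086, 19647710, 29199582, 18844894, 32165086, 29183198, 24857822, 16682206, 31362270, 32394462, 27873410, 1134722, 1200258, 102530, 168066, 26845118, 7266238, 11395006, 25075646, 32333758, 25059262, 31301566, 24102882, 27871202, 31246306, 31164386, 83938, 28300210, 27251634, 32166834, 16683954, 16667570, 25058446, 4718666, 1130570, 19877102, 18844910, 32099566, 2365358, 7296942, 10344366, 28297214, 6259763, 24871987, 31114291, 147651, 1114307, 2162883, 2228419, 10453187, 16597187]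
    (hoInit_sound (O := [29, 785, 797]) h.toKC (key _ (by omega) (hm 3 (by simp)))
      (by simp [h1, h2, h3]))).full h.toKC (by decide +kernel) hu

/-! ### Transitivity -/

theorem su_step1 {S : Set (Fin 6 → F)} {v w : Fin 6 → F} (hv : hf v v = 0) (hw : hf w w = 0)
    (h : hf w v ≠ 0) (hS : ∀ s ∈ S, hf s v = 0 ∧ hf s w = 0) :
    ∃ g : SU 6 F 2, (∀ s ∈ S, g • s = s) ∧ ∃ c : F, c ≠ 0 ∧ g • w = c • v := by
  have h1 : hf w (hf w v • v) = 1 := by
    rw [hf, herm_smul_right, mul_comm]; exact f4_cube h
  have h2 : hf (hf w v • v) w = 1 := herm_eq_one_comm h1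
  have h3 : hf (hf w v • v) (hf w v • v) = 0 := by simp [hv]
  refine ⟨sT (hf w v • v + w) ?_, fun s hs => ?_, _, h, ?_⟩
  · rw [hf, herm_add_left, herm_add_right, herm_add_right]
    linear_combination h1 + h2 + h3 + hw + f4_two (F := F)
  · rw [sT_smul, tv_of_orth]
    simp [(hS s hs).1, (hS s hs).2]
  · rw [sT_smul, tv, hf, herm_add_right]
    change w + (hf w _ + hf w w) • _ = _
    rw [h1, hw, add_zero, one_smul, add_comm _ w, ← add_assoc, v4_add_self, zero_add]

theorem su_step2 {S : Set (Fin 6 → F)} {v w q : Fin 6 → F} (hv : hf v v = 0) (hw : hf w w = 0)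
    (hq : hf q q = 0) (h : hf w v ≠ 0) (h' : hf q w ≠ 0)
    (hS : ∀ s ∈ S, hf s v = 0 ∧ hf s w = 0 ∧ hf s q = 0) :
    ∃ g : SU 6 F 2, (∀ s ∈ S, g • s = s) ∧ ∃ c : F, c ≠ 0 ∧ g • q = c • v := by
  obtain ⟨g, hg, c, hc, e⟩ := su_step1 hv hw h fun s hs => ⟨(hS s hs).1, (hS s hs).2.1⟩
  obtain ⟨g', hg', c', hc', e'⟩ := su_step1 hw hq h' fun s hs => ⟨(hS s hs).2.1, (hS s hs).2.2⟩
  refine ⟨g * g', fun s hs => by rw [mul_smul, hg' s hs, hg s hs], c' * c, mul_ne_zero hc' hc, ?_⟩
  rw [mul_smul, e', su_smul_smul, e, mul_smul]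

theorem su_trans {v q : Fin 6 → F} (hv : Iso v) (hq : Iso q) :
    ∃ g : SU 6 F 2, ∃ c : F, c ≠ 0 ∧ g • q = c • v := by
  obtain ⟨w, h1, h2, h3⟩ := exists_iso_both (q := 2) hv.1 hq.1 hv.2 hq.2
  obtain ⟨g, -, h⟩ := su_step2 (S := ∅) hv.2 h1 hq.2 h2 (mt hf_comm.1 h3) (by simp)
  exact ⟨g, h⟩

theorem su_shift {p y : Fin 6 → F} (hp : hf p p = 0) (hy : hf y y = 0) (h : hf y p = 0) (a : F) :
    ∃ g : SU 6 F 2, ∀ v, hf v p = 0 → g • v = v + (hf v y * a) • p := by
  have h' : hf p y = 0 := hf_comm.1 h
  refine ⟨sT y hy * sT (y + a • p) (by simp [hp, hy, h, h']), fun v hv => ?_⟩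
  simp only [mul_smul, sT_smul, tv, herm_add_left, herm_add_right, herm_smul_left, herm_smul_right,
    hv, hy, h', mul_zero, add_zero, smul_add]
  funext i
  simp only [Pi.add_apply, Pi.smul_apply, smul_eq_mul]
  linear_combination hf v y * y i * f4_two (F := F)

theorem HO.shift (h : HO X) (h3 : dec F 3 ∈ X) {q y : ℕ} (hq : q < 4096) {L : List ℕ}
    (hL : ∀ u ∈ L, dec F u ∈ X)
    (hc : (isoc q && nprop q 3 && hc q 3 == 0 && hc y y == 0 && hc y 3 == 0 && hc q y != 0 &&
      L.all fun u => hc u 3 == 0 && hc u y == 0) = true) :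
    ∃ g : SU 6 F 2, ∀ u ∈ q :: L, g • dec F u ∈ X := by
  simp only [Bool.and_eq_true, beq_iff_eq, bne_iff_ne, List.all_eq_true] at hc
  obtain ⟨⟨⟨⟨⟨⟨a1, a2⟩, a3⟩, a4⟩, a5⟩, a6⟩, a7⟩ := hc
  obtain ⟨c, hc, -⟩ := h.line _ h3 _ ((iso_dec hq).2 a1) ((hf_dec_eq_zero _ _).2 a3)
    (nprop_spec hq (by omega) a2)
  have a8 : hf (dec F q) (dec F y) ≠ 0 := mt (hf_dec_eq_zero _ _).1 a6
  obtain ⟨g, hg⟩ := su_shift (F := F) ((hf_dec_eq_zero 3 3).2 rfl) ((hf_dec_eq_zero _ _).2 a4)
    ((hf_dec_eq_zero _ _).2 a5) ((hf (dec F q) (dec F y))⁻¹ * c)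
  refine ⟨g, List.forall_mem_cons.2 ⟨?_, fun u hu => ?_⟩⟩
  · rw [hg _ ((hf_dec_eq_zero _ _).2 a3), mul_inv_cancel_left₀ a8]; exact hc
  · rw [hg _ ((hf_dec_eq_zero _ _).2 (a7 u hu).1), (hf_dec_eq_zero _ _).2 (a7 u hu).2]
    simpa using hL u hu

theorem dl_dec {c : F} (hc : c ≠ 0) {u : ℕ} (h : Nat.land u 195 = 0) : dl c hc • dec F u = dec F u := by
  funext i
  rw [dl_apply]
  split_ifs with hi
  · have key : ∀ j, Nat.testBit 195 j = true → bF F u j = 0 := fun j hj => by
      have := congrArg (fun x => Nat.testBit x j) h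
      simp only [show Nat.land u 195 = u &&& 195 from rfl, Nat.testBit_and, hj] at this
      simp_all [bF]
    have h1 : i = 0 ∨ i = 1 := by omega
    rcases h1 with rfl | rfl
    · simp [dec, key 0 rfl, key 6 rfl]
    · simp [dec, key 1 rfl, key 7 rfl]
  · rfl

theorem dl_dec_three {c : F} (hc : c ≠ 0) : dl c hc • dec F 3 = c • dec F 3 := by
  funext i
  rw [dl_apply]
  split_ifs with hi
  · rfl
  · have h1 : Nat.testBit 3 i = false := by fin_cases i <;> simp_all <;> rfl
    have h2 : Nat.testBit 3 (6 + i) = false := by fin_cases i <;> rfl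
    simp [dec, bF, h1, h2]

theorem HO.classify (h : HO X) (hne : X.Nonempty) :
    ∃ (g : SU 6 F 2) (c : F) (hc : c ≠ 0), ∀ u < 4096,
      (g • dl c hc • dec F u ∈ X ↔ X0.testBit u = true) := by
  obtain ⟨v, hv⟩ := hne
  obtain ⟨g0, c0, hc0, e0⟩ := su_trans (h.iso v hv) ((iso_dec (F := F) (u := 3) (by omega)).2 rfl)
  have H0 := h.comapS g0
  have m0 : ∀ u ∈ [3], dec F u ∈ {v | g0 • v ∈ X} := by simpa [e0] using h.smul c0 hc0 v hv
  obtain ⟨g1, m1⟩ := H0.shift (m0 3 (by simp)) (q := 12) (y := 516) (by omega) m0 (by decide +kernel)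
  have H1 := H0.comapS g1
  obtain ⟨g2, m2⟩ := H1.shift (m1 3 (by simp)) (q := 516) (y := 12) (by omega) m1 (by decide +kernel)
  have H2 := H1.comapS g2
  obtain ⟨g3, m3⟩ := H2.shift (m2 3 (by simp)) (q := 48) (y := 2064) (L := [516, 12, 3]) (by omega) m2
    (by decide +kernel)
  have H3 := H2.comapS g3
  obtain ⟨g4, m4⟩ := H3.shift (m3 3 (by simp)) (q := 2064) (y := 48) (L := [48, 516, 12, 3]) (by omega)
    m3 (by decide +kernel)
  have H4 := H3.comapS g4
  obtain ⟨c, hc, -⟩ := H4.line _ (m4 3 (by simp)) _ ((iso_dec (u := 60) (by omega)).2 rfl)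
    ((hf_dec_eq_zero _ _).2 rfl) (nprop_spec (by omega) (by omega) rfl)
  have hc0 : c ≠ 0 := by
    rintro rfl
    refine H4.not_60 (fun u hu => m4 u ?_) (by simpa using hc)
    simp only [List.mem_cons, List.not_mem_nil, or_false] at hu ⊢
    omega
  refine ⟨g0 * g1 * g2 * g3 * g4, c, hc0, fun u hu => ?_⟩
  rw [← (H4.comap (dl c hc0)).extend ?_ hu]
  · simp only [mul_smul, Set.mem_ofPred_eq]
  · have e : dec F 63 = dec F 60 + dec F 3 := dec_xor 60 3
    simp only [List.forall_mem_cons, Set.mem_ofPred_eq] at m4 ⊢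
    rw [e, smul_add, dl_dec_three, dl_dec hc0 (u := 12) rfl, dl_dec hc0 (u := 516) rfl,
      dl_dec hc0 (u := 48) rfl, dl_dec hc0 (u := 2064) rfl, dl_dec hc0 (u := 60) rfl]
    exact ⟨H4.smul c hc0 _ m4.2.2.2.2.1, m4.2.2.2.1, m4.2.2.1, m4.2.1, m4.1, hc, by simp⟩

end Cfsg.Agent.Fischer
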